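import Cfsg.Prelude.Def_LocalStructure
import Cfsg.Agent.LAE60.Basic
import Cfsg.Agent.LAE60.SPE
import Cfsg.Agent.Coprime.Generation

/-!
Characteristic `p` passes to normal subgroups and to normalizers of `p`-subgroups; parabolic
characteristic `p` and centralizers of `p`-central elements.
-/

set_option autoImplicit false
set_option linter.unusedVariables false

open Subgroup
open scoped commutatorElement

namespace Cfsg.Agent.LAE60

open Cfsg.Agent.Fusion (cj mem_cj cj_cj cj_mono cj_eq_of_mem conj_mem_cj)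

variable {G : Type*} [Group G] [Finite G] {p : ℕ} [hp : Fact p.Prime]

omit [Finite G] hp in
theorem cj_centralizer (g : G) (S : Subgroup G) :
    cj g (centralizer (S : Set G)) = centralizer (cj g S : Set G) := by
  ext x
  rw [mem_cj, mem_centralizer_iff, mem_centralizer_iff]
  constructor
  · rintro h _ ⟨a, ha, rfl⟩
    have := congrArg (fun z => g * z * g⁻¹) (h a ha)
    simpa [mul_assoc] using this
  · intro h a ha
    have := congrArg (fun z => g⁻¹ * z * g) (h _ ⟨a, ha, rfl⟩)
    simpa [mul_assoc] using this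

omit [Finite G] hp in
theorem pCoreOf_map {H : Type*} [Group H] (f : G →* H) (hf : Function.Injective f) (K : Subgroup G) :
    Cfsg.pCoreOf p (K.map f) = (Cfsg.pCoreOf p K).map f := by
  have h := Cores.map_pCore_equiv (p := p) (K.equivMapOfInjective f hf)
  rw [Cfsg.pCoreOf, ← h, Cfsg.pCoreOf, map_map, map_map]
  rfl

omit [Finite G] hp in
/-- Characteristic `p` is invariant under injective homomorphisms. -/
theorem charP_map {H : Type*} [Group H] (f : G →* H) (hf : Function.Injective f) (K : Subgroup G) :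
    K.map f ⊓ centralizer (Cfsg.pCoreOf p (K.map f) : Set H) ≤ Cfsg.pCoreOf p (K.map f) ↔
      K ⊓ centralizer (Cfsg.pCoreOf p K : Set G) ≤ Cfsg.pCoreOf p K := by
  rw [pCoreOf_map f hf]
  constructor
  · intro h x hx
    refine (mem_map_iff_mem hf).1 (h ⟨mem_map_of_mem f hx.1, ?_⟩)
    rintro _ ⟨w, hw, rfl⟩
    rw [← map_mul, ← map_mul, hx.2 w hw]
  · rintro h _ ⟨⟨x, hx, rfl⟩, hc⟩
    refine mem_map_of_mem f (h ⟨hx, fun w hw => hf ?_⟩)
    rw [map_mul, map_mul]
    exact hc (f w) ⟨w, hw, rfl⟩

omit [Finite G] hp in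
theorem charP_cj (g : G) (K : Subgroup G)
    (h : K ⊓ centralizer (Cfsg.pCoreOf p K : Set G) ≤ Cfsg.pCoreOf p K) :
    cj g K ⊓ centralizer (Cfsg.pCoreOf p (cj g K) : Set G) ≤ Cfsg.pCoreOf p (cj g K) :=
  (charP_map _ (MulAut.conj g).injective K).2 h

/-- Characteristic `p` passes to normal subgroups. -/
theorem charP_of_normal {K N : Subgroup G} (hNK : N ≤ K) (hn : K ≤ normalizer (N : Set G))
    (hK : K ⊓ centralizer (Cfsg.pCoreOf p K : Set G) ≤ Cfsg.pCoreOf p K) :
    N ⊓ centralizer (Cfsg.pCoreOf p N : Set G) ≤ Cfsg.pCoreOf p N := by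
  set C := N ⊓ centralizer (Cfsg.pCoreOf p N : Set G)
  refine le_pCoreOf inf_le_left (le_normalizer_inf Subgroup.le_normalizer
    (le_normalizer_centralizer (le_normalizer_pCoreOf N))) ?_
  refine isPGroup_of_forall_coprime fun z hz hzc => ?_
  refine eq_one_of_coprime_of_mem (pCoreOf_isPGroup K) (hK ⟨hNK hz.1, fun w hw => ?_⟩) hzc
  have hd : ⁅z, w⁆ ∈ Cfsg.pCoreOf p N := by
    have h1 : ⁅z, w⁆ ∈ N ⊓ Cfsg.pCoreOf p K :=
      ⟨commutator_le_left_of_le_normalizer ((pCoreOf_le K).trans hn)
          (commutator_mem_commutator hz.1 hw),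
        commutator_le_right_of_le_normalizer (hNK.trans (le_normalizer_pCoreOf K))
          (commutator_mem_commutator hz.1 hw)⟩
    exact inf_pCoreOf_le hNK h1
  exact (commute_of_commutator_mem (pCoreOf_isPGroup N) hzc hd (hz.2 _ hd).symm).eq.symm

/-- Characteristic `p` passes to the normalizer of a `p`-subgroup. -/
theorem charP_normalizer {K X : Subgroup G} (hX : IsPGroup p X) (hXK : X ≤ K)
    (hK : K ⊓ centralizer (Cfsg.pCoreOf p K : Set G) ≤ Cfsg.pCoreOf p K) :
    (K ⊓ normalizer (X : Set G)) ⊓ centralizer (Cfsg.pCoreOf p (K ⊓ normalizer (X : Set G)) : Set G) ≤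
      Cfsg.pCoreOf p (K ⊓ normalizer (X : Set G)) := by
  set N := K ⊓ normalizer (X : Set G)
  set W := Cfsg.pCoreOf p K
  refine le_pCoreOf inf_le_left (le_normalizer_inf Subgroup.le_normalizer
    (le_normalizer_centralizer (le_normalizer_pCoreOf N))) ?_
  refine isPGroup_of_forall_coprime fun z hz hzc => ?_
  have hXN : X ≤ Cfsg.pCoreOf p N :=
    le_pCoreOf (le_inf hXK Subgroup.le_normalizer) inf_le_right hX
  have hXz : X ≤ centralizer (zpowers z : Set G) := by
    intro x hx
    rw [zpowers_eq_closure, centralizer_closure]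
    exact mem_centralizer_singleton_iff.2 (hz.2 x (hXN hx))
  have hWX : W ⊓ centralizer (X : Set G) ≤ Cfsg.pCoreOf p N := by
    refine le_pCoreOf (le_inf (inf_le_left.trans (pCoreOf_le K))
      (inf_le_right.trans (centralizer_le_normalizer' X))) ?_ (pCoreOf_isPGroup K).to_inf_left
    exact le_normalizer_inf (inf_le_left.trans (le_normalizer_pCoreOf K))
      (le_normalizer_centralizer inf_le_right)
  have hQ : (Nat.card (zpowers z)).Coprime p := by rwa [Nat.card_zpowers]
  have hzV := Coprime.pxq_lemma hX hQ (pCoreOf_isPGroup K) (hXK.trans (le_normalizer_pCoreOf K))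
    ((zpowers_le.2 hz.1.1).trans (le_normalizer_pCoreOf K)) hXz
    ((zpowers_le.2 hz.2).trans (centralizer_le hWX))
  exact eq_one_of_coprime_of_mem (pCoreOf_isPGroup K) (hK ⟨hz.1.1, hzV (mem_zpowers z)⟩) hzc

/-- Characteristic `p` passes from the centralizer in `A` of a central element of `X` to the
normalizer of `X` in `A`. -/
theorem charP_normalizer_of_centralizer {A X : Subgroup G} (hX : IsPGroup p X) (hXA : X ≤ A)
    {u : G} (huX : u ∈ X) (hu : ∀ x ∈ X, x * u = u * x)
    (hK : (A ⊓ centralizer ({u} : Set G)) ⊓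
      centralizer (Cfsg.pCoreOf p (A ⊓ centralizer ({u} : Set G)) : Set G) ≤
      Cfsg.pCoreOf p (A ⊓ centralizer ({u} : Set G))) :
    (A ⊓ normalizer (X : Set G)) ⊓ centralizer (Cfsg.pCoreOf p (A ⊓ normalizer (X : Set G)) : Set G) ≤
      Cfsg.pCoreOf p (A ⊓ normalizer (X : Set G)) := by
  set N := A ⊓ normalizer (X : Set G)
  set K := A ⊓ centralizer ({u} : Set G)
  set C := N ⊓ centralizer (Cfsg.pCoreOf p N : Set G) with hC
  have hXK : X ≤ K := le_inf hXA fun x hx => mem_centralizer_singleton_iff.2 (hu x hx)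
  have hXN : X ≤ Cfsg.pCoreOf p N :=
    le_pCoreOf (le_inf hXA Subgroup.le_normalizer) inf_le_right hX
  have hNC : N ≤ normalizer (C : Set G) :=
    le_normalizer_inf Subgroup.le_normalizer (le_normalizer_centralizer (le_normalizer_pCoreOf N))
  have hCK : C ≤ K := le_inf (inf_le_left.trans inf_le_left)
    (inf_le_right.trans (centralizer_le (Set.singleton_subset_iff.2 (hXN huX))))
  have h1 := charP_normalizer hX hXK hK
  have h2 := charP_of_normal (K := K ⊓ normalizer (X : Set G)) (N := C)
    (le_inf hCK (inf_le_left.trans inf_le_right))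
    ((inf_le_inf_right _ inf_le_left).trans hNC) h1
  have h3 : Cfsg.pCoreOf p C ≤ Cfsg.pCoreOf p N := pCoreOf_le_pCoreOf inf_le_left hNC
  exact (le_inf le_rfl (inf_le_right.trans (centralizer_le h3))).trans (h2.trans h3)

omit [Finite G] hp in
theorem centralizer_singleton_le_normalizer (u : G) :
    centralizer ({u} : Set G) ≤ normalizer (zpowers u : Set G) := by
  refine le_trans ?_ (centralizer_le_normalizer' _)
  rw [zpowers_eq_closure, centralizer_closure]

omit [Finite G] hp in
theorem normalizer_le_normalizer_centralizer_singleton (u : G) :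
    normalizer (zpowers u : Set G) ≤ normalizer (centralizer ({u} : Set G) : Set G) := by
  have : centralizer ({u} : Set G) = centralizer (zpowers u : Set G) := by
    rw [zpowers_eq_closure, centralizer_closure]
  rw [this]
  exact normalizer_le_normalizer_centralizer _

/-- In parabolic characteristic `p` the centralizer of a `p`-element in the centre of a Sylow
subgroup has characteristic `p`. -/
theorem charP_centralizer_of_parabolic (hG : Cfsg.IsOfParabolicCharacteristic p G) (S : Sylow p G)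
    {u : G} (hu : u ∈ (S : Subgroup G)) (hu1 : u ≠ 1) (hc : ∀ s ∈ (S : Subgroup G), s * u = u * s) :
    centralizer ({u} : Set G) ⊓
      centralizer (Cfsg.pCoreOf p (centralizer ({u} : Set G)) : Set G) ≤
      Cfsg.pCoreOf p (centralizer ({u} : Set G)) := by
  refine charP_of_normal (centralizer_singleton_le_normalizer u)
    (normalizer_le_normalizer_centralizer_singleton u) ?_
  refine (charP_core_iff _).1 (hG _ (S.2.to_le (zpowers_le.2 hu)) (by simpa using hu1) ⟨S, ?_⟩)
  exact le_trans (fun s hs => mem_centralizer_singleton_iff.2 (hc s hs))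
    (centralizer_singleton_le_normalizer u)

/-- Every local subgroup over a Sylow subgroup has characteristic `p` as soon as the centralizers
of central elements of order `p` have. -/
theorem isOfParabolicCharacteristic_of_centralizer (S : Sylow p G)
    (h : ∀ z ∈ (S : Subgroup G), orderOf z = p → (∀ s ∈ (S : Subgroup G), s * z = z * s) →
      centralizer ({z} : Set G) ⊓
        centralizer (Cfsg.pCoreOf p (centralizer ({z} : Set G)) : Set G) ≤
        Cfsg.pCoreOf p (centralizer ({z} : Set G))) :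
    Cfsg.IsOfParabolicCharacteristic p G := by
  rintro R hR hR1 ⟨T, hT⟩
  rw [charP_core_iff]
  have hRT : R ≤ (T : Subgroup G) :=
    le_sup_right.trans (T.3 (isPGroup_sup T.2 hR hT) le_sup_left).le
  obtain ⟨u₀, hu₀, hu₀R, hu₀T⟩ : ∃ u : G, u ≠ 1 ∧ u ∈ R ∧ u ∈ centralizer ((T : Subgroup G) : Set G) := by
    set P := (T : Subgroup G)
    haveI : (R.subgroupOf P).Normal :=
      (Subgroup.normal_subgroupOf_iff_le_normalizer hRT).2 hT
    have hne : R.subgroupOf P ≠ ⊥ := by
      rw [Ne, Subgroup.subgroupOf_eq_bot, disjoint_iff, inf_eq_left.2 hRT]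
      exact hR1
    obtain ⟨⟨x, hx⟩, hx1⟩ :=
      (Subgroup.ne_bot_iff_exists_ne_one).1 (PGroup.inf_center_ne_bot T.2 _ hne)
    exact ⟨x, fun e => hx1 (Subtype.ext (Subtype.ext e)), hx.1,
      fun q hq => congrArg Subtype.val (Subgroup.mem_center_iff.1 hx.2 ⟨q, hq⟩)⟩
  have hne : R ⊓ centralizer ((T : Subgroup G) : Set G) ≠ ⊥ := fun e =>
    hu₀ (Subgroup.mem_bot.1 (e ▸ (⟨hu₀R, hu₀T⟩ : u₀ ∈ R ⊓ centralizer ((T : Subgroup G) : Set G))))
  obtain ⟨u, hu, hup⟩ := exists_orderOf_eq_of_ne_bot hR.to_inf_left hne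
  obtain ⟨g, hg⟩ := Fusion.exists_cj_sylow T S
  have hgu : g * u * g⁻¹ ∈ (S : Subgroup G) := hg ▸ conj_mem_cj.2 (hRT hu.1)
  have hK := h _ hgu (by rw [show g * u * g⁻¹ = MulAut.conj g u by simp, MulEquiv.orderOf_eq, hup])
    (fun s hs => by
      obtain ⟨t, ht, rfl⟩ := (hg ▸ hs : s ∈ cj g (T : Subgroup G))
      change g * t * g⁻¹ * (g * u * g⁻¹) = g * u * g⁻¹ * (g * t * g⁻¹)
      calc g * t * g⁻¹ * (g * u * g⁻¹) = g * (t * u) * g⁻¹ := by group
        _ = g * (u * t) * g⁻¹ := by rw [hu.2 t ht]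
        _ = _ := by group)
  have hcj : cj g⁻¹ (centralizer ({g * u * g⁻¹} : Set G)) = centralizer ({u} : Set G) := by
    ext x
    rw [Fusion.mem_cj_inv, mem_centralizer_singleton_iff, mem_centralizer_singleton_iff]
    constructor
    · intro e
      have := congrArg (fun z => g⁻¹ * z * g) e
      simpa [mul_assoc] using this
    · intro e
      have := congrArg (fun z => g * z * g⁻¹) e
      simpa [mul_assoc] using this
  have hK' := charP_cj g⁻¹ _ hK
  rw [hcj] at hK'
  have := charP_normalizer_of_centralizer (A := ⊤) hR le_top hu.1 (fun x hx => hu.2 x (hRT hx))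
    (by rw [top_inf_eq]; exact hK')
  rwa [top_inf_eq] at this

end Cfsg.Agent.LAE60
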