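import Cfsg.Prelude.Def_LocalStructure
import Cfsg.Agent.LAE60.Basic
import Cfsg.Agent.Fusion.WeakClosure
import Cfsg.Agent.PGroup.Basic

/-!
Weakly closed and large subgroups, weak closure, and the centralizer lemma for weakly closed
self-centralizing subgroups.
-/

set_option autoImplicit false
set_option linter.unusedVariables false
set_option linter.style.haveILetI false

open Subgroup
open scoped commutatorElement

namespace Cfsg.Agent.LAE60

open Cfsg.Agent.Fusion (cj mem_cj cj_cj cj_one cj_mono cj_le_iff le_cj_iff cj_eq_of_mem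
  cj_eq_iff_mem_normalizer cj_normalizer isPGroup_cj)

variable {G : Type*} [Group G] [Finite G] {p : ℕ} [hp : Fact p.Prime]

/-! ### Weakly closed subgroups -/

omit [Finite G] hp in
theorem wcs_isPGroup {Q : Subgroup G} (h : Cfsg.IsWeaklyClosedSubgroup p Q) : IsPGroup p Q := by
  obtain ⟨T, hT⟩ := h; exact T.2.to_le hT.1

/-- The only conjugate of `Q` in a `p`-subgroup containing `Q` is `Q`. -/
theorem wcs_eq {Q : Subgroup G} (h : Cfsg.IsWeaklyClosedSubgroup p Q) {g : G} {R : Subgroup G}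
    (hR : IsPGroup p R) (hQR : Q ≤ R) (hg : cj g Q ≤ R) : cj g Q = Q := by
  obtain ⟨T, hT⟩ := h
  obtain ⟨S, hS⟩ := hR.exists_le_sylow
  exact Fusion.wc_eq (Fusion.wc_sylow hT S (hQR.trans hS)) (hg.trans hS)

theorem wcs_normalizer_le {Q : Subgroup G} (h : Cfsg.IsWeaklyClosedSubgroup p Q) {R : Subgroup G}
    (hR : IsPGroup p R) (hQR : Q ≤ R) :
    normalizer (R : Set G) ≤ normalizer (Q : Set G) := by
  intro g hg
  exact cj_eq_iff_mem_normalizer.1 (wcs_eq h hR hQR ((cj_mono g hQR).trans (cj_eq_of_mem hg).le))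

theorem wcs_le_normalizer {Q : Subgroup G} (h : Cfsg.IsWeaklyClosedSubgroup p Q) {R : Subgroup G}
    (hR : IsPGroup p R) (hQR : Q ≤ R) : R ≤ normalizer (Q : Set G) :=
  Subgroup.le_normalizer.trans (wcs_normalizer_le h hR hQR)

theorem wcs_of_forall {Q : Subgroup G} (hQ : IsPGroup p Q)
    (h : ∀ (g : G) (R : Subgroup G), IsPGroup p R → Q ≤ R → cj g Q ≤ R → cj g Q = Q) :
    Cfsg.IsWeaklyClosedSubgroup p Q := by
  obtain ⟨T, hT⟩ := hQ.exists_le_sylow
  exact ⟨T, hT, fun g hg => h g T T.2 hT hg⟩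

/-- A `p`-subgroup normalized by `Q` normalizes `Q`. -/
theorem wcs_le_normalizer_of_normalized {Q : Subgroup G} (h : Cfsg.IsWeaklyClosedSubgroup p Q)
    {U : Subgroup G} (hU : IsPGroup p U) (hQU : Q ≤ normalizer (U : Set G)) :
    U ≤ normalizer (Q : Set G) :=
  le_sup_right.trans (wcs_le_normalizer h (isPGroup_sup (wcs_isPGroup h) hU hQU) le_sup_left)

/-- Conjugates of `Q` inside a subgroup `M` containing `Q` are conjugate in `M`. -/
theorem wcs_exists_conj {Q M : Subgroup G} (h : Cfsg.IsWeaklyClosedSubgroup p Q) (hQM : Q ≤ M)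
    {g : G} (hg : cj g Q ≤ M) : ∃ m ∈ M, cj m Q = cj g Q := by
  obtain ⟨S, hS1, hS2⟩ := Fusion.exists_sylow_inf_relIndex (wcs_isPGroup h) hQM
  obtain ⟨T, hT1, hT2⟩ := Fusion.exists_sylow_inf_relIndex (isPGroup_cj (wcs_isPGroup h) g) hg
  obtain ⟨y, hy, hyeq⟩ := Fusion.exists_conj_of_relIndex T.2.to_inf_left S.2.to_inf_left
    inf_le_right inf_le_right hT2 hS2
  refine ⟨y⁻¹, inv_mem hy, ?_⟩
  have h1 : cj (y * g) Q ≤ (S : Subgroup G) := by
    rw [← cj_cj]
    exact ((cj_mono y (le_inf hT1 hg)).trans hyeq.le).trans inf_le_left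
  have h2 := wcs_eq h S.2 hS1 h1
  conv_lhs => rw [← h2]
  rw [cj_cj, inv_mul_cancel_left]

/-- Frattini argument: a subgroup `N` normalized by `Q` is `N_N(Q)[N,Q]`. -/
theorem wcs_exists_mul {Q N : Subgroup G} (h : Cfsg.IsWeaklyClosedSubgroup p Q)
    (hQN : Q ≤ normalizer (N : Set G)) {n : G} (hn : n ∈ N) :
    ∃ a ∈ N ⊓ normalizer (Q : Set G), ∃ b ∈ ⁅N, Q⁆, n = a * b := by
  obtain ⟨m, hm, hmeq⟩ := wcs_exists_conj h (M := ⁅N, Q⁆ ⊔ Q) le_sup_right (g := n)
    (cj_le_commutator_sup hn)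
  have hsub : ⁅N, Q⁆ ≤ N := commutator_le_left_of_le_normalizer hQN
  rw [← SetLike.mem_coe, sup_comm,
    Subgroup.coe_mul_of_left_le_normalizer_right _ _ (right_le_normalizer_commutator N Q)] at hm
  obtain ⟨q, hq, b₀, hb₀, rfl⟩ := hm
  obtain ⟨b, hb, hbm⟩ : ∃ b ∈ ⁅N, Q⁆, cj b Q = cj (q * b₀) Q := by
    refine ⟨q * b₀ * q⁻¹, conj_mem_of_mem_normalizer (right_le_normalizer_commutator N Q hq) hb₀, ?_⟩
    rw [← cj_cj, cj_eq_of_mem (Subgroup.le_normalizer (inv_mem hq))]
  have h1 : cj (b⁻¹ * n) Q = Q := by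
    rw [← cj_cj, ← hmeq, ← hbm, cj_cj, inv_mul_cancel, cj_one]
  have h2 : b⁻¹ * n ∈ normalizer (Q : Set G) := cj_eq_iff_mem_normalizer.1 h1
  have h3 : b⁻¹ * n ∈ N := mul_mem (inv_mem (hsub hb)) hn
  refine ⟨b⁻¹ * n, ⟨h3, h2⟩, n⁻¹ * b * n, ?_, by group⟩
  have := conj_mem_of_mem_normalizer (inv_mem (left_le_normalizer_commutator N Q hn)) hb
  simpa using this

/-! ### The centralizer lemma -/

/-- If `C` and `Q` normalize the `p`-group `W` and `C` centralizes `[W,Q]`, then the `p'`-elements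
of `[C,Q]` centralize `W`. -/
theorem res_commutator_le_centralizer {C Q W : Subgroup G} (hW : IsPGroup p W)
    (hCW : C ≤ normalizer (W : Set G)) (hQW : Q ≤ normalizer (W : Set G))
    (hQC : Q ≤ normalizer (C : Set G)) (hWQ : ⁅W, Q⁆ ≤ centralizer (C : Set G)) :
    res p ⁅C, Q⁆ ≤ centralizer (W : Set G) := by
  set Z := res p ⁅C, Q⁆ with hZ
  have hZC : Z ≤ C := (res_le _).trans (commutator_le_left_of_le_normalizer hQC)
  have hCZ : C ≤ normalizer (Z : Set G) :=
    (left_le_normalizer_commutator C Q).trans (normalizer_le_normalizer_res _)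
  have hQZ : Q ≤ normalizer (Z : Set G) :=
    (right_le_normalizer_commutator C Q).trans (normalizer_le_normalizer_res _)
  set D := W ⊓ centralizer (Z : Set G) with hD
  suffices W ≤ centralizer (Z : Set G) from mem_centralizer_comm this
  by_contra hne
  have hDW : D < W := lt_of_le_not_ge inf_le_left fun hle => hne (hle.trans inf_le_right)
  have hgrow := Fusion.lt_normalizer_inf hW hDW
  obtain ⟨w, hw, hwD⟩ := SetLike.exists_of_lt hgrow
  have hCD : C ≤ normalizer (D : Set G) := le_normalizer_inf hCW (le_normalizer_centralizer hCZ)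
  have hQD : Q ≤ normalizer (D : Set G) := le_normalizer_inf hQW (le_normalizer_centralizer hQZ)
  set W2 := W ⊓ normalizer (D : Set G) with hW2
  have hCW2 : C ≤ normalizer (W2 : Set G) :=
    le_normalizer_inf hCW (hCD.trans Subgroup.le_normalizer)
  have hQW2 : Q ≤ normalizer (W2 : Set G) :=
    le_normalizer_inf hQW (hQD.trans Subgroup.le_normalizer)
  have hQtriv : ⁅Q, W2⁆ ≤ D := by
    rw [Subgroup.commutator_comm]
    exact le_inf ((commutator_mono inf_le_left le_rfl).trans (commutator_le_left_of_le_normalizer hQW))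
      ((commutator_mono inf_le_left le_rfl).trans (hWQ.trans (centralizer_le hZC)))
  have hW2D : W2 ≤ normalizer (D : Set G) := inf_le_right
  have key : ⁅⁅C, Q⁆, W2⁆ ≤ D := by
    rw [Subgroup.commutator_def C Q]
    refine commutator_closure_le ?_ ?_
    · rintro _ ⟨c, hc, q, hq, rfl⟩
      rw [commutatorElement_def]
      exact mul_mem (mul_mem (mul_mem (hCD hc) (hQD hq)) (inv_mem (hCD hc))) (inv_mem (hQD hq))
    · rintro _ ⟨c, hc, q, hq, rfl⟩ v hv
      have hv' : c⁻¹ * v * c⁻¹⁻¹ ∈ W2 := conj_mem_of_mem_normalizer (inv_mem (hCW2 hc)) hv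
      -- `c q c⁻¹` acts trivially on `W2` modulo `D`
      have hcq : ∀ u ∈ W2, ⁅c * q * c⁻¹, u⁆ ∈ D := by
        intro u hu
        have hu' : c⁻¹ * u * c⁻¹⁻¹ ∈ W2 := conj_mem_of_mem_normalizer (inv_mem (hCW2 hc)) hu
        have := conj_mem_of_mem_normalizer (hCD hc)
          (hQtriv (commutator_mem_commutator hq hu'))
        have e : ⁅c * q * c⁻¹, u⁆ = c * ⁅q, c⁻¹ * u * c⁻¹⁻¹⁆ * c⁻¹ := by
          simp only [commutatorElement_def]; group
        rwa [e]
      have hq' : ⁅q⁻¹, v⁆ ∈ D := hQtriv (commutator_mem_commutator (inv_mem hq) hv)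
      have hu : q⁻¹ * v * q⁻¹⁻¹ ∈ W2 := conj_mem_of_mem_normalizer (inv_mem (hQW2 hq)) hv
      have e : ⁅⁅c, q⁆, v⁆ = ⁅c * q * c⁻¹, q⁻¹ * v * q⁻¹⁻¹⁆ * ⁅q⁻¹, v⁆ := by
        simp only [commutatorElement_def]; group
      rw [e]
      exact mul_mem (hcq _ hu) hq'
  refine hwD ⟨hw.1, ?_⟩
  rw [hZ, res_eq_closure, centralizer_closure]
  refine mem_centralizer_iff.2 ?_
  intro z ⟨hz, hzc⟩
  have hd : ⁅z, w⁆ ∈ D := key (commutator_mem_commutator hz hw)
  exact (commute_of_commutator_mem (hW.to_le inf_le_left) hzc hd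
    (hd.2 z (mem_res hz hzc))).eq

/-- If `[C,Q]` is a `p`-group, then `C` normalizes the weakly closed subgroup `Q`. -/
theorem le_normalizer_of_res_eq_bot {C Q : Subgroup G} (h : Cfsg.IsWeaklyClosedSubgroup p Q)
    (hres : res p ⁅C, Q⁆ = ⊥) : C ≤ normalizer (Q : Set G) := by
  have h1 : IsPGroup p ↥(Q ⊔ ⁅C, Q⁆) :=
    isPGroup_sup (wcs_isPGroup h) (res_eq_bot_iff.1 hres) (right_le_normalizer_commutator C Q)
  intro c hc
  rw [← cj_eq_iff_mem_normalizer]
  exact wcs_eq h h1 le_sup_left ((cj_le_commutator_sup hc).trans (sup_comm _ _).le)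

omit [Finite G] in
/-- A `p'`-element of `C ≤ N(Q)` centralizing `Q ∩ C` is trivial when `C(Q) ≤ Q`. -/
theorem isPGroup_of_le_normalizer [Finite G] {C Q : Subgroup G} (hQ : IsPGroup p Q)
    (hCQ : centralizer (Q : Set G) ≤ Q) (hQC : Q ≤ normalizer (C : Set G))
    (hC : C ≤ normalizer (Q : Set G))
    (hfix : C ≤ centralizer ((Q ⊓ C : Subgroup G) : Set G)) : IsPGroup p C := by
  refine isPGroup_of_forall_coprime fun c hc hcop => eq_one_of_coprime_of_mem hQ (hCQ ?_) hcop
  intro q hq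
  have hd : ⁅c, q⁆ ∈ Q ⊓ C :=
    ⟨commutator_le_right_of_le_normalizer hC (commutator_mem_commutator hc hq),
      commutator_le_left_of_le_normalizer hQC (commutator_mem_commutator hc hq)⟩
  exact (commute_of_commutator_mem (hQ.to_le inf_le_left) hcop hd (hfix hc _ hd).symm).eq.symm

/-- `C(O_p(L)) ∩ L` meets a weakly closed `Q` inside `O_p(L)` once it normalizes `Q`. -/
theorem inf_centralizer_le_pCoreOf {L Q C : Subgroup G} (hQ : IsPGroup p Q) (hQL : Q ≤ L)
    (hLC : L ≤ normalizer (C : Set G)) (hC : C ≤ normalizer (Q : Set G)) :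
    Q ⊓ C ≤ Cfsg.pCoreOf p L := by
  refine le_trans ?_ (pCoreOf_le_pCoreOf (N := L ⊓ C) inf_le_left
    (le_normalizer_inf Subgroup.le_normalizer hLC))
  refine le_pCoreOf (le_inf (inf_le_left.trans hQL) inf_le_right) ?_ (hQ.to_le inf_le_left)
  exact le_normalizer_inf (inf_le_right.trans hC) (inf_le_right.trans Subgroup.le_normalizer)

theorem centralizer_isPGroup_of_le_normalizer {L Q : Subgroup G} (hQ : IsPGroup p Q)
    (hCQ : centralizer (Q : Set G) ≤ Q) (hQL : Q ≤ L)
    (hC : centralizer (Cfsg.pCoreOf p L : Set G) ≤ normalizer (Q : Set G)) :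
    IsPGroup p ↥(centralizer (Cfsg.pCoreOf p L : Set G)) := by
  have hLC : L ≤ normalizer (centralizer (Cfsg.pCoreOf p L : Set G) : Set G) :=
    le_normalizer_centralizer (le_normalizer_pCoreOf L)
  refine isPGroup_of_le_normalizer hQ hCQ (hQL.trans hLC) hC ?_
  exact mem_centralizer_comm ((inf_centralizer_le_pCoreOf hQ hQL hLC hC).trans
    (mem_centralizer_comm le_rfl))

omit [Finite G] in
theorem charP_of_centralizer_isPGroup {L : Subgroup G}
    (h : IsPGroup p ↥(centralizer (Cfsg.pCoreOf p L : Set G))) :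
    L ⊓ centralizer (Cfsg.pCoreOf p L : Set G) ≤ Cfsg.pCoreOf p L :=
  le_pCoreOf inf_le_left
    (le_normalizer_inf Subgroup.le_normalizer (le_normalizer_centralizer (le_normalizer_pCoreOf L)))
    (h.to_le inf_le_right)

/-- Criterion for the centralizer of `O_p(L)` to be a `p`-group, inside a group `K` of
characteristic `p`. -/
theorem centralizer_isPGroup_of_charP {L K Q : Subgroup G} (h : Cfsg.IsWeaklyClosedSubgroup p Q)
    (hCQ : centralizer (Q : Set G) ≤ Q) (hQL : Q ≤ L) (hLK : L ≤ K)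
    (hK : K ⊓ centralizer (Cfsg.pCoreOf p K : Set G) ≤ Cfsg.pCoreOf p K) :
    IsPGroup p ↥(L ⊓ centralizer (Cfsg.pCoreOf p L : Set G)) := by
  set R := Cfsg.pCoreOf p L
  set W := Cfsg.pCoreOf p K
  set C := L ⊓ centralizer (R : Set G) with hCdef
  have hQW : Q ≤ normalizer (W : Set G) := (hQL.trans hLK).trans (le_normalizer_pCoreOf K)
  have hCW : C ≤ normalizer (W : Set G) :=
    (inf_le_left.trans hLK).trans (le_normalizer_pCoreOf K)
  have hLC : L ≤ normalizer (C : Set G) :=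
    le_normalizer_inf Subgroup.le_normalizer (le_normalizer_centralizer (le_normalizer_pCoreOf L))
  have hWQ : ⁅W, Q⁆ ≤ centralizer (C : Set G) := by
    have h1 : W ≤ normalizer (Q : Set G) :=
      wcs_le_normalizer_of_normalized h (pCoreOf_isPGroup K) hQW
    have h2 : ⁅W, Q⁆ ≤ R := by
      refine le_trans (le_inf ((commutator_le_right_of_le_normalizer h1).trans hQL)
        (commutator_le_left_of_le_normalizer hQW)) ?_
      exact inf_pCoreOf_le hLK
    exact h2.trans (mem_centralizer_comm inf_le_right)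
  have h3 := res_commutator_le_centralizer (pCoreOf_isPGroup K) hCW hQW (hQL.trans hLC) hWQ
  have hres : res p ⁅C, Q⁆ = ⊥ := by
    rw [← res_res, res_eq_bot_iff]
    refine (pCoreOf_isPGroup K).to_le (le_trans (le_inf ?_ h3) hK)
    exact (res_le _).trans ((commutator_le_left_of_le_normalizer (hQL.trans hLC)).trans
      (inf_le_left.trans hLK))
  have hN : C ≤ normalizer (Q : Set G) := le_normalizer_of_res_eq_bot h hres
  refine isPGroup_of_le_normalizer (wcs_isPGroup h) hCQ (hQL.trans hLC) hN ?_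
  exact mem_centralizer_comm ((inf_centralizer_le_pCoreOf (wcs_isPGroup h) hQL hLC hN).trans
    (mem_centralizer_comm inf_le_right))

/-- The centralizer of `O_p(L)` is a `p`-group if it normalizes ... a group `K` of characteristic
`p` containing it and `Q`. -/
theorem centralizer_pCoreOf_isPGroup {L K Q : Subgroup G} (h : Cfsg.IsWeaklyClosedSubgroup p Q)
    (hCQ : centralizer (Q : Set G) ≤ Q) (hQL : Q ≤ L) (hQK : Q ≤ K)
    (hCK : centralizer (Cfsg.pCoreOf p L : Set G) ≤ K)
    (hK : K ⊓ centralizer (Cfsg.pCoreOf p K : Set G) ≤ Cfsg.pCoreOf p K) :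
    IsPGroup p ↥(centralizer (Cfsg.pCoreOf p L : Set G)) := by
  set R := Cfsg.pCoreOf p L
  set C := centralizer (R : Set G) with hCdef
  have hLC : L ≤ normalizer (C : Set G) := le_normalizer_centralizer (le_normalizer_pCoreOf L)
  have hQC : Q ≤ normalizer (C : Set G) := hQL.trans hLC
  refine centralizer_isPGroup_of_le_normalizer (wcs_isPGroup h) hCQ hQL
    (le_normalizer_of_res_eq_bot h ?_)
  set L2 := C ⊔ Q with hL2
  set P := Cfsg.pCoreOf p L2
  set U := Cfsg.pCoreOf p C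
  have hC2 := centralizer_isPGroup_of_charP h hCQ (L := L2) le_sup_right (sup_le hCK hQK) hK
  have hL2c : L2 ⊓ centralizer (P : Set G) ≤ P :=
    le_pCoreOf inf_le_left (le_normalizer_inf Subgroup.le_normalizer
      (le_normalizer_centralizer (le_normalizer_pCoreOf L2))) hC2
  set Z := res p ⁅C, Q⁆ with hZ
  have hZC : Z ≤ C := (res_le _).trans (commutator_le_left_of_le_normalizer hQC)
  have hQU : Q ≤ normalizer (U : Set G) := hQC.trans (normalizer_le_normalizer_pCoreOf C)
  have hUQ : ⁅U, Q⁆ ≤ centralizer (C : Set G) := by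
    have h1 : U ≤ normalizer (Q : Set G) :=
      wcs_le_normalizer_of_normalized h (pCoreOf_isPGroup C) hQU
    have h2 : ⁅U, Q⁆ ≤ R := by
      refine le_trans (le_inf ((commutator_le_right_of_le_normalizer h1).trans hQL)
        (commutator_le_left_of_le_normalizer hQU)) ?_
      exact le_pCoreOf inf_le_left (le_normalizer_inf Subgroup.le_normalizer
        (hLC.trans (normalizer_le_normalizer_pCoreOf C))) ((pCoreOf_isPGroup C).to_le inf_le_right)
    exact h2.trans (mem_centralizer_comm le_rfl)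
  have hZU := res_commutator_le_centralizer (pCoreOf_isPGroup C) (le_normalizer_pCoreOf C) hQU
    hQC hUQ
  have hCL2 : L2 ≤ normalizer (C : Set G) := sup_le Subgroup.le_normalizer hQC
  have hPC : ⁅C, P⁆ ≤ U := by
    refine le_pCoreOf (commutator_le_left_of_le_normalizer ((pCoreOf_le L2).trans hCL2))
      (le_normalizer_commutator Subgroup.le_normalizer
        ((le_sup_left : C ≤ L2).trans (le_normalizer_pCoreOf L2))) ?_
    exact (pCoreOf_isPGroup L2).to_le
      (commutator_le_right_of_le_normalizer ((le_sup_left : C ≤ L2).trans (le_normalizer_pCoreOf L2)))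
  have hZP : Z ≤ centralizer (P : Set G) := by
    rw [hZ]
    refine res_le_iff.2 fun z hz hc w hw => ?_
    have hzC : z ∈ C := commutator_le_left_of_le_normalizer hQC hz
    have hd : ⁅z, w⁆ ∈ U := hPC (commutator_mem_commutator hzC hw)
    exact (commute_of_commutator_mem (pCoreOf_isPGroup C) hc hd
      ((hZU (mem_res hz hc) _ hd).symm)).eq.symm
  rw [hZ, ← res_res, res_eq_bot_iff]
  exact (pCoreOf_isPGroup L2).to_le ((le_inf (hZC.trans le_sup_left) hZP).trans hL2c)

/-! ### Large subgroups -/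

/-- A nontrivial `p`-subgroup normalized by a `p`-group meets its centralizer. -/
theorem exists_ne_one_centralizer {Y Q : Subgroup G} (hY : IsPGroup p Y) (hY1 : Y ≠ ⊥)
    (hQ : IsPGroup p Q) (hQY : Q ≤ normalizer (Y : Set G)) :
    ∃ u : G, u ≠ 1 ∧ u ∈ Y ∧ u ∈ centralizer (Q : Set G) := by
  set P := Q ⊔ Y
  have hP : IsPGroup p P := isPGroup_sup hQ hY hQY
  haveI : (Y.subgroupOf P).Normal :=
    (Subgroup.normal_subgroupOf_iff_le_normalizer le_sup_right).2
      (sup_le hQY Subgroup.le_normalizer)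
  have hne : Y.subgroupOf P ≠ ⊥ := by
    rw [Ne, Subgroup.subgroupOf_eq_bot, disjoint_iff, inf_eq_left.2 (le_sup_right : Y ≤ P)]
    exact hY1
  have := PGroup.inf_center_ne_bot hP _ hne
  obtain ⟨⟨x, hx⟩, hx1'⟩ := (Subgroup.ne_bot_iff_exists_ne_one).1 this
  have hx1 : x ≠ 1 := fun e => hx1' (Subtype.ext e)
  refine ⟨x, fun e => hx1 (Subtype.ext e), hx.1, fun q hq => ?_⟩
  exact congrArg Subtype.val (Subgroup.mem_center_iff.1 hx.2 ⟨q, mem_sup_left hq⟩)

variable {Q : Subgroup G}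

omit [Finite G] hp in
theorem large_centralizer_le_normalizer (hL : Cfsg.IsLarge Q) {u : G} (hu1 : u ≠ 1)
    (hu : u ∈ centralizer (Q : Set G)) :
    centralizer ({u} : Set G) ≤ normalizer (Q : Set G) := by
  refine le_trans ?_ (hL.2 (zpowers u) (zpowers_le.2 hu) (by simpa using hu1))
  refine le_trans ?_ (centralizer_le_normalizer' _)
  rw [zpowers_eq_closure, centralizer_closure]

theorem large_centralizer_le_normalizer' (hL : Cfsg.IsLarge Q) (hQ : IsPGroup p Q)
    {Y : Subgroup G} (hY : IsPGroup p Y) (hY1 : Y ≠ ⊥) (hQY : Q ≤ normalizer (Y : Set G)) :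
    centralizer (Y : Set G) ≤ normalizer (Q : Set G) := by
  obtain ⟨u, hu1, huY, huQ⟩ := exists_ne_one_centralizer hY hY1 hQ hQY
  exact (centralizer_le (Set.singleton_subset_iff.2 huY)).trans
    (large_centralizer_le_normalizer hL hu1 huQ)

/-- A large `p`-subgroup is normal in every `p`-subgroup containing it. -/
theorem large_le_normalizer (hL : Cfsg.IsLarge Q) (hQ1 : Q ≠ ⊥) {T : Subgroup G}
    (hT : IsPGroup p T) (hQT : Q ≤ T) : T ≤ normalizer (Q : Set G) := by
  have hT1 : T ≠ ⊥ := fun e => hQ1 (eq_bot_iff.2 (e ▸ hQT))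
  obtain ⟨u, hu1, huT, huc⟩ :=
    exists_ne_one_centralizer hT hT1 hT Subgroup.le_normalizer
  exact le_trans (fun t ht => mem_centralizer_singleton_iff.2 (huc t ht))
    (large_centralizer_le_normalizer hL hu1 (centralizer_le hQT huc))

omit [Finite G] hp in
theorem large_cj (hL : Cfsg.IsLarge Q) (g : G) : Cfsg.IsLarge (cj g Q) := by
  have hc : ∀ A : Subgroup G, cj g (centralizer (A : Set G)) = centralizer (cj g A : Set G) := by
    intro A
    ext x
    rw [mem_cj, mem_centralizer_iff, mem_centralizer_iff]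
    constructor
    · rintro h _ ⟨a, ha, rfl⟩
      have := congrArg (fun z => g * z * g⁻¹) (h a ha)
      simpa [mul_assoc] using this
    · intro h a ha
      have := congrArg (fun z => g⁻¹ * z * g) (h _ ⟨a, ha, rfl⟩)
      simpa [mul_assoc] using this
  constructor
  · rw [← hc]; exact cj_mono g hL.1
  · intro U hU hU1
    rw [← hc] at hU
    have h1 : cj g⁻¹ U ≤ centralizer (Q : Set G) := by rw [cj_le_iff, inv_inv]; exact hU
    have h2 : cj g⁻¹ U ≠ ⊥ := by
      rwa [Ne, Subgroup.map_eq_bot_iff_of_injective _ (MulAut.conj g⁻¹).injective]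
    have := cj_mono g (hL.2 _ h1 h2)
    rwa [cj_normalizer, cj_normalizer, cj_cj, mul_inv_cancel, cj_one] at this

/-- A large `p`-subgroup is weakly closed. -/
theorem large_wcs (hL : Cfsg.IsLarge Q) (hQ : IsPGroup p Q) (hQ1 : Q ≠ ⊥) :
    Cfsg.IsWeaklyClosedSubgroup p Q := by
  obtain ⟨T, hT⟩ := hQ.exists_le_sylow
  refine ⟨T, hT, fun g hg => ?_⟩
  change cj g Q = Q
  have hg1 : cj g Q ≠ ⊥ := by
    rwa [Ne, Subgroup.map_eq_bot_iff_of_injective _ (MulAut.conj g).injective]
  obtain ⟨n, hn, hne⟩ := Fusion.exists_normalizer_cj_eq T (g := g)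
    (large_le_normalizer hL hQ1 T.2 hT) (large_le_normalizer (large_cj hL g) hg1 T.2 hg)
  rw [← hne]
  refine cj_eq_of_mem ?_
  set U := (T : Subgroup G) ⊓ centralizer ((T : Subgroup G) : Set G)
  have hU1 : U ≠ ⊥ := by
    obtain ⟨u, hu1, huT, huc⟩ := exists_ne_one_centralizer (Y := (T : Subgroup G)) T.2
      (fun e => hQ1 (eq_bot_iff.2 (e ▸ hT))) T.2 Subgroup.le_normalizer
    exact fun e => hu1 (by simpa [e] using (show u ∈ U from ⟨huT, huc⟩))
  refine hL.2 U (inf_le_right.trans (centralizer_le hT)) hU1 ?_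
  exact le_normalizer_inf le_rfl (le_normalizer_centralizer le_rfl) hn

theorem large_inf_centralizer_eq_bot (hL : Cfsg.IsLarge Q) (hQ : IsPGroup p Q) (hQ1 : Q ≠ ⊥)
    {g : G} (hg : g ∉ normalizer (Q : Set G)) :
    centralizer (Q : Set G) ⊓ centralizer (cj g Q : Set G) = ⊥ := by
  by_contra h
  obtain ⟨⟨u, hu⟩, hu1'⟩ := (Subgroup.ne_bot_iff_exists_ne_one).1 h
  have hu1 : u ≠ 1 := fun e => hu1' (Subtype.ext e)
  have h1 : Q ≤ normalizer (cj g Q : Set G) :=
    le_trans (fun q hq => mem_centralizer_singleton_iff.2 (hu.1 q hq))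
      (large_centralizer_le_normalizer (large_cj hL g) hu1 hu.2)
  refine hg (cj_eq_iff_mem_normalizer.1 ?_)
  exact wcs_eq (large_wcs hL hQ hQ1) (isPGroup_sup hQ (isPGroup_cj hQ g) h1) le_sup_left le_sup_right

/-! ### Weak closure -/

omit [Finite G] hp in
theorem cj_le_weakClosure {L : Subgroup G} {g : G} (h : cj g Q ≤ L) :
    cj g Q ≤ Cfsg.weakClosure Q L :=
  le_iSup (fun g : {g : G // Q.map (MulAut.conj g).toMonoidHom ≤ L} =>
    Q.map (MulAut.conj (g : G)).toMonoidHom) ⟨g, h⟩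

omit [Finite G] hp in
theorem weakClosure_le_iff {L X : Subgroup G} :
    Cfsg.weakClosure Q L ≤ X ↔ ∀ g : G, cj g Q ≤ L → cj g Q ≤ X :=
  ⟨fun h g hg => (cj_le_weakClosure hg).trans h, fun h => iSup_le fun g => h g.1 g.2⟩

omit [Finite G] hp in
theorem le_weakClosure {L : Subgroup G} (h : Q ≤ L) : Q ≤ Cfsg.weakClosure Q L := by
  have := cj_le_weakClosure (Q := Q) (g := 1) (L := L) (by rwa [cj_one])
  rwa [cj_one] at this

omit [Finite G] hp in
theorem weakClosure_le (L : Subgroup G) : Cfsg.weakClosure Q L ≤ L :=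
  weakClosure_le_iff.2 fun _ h => h

omit [Finite G] hp in
theorem weakClosure_mono {L M : Subgroup G} (h : L ≤ M) :
    Cfsg.weakClosure Q L ≤ Cfsg.weakClosure Q M :=
  weakClosure_le_iff.2 fun _ hg => cj_le_weakClosure (hg.trans h)

omit [Finite G] hp in
theorem normalizer_le_normalizer_weakClosure (L : Subgroup G) :
    normalizer (L : Set G) ≤ normalizer (Cfsg.weakClosure Q L : Set G) := by
  refine mem_normalizer_of_forall fun s hs x hx => ?_
  have key : Cfsg.weakClosure Q L ≤ cj s⁻¹ (Cfsg.weakClosure Q L) := by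
    refine weakClosure_le_iff.2 fun g hg => ?_
    rw [le_cj_iff, inv_inv, cj_cj]
    exact cj_le_weakClosure (by rw [← cj_cj]; exact (cj_mono s hg).trans (cj_eq_of_mem hs).le)
  exact Fusion.mem_cj_inv.1 (key hx)

omit [Finite G] hp in
theorem le_normalizer_weakClosure (L : Subgroup G) :
    L ≤ normalizer (Cfsg.weakClosure Q L : Set G) :=
  Subgroup.le_normalizer.trans (normalizer_le_normalizer_weakClosure L)

theorem weakClosure_le_iff_of_le (h : Cfsg.IsWeaklyClosedSubgroup p Q) {L X : Subgroup G}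
    (hQL : Q ≤ L) : Cfsg.weakClosure Q L ≤ X ↔ ∀ l ∈ L, cj l Q ≤ X := by
  rw [weakClosure_le_iff]
  constructor
  · intro hh l hl
    exact hh l ((cj_mono l hQL).trans (cj_eq_of_mem (Subgroup.le_normalizer hl)).le)
  · intro hh g hg
    obtain ⟨m, hm, hme⟩ := wcs_exists_conj h hQL hg
    exact hme ▸ hh m hm

theorem cj_le_of_mem {L : Subgroup G} (hQL : Q ≤ L) {l : G} (hl : l ∈ L) : cj l Q ≤ L :=
  (cj_mono l hQL).trans (cj_eq_of_mem (Subgroup.le_normalizer hl)).le

theorem weakClosure_eq_iff_le_normalizer (h : Cfsg.IsWeaklyClosedSubgroup p Q) {L : Subgroup G}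
    (hQL : Q ≤ L) : Cfsg.weakClosure Q L = Q ↔ L ≤ normalizer (Q : Set G) := by
  constructor
  · intro e
    have := le_normalizer_weakClosure (Q := Q) L
    rwa [e] at this
  · intro hn
    refine le_antisymm ((weakClosure_le_iff_of_le h hQL).2 fun l hl => ?_) (le_weakClosure hQL)
    rw [cj_eq_of_mem (hn hl)]

/-! ### Consequences of a large subgroup -/

theorem large_centralizer_pCoreOf_isPGroup (hL : Cfsg.IsLarge Q) (hQ : IsPGroup p Q)
    {L : Subgroup G} (hQL : Q ≤ L) (hR : Cfsg.pCoreOf p L ≠ ⊥) :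
    IsPGroup p ↥(centralizer (Cfsg.pCoreOf p L : Set G)) :=
  centralizer_isPGroup_of_le_normalizer hQ hL.1 hQL
    (large_centralizer_le_normalizer' hL hQ (pCoreOf_isPGroup L) hR
      (hQL.trans (le_normalizer_pCoreOf L)))

theorem large_parabolic_centralizer_le (hL : Cfsg.IsLarge Q) (hQ : IsPGroup p Q)
    {R : Subgroup G} (T : Sylow p G) (hTR : (T : Subgroup G) ≤ R) (hR : Cfsg.pCoreOf p R ≠ ⊥) :
    centralizer (Cfsg.pCoreOf p R : Set G) ≤ Cfsg.pCoreOf p R := by
  obtain ⟨S, hS⟩ := hQ.exists_le_sylow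
  obtain ⟨g, hg⟩ := Fusion.exists_cj_sylow S T
  have hQ' : cj g Q ≤ R := (cj_mono g hS).trans (hg.le.trans hTR)
  have hC := large_centralizer_pCoreOf_isPGroup (large_cj hL g) (isPGroup_cj hQ g) hQ' hR
  have hTC : (T : Subgroup G) ≤ normalizer (centralizer (Cfsg.pCoreOf p R : Set G) : Set G) :=
    le_normalizer_centralizer (hTR.trans (le_normalizer_pCoreOf R))
  have hCT : centralizer (Cfsg.pCoreOf p R : Set G) ≤ (T : Subgroup G) :=
    le_sup_right.trans (T.3 (isPGroup_sup T.2 hC hTC) le_sup_left).le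
  exact le_trans (le_inf (hCT.trans hTR) le_rfl) (charP_of_centralizer_isPGroup hC)

theorem large_isOfParabolicCharacteristic (hL : Cfsg.IsLarge Q) (hQ : IsPGroup p Q) :
    Cfsg.IsOfParabolicCharacteristic p G := by
  rintro R hR hR1 ⟨T, hT⟩
  rw [charP_core_iff]
  refine inf_le_right.trans (large_parabolic_centralizer_le hL hQ T hT ?_)
  intro e
  exact hR1 (eq_bot_iff.2 (e ▸ le_pCoreOf Subgroup.le_normalizer le_rfl hR))

theorem large_weakClosure_sup_centralizer (hL : Cfsg.IsLarge Q) (hQ : IsPGroup p Q) (hQ1 : Q ≠ ⊥)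
    {L Y : Subgroup G} (hQL : Q ≤ L) (hY : IsPGroup p Y) (hY1 : Y ≠ ⊥)
    (hLY : L ≤ normalizer (Y : Set G)) :
    Cfsg.weakClosure Q (L ⊔ centralizer (Y : Set G)) = Cfsg.weakClosure Q L := by
  refine le_antisymm ?_ (weakClosure_mono le_sup_left)
  rw [weakClosure_le_iff_of_le (large_wcs hL hQ hQ1) (hQL.trans le_sup_left)]
  intro x hx
  rw [← SetLike.mem_coe,
    Subgroup.coe_mul_of_left_le_normalizer_right _ _ (le_normalizer_centralizer hLY)] at hx
  obtain ⟨l, hl, c, hc, rfl⟩ := hx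
  rw [← cj_cj, cj_eq_of_mem
    (large_centralizer_le_normalizer' hL hQ hY hY1 (hQL.trans hLY) hc)]
  exact cj_le_weakClosure (cj_le_of_mem hQL hl)

theorem large_centralizer_le_normalizer_weakClosure (hL : Cfsg.IsLarge Q) (hQ : IsPGroup p Q)
    {L Y : Subgroup G} (hY : IsPGroup p Y) (hY1 : Y ≠ ⊥) (hLY : L ≤ normalizer (Y : Set G)) :
    centralizer (Y : Set G) ≤ normalizer (Cfsg.weakClosure Q L : Set G) := by
  intro c hc
  rw [← cj_eq_iff_mem_normalizer]
  have hn : ∀ g : G, cj g Q ≤ L → cj c (cj g Q) = cj g Q := fun g hg => cj_eq_of_mem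
    (large_centralizer_le_normalizer' (large_cj hL g) (isPGroup_cj hQ g) hY hY1 (hg.trans hLY) hc)
  rw [Fusion.cj, Cfsg.weakClosure, Subgroup.map_iSup]
  exact iSup_congr fun g => hn g.1 g.2

end Cfsg.Agent.LAE60
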