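import Cfsg.Prelude.Def_LocalStructure
import Cfsg.Agent.LAE60.Basic
import Cfsg.Agent.LAE60.SPE
import Cfsg.Agent.Modules.ElemAb
import Cfsg.Agent.LocalP.PClosed

/-!
`p`-reduced normal subgroups of subgroups of an ambient group: the largest one, monotonicity over a
Sylow subgroup, and `Ω₁(Z(T))`.
-/

set_option autoImplicit false
set_option linter.unusedVariables false
set_option linter.style.haveILetI false

open Subgroup
open scoped commutatorElement

namespace Cfsg.Agent.LAE60

open Cfsg.Agent.Fusion (cj mem_cj cj_cj cj_mono cj_eq_of_mem conj_mem_cj)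

variable {G : Type*} [Group G] {p : ℕ}

/-- `V` is a `p`-reduced normal subgroup of the subgroup `L`, all viewed in the ambient group. -/
def IsRed (p : ℕ) (L V : Subgroup G) : Prop :=
  V ≤ L ∧ L ≤ normalizer (V : Set G) ∧ Cfsg.IsElementaryAbelian p V ∧
    ∀ D : Subgroup G, D ≤ L → L ≤ normalizer (D : Set G) →
      (∀ x ∈ D, ∃ k : ℕ, x ^ p ^ k ∈ centralizer (V : Set G)) → D ≤ centralizer (V : Set G)

theorem centralizer_subgroupOf {L V : Subgroup G} (hVL : V ≤ L) :
    centralizer (V.subgroupOf L : Set L) = (centralizer (V : Set G)).subgroupOf L := by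
  ext x
  simp only [mem_subgroupOf, mem_centralizer_iff]
  constructor
  · intro h v hv
    exact congrArg Subtype.val (h ⟨v, hVL hv⟩ hv)
  · intro h v hv
    exact Subtype.ext (h v hv)

theorem isRed_of_isPReducedNormal {L V : Subgroup G} (hVL : V ≤ L)
    (h : Cfsg.IsPReducedNormal p (V.subgroupOf L)) : IsRed p L V := by
  obtain ⟨hn, he, hC, hcore⟩ := h
  refine ⟨hVL, (normal_subgroupOf_iff_le_normalizer hVL).1 hn, ?_, fun D hDL hDn hD => ?_⟩
  · have := Modules.elemAb_map L.subtype he
    rwa [subgroupOf_map_subtype, inf_eq_left.2 hVL] at this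
  · haveI : (D.subgroupOf L).Normal := (normal_subgroupOf_iff_le_normalizer hDL).2 hDn
    set q := QuotientGroup.mk' (centralizer (V.subgroupOf L : Set L))
    have h1 : (D.subgroupOf L).map q ≤ ⊥ := by
      rw [← hcore]
      refine Cores.le_pCore ((inferInstance : (D.subgroupOf L).Normal).map q
        (QuotientGroup.mk'_surjective _)) ?_
      rintro ⟨_, y, hy, rfl⟩
      obtain ⟨k, hk⟩ := hD y hy
      refine ⟨k, Subtype.ext ?_⟩
      show q y ^ p ^ k = 1
      rw [← map_pow]
      refine (QuotientGroup.eq_one_iff _).2 ?_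
      rw [centralizer_subgroupOf hVL]
      exact hk
    intro x hx
    have := h1 ⟨⟨x, hDL hx⟩, hx, rfl⟩
    rw [mem_bot, QuotientGroup.mk'_apply, QuotientGroup.eq_one_iff, centralizer_subgroupOf hVL] at this
    exact this

theorem isPReducedNormal_of_isRed {L V : Subgroup G} (h : IsRed p L V) :
    Cfsg.IsPReducedNormal p (V.subgroupOf L) := by
  obtain ⟨hVL, hn, he, hD⟩ := h
  have hC : (centralizer (V.subgroupOf L : Set L)).Normal := by
    rw [centralizer_subgroupOf hVL]
    exact normal_subgroupOf_iff_le_normalizer_inf.2 ((le_normalizer_inf (le_normalizer_centralizer hn) Subgroup.le_normalizer))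
  refine ⟨(normal_subgroupOf_iff_le_normalizer hVL).2 hn, Modules.elemAb_subgroupOf he, hC, ?_⟩
  set q := QuotientGroup.mk' (centralizer (V.subgroupOf L : Set L))
  set D' := (Cfsg.pCore p (L ⧸ centralizer (V.subgroupOf L : Set L))).comap q
  haveI : D'.Normal := inferInstance
  have hDL : D'.map L.subtype ≤ L := map_subtype_le _
  have hle : D'.map L.subtype ≤ centralizer (V : Set G) := by
    refine hD _ hDL ?_ ?_
    · rw [← normal_subgroupOf_iff_le_normalizer hDL,
        show (D'.map L.subtype).subgroupOf L = D' from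
          comap_map_eq_self_of_injective L.subtype_injective D']
      infer_instance
    · rintro _ ⟨y, hy, rfl⟩
      obtain ⟨k, hk⟩ := Cores.pCore_isPGroup ⟨q y, hy⟩
      refine ⟨k, ?_⟩
      have h1 : q y ^ p ^ k = 1 := congrArg Subtype.val hk
      rw [← map_pow, QuotientGroup.mk'_apply, QuotientGroup.eq_one_iff,
        centralizer_subgroupOf hVL] at h1
      exact h1
  refine eq_bot_iff.2 fun z hz => ?_
  obtain ⟨y, rfl⟩ := QuotientGroup.mk'_surjective _ z
  rw [mem_bot, QuotientGroup.mk'_apply, QuotientGroup.eq_one_iff, centralizer_subgroupOf hVL]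
  exact hle ⟨y, hz, rfl⟩

theorem isRed_bot (L : Subgroup G) : IsRed p L ⊥ := by
  refine ⟨bot_le, by rw [normalizer_eq_top]; exact le_top, Modules.elemAb_bot p, fun D _ _ _ => ?_⟩
  intro x _ v hv
  rw [coe_bot, Set.mem_singleton_iff] at hv
  subst hv; simp

theorem red_le_pCoreOf {L V : Subgroup G} (h : IsRed p L V) : V ≤ Cfsg.pCoreOf p L :=
  le_pCoreOf h.1 h.2.1 (Modules.elemAb_isPGroup h.2.2.1)

theorem pCoreOf_le_centralizer_red {L V : Subgroup G} (h : IsRed p L V) :
    Cfsg.pCoreOf p L ≤ centralizer (V : Set G) := by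
  refine h.2.2.2 _ (pCoreOf_le L) (le_normalizer_pCoreOf L) fun x hx => ?_
  obtain ⟨k, hk⟩ := LocalP.exists_pow_eq_one_of_mem (pCoreOf_isPGroup L) hx
  exact ⟨k, hk ▸ one_mem _⟩

theorem isRed_sup {L V W : Subgroup G} (hV : IsRed p L V) (hW : IsRed p L W) :
    IsRed p L (V ⊔ W) := by
  refine ⟨sup_le hV.1 hW.1, le_normalizer_sup hV.2.1 hW.2.1,
    Modules.elemAb_sup hV.2.2.1 hW.2.2.1 (mem_centralizer_comm ((red_le_pCoreOf hV).trans (pCoreOf_le_centralizer_red hW))),
    fun D hDL hDn hD => ?_⟩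
  have hV' : D ≤ centralizer (V : Set G) := hV.2.2.2 D hDL hDn fun x hx =>
    (hD x hx).imp fun k hk => centralizer_le (le_sup_left : V ≤ V ⊔ W) hk
  have hW' : D ≤ centralizer (W : Set G) := hW.2.2.2 D hDL hDn fun x hx =>
    (hD x hx).imp fun k hk => centralizer_le (le_sup_right : W ≤ V ⊔ W) hk
  exact mem_centralizer_comm (sup_le (mem_centralizer_comm hV') (mem_centralizer_comm hW'))

theorem largestPReducedOf_le (L : Subgroup G) : Cfsg.largestPReducedOf p L ≤ L := map_subtype_le _

theorem le_largestPReducedOf {L V : Subgroup G} (h : IsRed p L V) :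
    V ≤ Cfsg.largestPReducedOf p L := by
  have h1 : V.subgroupOf L ≤ Cfsg.largestPReduced p ↥L := le_sSup (isPReducedNormal_of_isRed h)
  have := Subgroup.map_mono (f := L.subtype) h1
  rwa [subgroupOf_map_subtype, inf_eq_left.2 h.1] at this

theorem isRed_largest [Finite G] (L : Subgroup G) : IsRed p L (Cfsg.largestPReducedOf p L) := by
  have key : IsRed p L ((sSup {N : Subgroup L | N.Normal ∧ Cfsg.IsPReducedNormal p N}).map L.subtype) := by
    have hs := Cores.sSup_normal_induction (G := L) (P := Cfsg.IsPReducedNormal p) ?_ ?_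
    · refine isRed_of_isPReducedNormal (map_subtype_le _) ?_
      rwa [show ((sSup {N : Subgroup L | N.Normal ∧ Cfsg.IsPReducedNormal p N}).map L.subtype).subgroupOf L
        = _ from comap_map_eq_self_of_injective L.subtype_injective _]
    · have := isPReducedNormal_of_isRed (isRed_bot (p := p) L)
      rwa [bot_subgroupOf] at this
    · intro A B _ _ hA hB
      have hA' : IsRed p L (A.map L.subtype) := isRed_of_isPReducedNormal (map_subtype_le _)
        (by rwa [show (A.map L.subtype).subgroupOf L = A from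
          comap_map_eq_self_of_injective L.subtype_injective A])
      have hB' : IsRed p L (B.map L.subtype) := isRed_of_isPReducedNormal (map_subtype_le _)
        (by rwa [show (B.map L.subtype).subgroupOf L = B from
          comap_map_eq_self_of_injective L.subtype_injective B])
      have := isPReducedNormal_of_isRed (isRed_sup hA' hB')
      rwa [← Subgroup.map_sup, show ((A ⊔ B).map L.subtype).subgroupOf L = A ⊔ B from
        comap_map_eq_self_of_injective L.subtype_injective _] at this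
  have e : {N : Subgroup L | N.Normal ∧ Cfsg.IsPReducedNormal p N} =
      {N : Subgroup L | Cfsg.IsPReducedNormal p N} :=
    Set.ext fun N => ⟨fun h => h.2, fun h => ⟨h.1, h⟩⟩
  rw [e] at key
  exact key

theorem isRed_cj {L V : Subgroup G} (h : IsRed p L V) (g : G) : IsRed p (cj g L) (cj g V) := by
  refine ⟨cj_mono g h.1, ?_, Modules.elemAb_map _ h.2.2.1, fun D hDL hDn hD => ?_⟩
  · exact (cj_mono g h.2.1).trans (Fusion.cj_normalizer g V).le
  · have hC : ∀ x : G, x ∈ centralizer (cj g V : Set G) ↔ g⁻¹ * x * g ∈ centralizer (V : Set G) := by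
      intro x
      constructor
      · intro hx v hv
        have := hx _ (conj_mem_cj.2 hv)
        calc v * (g⁻¹ * x * g) = g⁻¹ * ((g * v * g⁻¹) * x) * g := by group
          _ = g⁻¹ * (x * (g * v * g⁻¹)) * g := by rw [this]
          _ = _ := by group
      · intro hx v hv
        have := hx _ (mem_cj.1 hv)
        calc v * x = g * ((g⁻¹ * v * g) * (g⁻¹ * x * g)) * g⁻¹ := by group
          _ = g * ((g⁻¹ * x * g) * (g⁻¹ * v * g)) * g⁻¹ := by rw [this]
          _ = _ := by group
    have h1 := h.2.2.2 (cj g⁻¹ D) (by rw [Fusion.cj_le_iff, inv_inv]; exact hDL) (by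
        rw [← Fusion.cj_normalizer, Fusion.le_cj_iff, inv_inv]; exact hDn) (fun x hx => by
        rw [Fusion.mem_cj_inv] at hx
        obtain ⟨k, hk⟩ := hD _ hx
        refine ⟨k, ?_⟩
        rw [hC, conj_pow] at hk
        simpa [mul_assoc] using hk)
    intro x hx
    rw [hC]
    exact h1 (by rw [Fusion.mem_cj_inv]; simpa [mul_assoc] using hx)

theorem normalizer_le_normalizer_largest [Finite G] (L : Subgroup G) :
    normalizer (L : Set G) ≤ normalizer (Cfsg.largestPReducedOf p L : Set G) := by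
  refine mem_normalizer_of_forall fun g hg x hx => ?_
  have h := isRed_cj (isRed_largest (p := p) L) g
  rw [cj_eq_of_mem hg] at h
  exact le_largestPReducedOf h (conj_mem_cj.2 hx)

theorem le_normalizer_largest [Finite G] (L : Subgroup G) :
    L ≤ normalizer (Cfsg.largestPReducedOf p L : Set G) :=
  Subgroup.le_normalizer.trans (normalizer_le_normalizer_largest L)

/-- `D ∩ T` is Sylow in a normal subgroup `D` of `M` when `T` is Sylow in `M`. -/
theorem not_dvd_inf_relIndex [Finite G] [hp : Fact p.Prime] {M D T : Subgroup G} (hT : IsPGroup p T)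
    (hTM : T ≤ M) (hTi : ¬ p ∣ T.relIndex M) (hDM : D ≤ M) (hDn : M ≤ normalizer (D : Set G)) :
    ¬ p ∣ (D ⊓ T).relIndex D := by
  haveI : (D.subgroupOf M).Normal := (normal_subgroupOf_iff_le_normalizer hDM).2 hDn
  intro h
  apply LocalP.not_dvd_relIndex_sylow_normal ((hT.comap_subtype (K := M)).toSylow hTi)
    (D.subgroupOf M)
  change p ∣ (T.subgroupOf M ⊓ D.subgroupOf M).relIndex (D.subgroupOf M)
  rw [← relIndex_map_map_of_injective (f := M.subtype) (T.subgroupOf M ⊓ D.subgroupOf M)
    (D.subgroupOf M) M.subtype_injective, map_inf _ _ _ M.subtype_injective, subgroupOf_map_subtype,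
    subgroupOf_map_subtype, inf_eq_left.2 hTM, inf_eq_left.2 hDM, inf_comm]
  exact h

/-- Inside the product decomposition: a normal subgroup `D` of `M` that is a `p`-group modulo `C`
is covered by `C` and the Sylow subgroup `T`. -/
theorem le_of_pmod [Finite G] [hp : Fact p.Prime] {M D C X T : Subgroup G} (hT : IsPGroup p T)
    (hTM : T ≤ M) (hTi : ¬ p ∣ T.relIndex M) (hDM : D ≤ M) (hDn : M ≤ normalizer (D : Set G))
    (hD : ∀ x ∈ D, ∃ k : ℕ, x ^ p ^ k ∈ C) (hC : C ≤ X) (hDT : D ⊓ T ≤ X) : D ≤ X := by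
  have h2 := not_dvd_inf_relIndex hT hTM hTi hDM hDn
  refine (le_res_sup hT.to_inf_right inf_le_left h2).trans (sup_le ?_ hDT)
  refine res_le_iff.2 fun x hx hc => hC ?_
  obtain ⟨k, hk⟩ := hD x hx
  exact mem_of_pow_mem hc hk

/-- The normal closure in `M` of a suitable elementary subgroup centralizing `O_p(M)` is
`p`-reduced. -/
theorem exists_red_of_le [Finite G] [hp : Fact p.Prime] {M V T : Subgroup G}
    (hM : M ⊓ centralizer (Cfsg.pCoreOf p M : Set G) ≤ Cfsg.pCoreOf p M)
    (hT : IsPGroup p T) (hTM : T ≤ M) (hTi : ¬ p ∣ T.relIndex M)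
    (hV : V ≤ M ⊓ centralizer (Cfsg.pCoreOf p M : Set G)) (hVp : ∀ v ∈ V, v ^ p = 1)
    (hD : ∀ D : Subgroup G, D ≤ M → M ≤ normalizer (D : Set G) →
      (∀ x ∈ D, ∃ k : ℕ, x ^ p ^ k ∈ centralizer (V : Set G)) → D ⊓ T ≤ centralizer (V : Set G)) :
    ∃ W, IsRed p M W ∧ V ≤ W := by
  set S : Set G := {x | ∃ m ∈ M, ∃ v ∈ V, m * v * m⁻¹ = x}
  set W := closure S
  set Z := Cfsg.pCoreOf p M ⊓ centralizer (Cfsg.pCoreOf p M : Set G)
  have hMZ : M ≤ normalizer (Z : Set G) :=
    le_normalizer_inf (le_normalizer_pCoreOf M) (le_normalizer_centralizer (le_normalizer_pCoreOf M))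
  have hVZ : V ≤ Z := le_inf (hV.trans hM) (hV.trans inf_le_right)
  have hZc : IsMulCommutative Z := ⟨⟨fun a b => Subtype.ext (b.2.2 a a.2.1)⟩⟩
  have hWle : W ≤ Cfsg.omegaOne p Z := by
    refine (closure_le _).2 ?_
    rintro _ ⟨m, hm, v, hv, rfl⟩
    refine Modules.mem_omegaOne_of_pow (conj_mem_of_mem_normalizer (hMZ hm) (hVZ hv)) ?_
    rw [conj_pow, hVp v hv]; group
  have hWZ : W ≤ Z := hWle.trans (Modules.omegaOne_le p Z)
  have hMW : M ≤ normalizer (W : Set G) := by
    refine mem_normalizer_of_forall fun g hg x hx => ?_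
    have : (closure S).map (MulAut.conj g).toMonoidHom ≤ W := by
      rw [MonoidHom.map_closure, closure_le]
      rintro _ ⟨_, ⟨m, hm, v, hv, rfl⟩, rfl⟩
      exact subset_closure ⟨g * m, mul_mem hg hm, v, hv, by simp [mul_assoc]⟩
    exact this ⟨x, hx, rfl⟩
  have hVW : V ≤ W := fun v hv => subset_closure ⟨1, one_mem M, v, hv, by simp⟩
  refine ⟨W, ⟨(hWZ.trans inf_le_left).trans (pCoreOf_le M), hMW,
    Modules.elemAb_mono hWle (Modules.elemAb_omegaOne hZc), fun D hDM hDn hmod => ?_⟩, hVW⟩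
  have hDV : D ≤ centralizer (V : Set G) :=
    le_of_pmod hT hTM hTi hDM hDn hmod (centralizer_le hVW) (hD D hDM hDn fun x hx =>
      (hmod x hx).imp fun k hk => centralizer_le hVW hk)
  rw [show W = closure S from rfl, centralizer_closure]
  rintro d hd _ ⟨m, hm, v, hv, rfl⟩
  have := hDV (conj_mem_of_mem_normalizer (inv_mem (hDn hm)) hd) v hv
  calc m * v * m⁻¹ * d = m * (v * (m⁻¹ * d * m⁻¹⁻¹)) * m⁻¹ := by group
    _ = m * ((m⁻¹ * d * m⁻¹⁻¹) * v) * m⁻¹ := by rw [this]
    _ = _ := by group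

/-- `Y_L ≤ Y_M` for `T ≤ L ≤ M`, `T` Sylow in `M`, `M` of characteristic `p`. -/
theorem largest_mono [Finite G] [hp : Fact p.Prime] {M L T : Subgroup G}
    (hM : M ⊓ centralizer (Cfsg.pCoreOf p M : Set G) ≤ Cfsg.pCoreOf p M)
    (hT : IsPGroup p T) (hTL : T ≤ L) (hLM : L ≤ M) (hTi : ¬ p ∣ T.relIndex M) :
    Cfsg.largestPReducedOf p L ≤ Cfsg.largestPReducedOf p M := by
  set V := Cfsg.largestPReducedOf p L
  have hV : IsRed p L V := isRed_largest L
  have hPT : Cfsg.pCoreOf p M ≤ T := by
    have h0 := Cores.pCore_le_sylow (G := M) ((hT.comap_subtype (K := M)).toSylow hTi)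
    have h2 := map_mono (f := M.subtype) h0
    change (Cfsg.pCore p M).map M.subtype ≤ (T.subgroupOf M).map M.subtype at h2
    rw [subgroupOf_map_subtype, inf_eq_left.2 (hTL.trans hLM)] at h2
    exact h2
  have hPL : Cfsg.pCoreOf p M ≤ Cfsg.pCoreOf p L :=
    le_trans (le_inf (hPT.trans hTL) le_rfl) (inf_pCoreOf_le hLM)
  obtain ⟨W, hW, hVW⟩ := exists_red_of_le hM hT (hTL.trans hLM) hTi
    (le_inf (hV.1.trans hLM) (mem_centralizer_comm (hPL.trans (pCoreOf_le_centralizer_red hV))))
    hV.2.2.1.2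
    (fun D hDM hDn hD => le_trans (le_inf (le_inf inf_le_left (inf_le_right.trans hTL)) le_rfl
        |>.trans inf_le_left)
      (hV.2.2.2 (D ⊓ L) inf_le_right
        (le_normalizer_inf (hLM.trans hDn) Subgroup.le_normalizer) fun x hx => hD x hx.1))
  exact hVW.trans (le_largestPReducedOf hW)

/-- `Ω₁(Z(T)) ≤ Y_L` in characteristic `p`. -/
theorem omegaCenter_le_largest [Finite G] [hp : Fact p.Prime] {L T : Subgroup G}
    (hL : L ⊓ centralizer (Cfsg.pCoreOf p L : Set G) ≤ Cfsg.pCoreOf p L)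
    (hT : IsPGroup p T) (hTL : T ≤ L) (hTi : ¬ p ∣ T.relIndex L) :
    Cfsg.omegaOne p (T ⊓ centralizer (T : Set G)) ≤ Cfsg.largestPReducedOf p L := by
  set V := Cfsg.omegaOne p (T ⊓ centralizer (T : Set G))
  have hPT : Cfsg.pCoreOf p L ≤ T := by
    have h0 := Cores.pCore_le_sylow (G := L) ((hT.comap_subtype (K := L)).toSylow hTi)
    have h2 := map_mono (f := L.subtype) h0
    change (Cfsg.pCore p L).map L.subtype ≤ (T.subgroupOf L).map L.subtype at h2
    rw [subgroupOf_map_subtype, inf_eq_left.2 hTL] at h2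
    exact h2
  have hVle : V ≤ T ⊓ centralizer (T : Set G) := Modules.omegaOne_le _ _
  obtain ⟨W, hW, hVW⟩ := exists_red_of_le hL hT hTL hTi
    (le_inf ((hVle.trans inf_le_left).trans hTL) ((hVle.trans inf_le_right).trans (centralizer_le hPT)))
    (Modules.elemAb_omegaOne (K := T ⊓ centralizer (T : Set G))
      ⟨⟨fun a b => Subtype.ext (b.2.2 a a.2.1)⟩⟩).2
    (fun D _ _ _ => inf_le_right.trans (mem_centralizer_comm (hVle.trans inf_le_right)))
  exact hVW.trans (le_largestPReducedOf hW)

end Cfsg.Agent.LAE60
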