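import Cfsg.Prelude.Def_LocalStructure
import Cfsg.Agent.LAE60.Large
import Cfsg.Agent.LAE60.CharP
import Cfsg.Agent.LAE60.Reduced

/-!
Members of `𝔐_G(S)` in parabolic characteristic `p`, and the asymmetric case.
-/

set_option autoImplicit false
set_option linter.unusedVariables false

open Subgroup
open scoped commutatorElement

namespace Cfsg.Agent.LAE60

open Cfsg.Agent.Fusion (cj mem_cj cj_cj cj_one cj_inf cj_mono cj_eq_of_mem conj_mem_cj cj_le_iff
  le_cj_iff cj_normalizer isPGroup_cj cj_eq_iff_mem_normalizer)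

variable {G : Type*} [Group G] [Finite G] {p : ℕ} [hp : Fact p.Prime]

omit [Finite G] hp in
theorem mem_charPSubgroups_iff {L : Subgroup G} :
    L ∈ Cfsg.charPSubgroups p G ↔ Cfsg.pCoreOf p L ≠ ⊥ ∧
      centralizer (Cfsg.pCoreOf p L : Set G) ≤ Cfsg.pCoreOf p L :=
  and_congr_left' (not_congr (pCore_eq_bot_iff L))

omit [Finite G] hp in
theorem charP_of_mem_charPSubgroups {L : Subgroup G} (h : L ∈ Cfsg.charPSubgroups p G) :
    L ⊓ centralizer (Cfsg.pCoreOf p L : Set G) ≤ Cfsg.pCoreOf p L :=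
  inf_le_right.trans (mem_charPSubgroups_iff.1 h).2

/-- In parabolic characteristic `p` every overgroup of a Sylow subgroup with nontrivial `O_p` is in
`𝓛`. -/
theorem mem_charPSubgroups_of_parabolic (hpar : Cfsg.IsOfParabolicCharacteristic p G) (S : Sylow p G)
    {L : Subgroup G} (hSL : (S : Subgroup G) ≤ L) (hL : Cfsg.pCoreOf p L ≠ ⊥) :
    L ∈ Cfsg.charPSubgroups p G := by
  refine mem_charPSubgroups_iff.2 ⟨hL, ?_⟩
  set R := Cfsg.pCoreOf p L
  set N := normalizer (R : Set G)
  have hSN : (S : Subgroup G) ≤ N := hSL.trans (le_normalizer_pCoreOf L)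
  have hN := (charP_core_iff N).1 (hpar R (pCoreOf_isPGroup L) hL ⟨S, hSN⟩)
  have hle : Cfsg.pCoreOf p N ≤ R :=
    (le_inf ((pCoreOf_le_of_sylow S hSN).trans hSL) le_rfl).trans
      (inf_pCoreOf_le (le_normalizer_pCoreOf L))
  exact (le_inf (centralizer_le_normalizer' R) (centralizer_le hle)).trans (hN.trans hle)

theorem mem_charPSubgroups_of_normalized (hpar : Cfsg.IsOfParabolicCharacteristic p G)
    (S : Sylow p G) {L U : Subgroup G} (hSL : (S : Subgroup G) ≤ L) (hU : IsPGroup p U)
    (hU1 : U ≠ ⊥) (hUL : U ≤ L) (hLU : L ≤ normalizer (U : Set G)) :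
    L ∈ Cfsg.charPSubgroups p G :=
  mem_charPSubgroups_of_parabolic hpar S hSL fun e =>
    hU1 (eq_bot_iff.2 (e ▸ le_pCoreOf hUL hLU hU))

theorem sylow_relIndex {L : Subgroup G} (S : Sylow p G) (hSL : (S : Subgroup G) ≤ L) :
    ¬ p ∣ (S : Subgroup G).relIndex L := fun h =>
  S.not_dvd_index (h.trans (relIndex_dvd_index_of_le hSL))

/-- `Y_L ≠ 1` for `L` of characteristic `p` over a Sylow subgroup. -/
theorem largest_ne_bot (S : Sylow p G) {L : Subgroup G} (hSL : (S : Subgroup G) ≤ L)
    (hL : L ∈ Cfsg.charPSubgroups p G) : Cfsg.largestPReducedOf p L ≠ ⊥ := by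
  have hS1 : (S : Subgroup G) ≠ ⊥ := fun e =>
    (mem_charPSubgroups_iff.1 hL).1 (eq_bot_iff.2 (e ▸ pCoreOf_le_of_sylow S hSL))
  obtain ⟨z, hzS, hzp, hzc⟩ := exists_central_orderOf_eq S.2 hS1
  intro e
  have hz : z ∈ Cfsg.largestPReducedOf p L :=
    omegaCenter_le_largest (charP_of_mem_charPSubgroups hL) S.2 hSL (sylow_relIndex S hSL)
      (subset_closure ⟨⟨hzS, fun s hs => hzc s hs⟩, hzp ▸ pow_orderOf_eq_one z⟩)
  rw [e, mem_bot] at hz
  rw [hz, orderOf_one] at hzp
  exact hp.1.ne_one hzp.symm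

/-- Every member of `𝓛` lies in a maximal one. -/
theorem exists_maxCharP {L : Subgroup G} (hL : L ∈ Cfsg.charPSubgroups p G) :
    ∃ X ∈ Cfsg.maxCharPSubgroups p G, L ≤ X := by
  obtain ⟨X, hLX, hX, hmax⟩ :=
    Finite.exists_le_maximal (p := fun X => X ∈ Cfsg.charPSubgroups p G) hL
  exact ⟨X, ⟨hX, fun K hK hle => le_antisymm (hmax hK hle) hle⟩, hLX⟩

section FrakM

variable (hpar : Cfsg.IsOfParabolicCharacteristic p G) (S : Sylow p G) {M : Subgroup G}
  (hSM : (S : Subgroup G) ≤ M) (hM : Cfsg.IsInFrakM p M)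

local notation "Y" => Cfsg.largestPReducedOf p M
local notation "P" => Cfsg.pCoreOf p M
local notation "Md" => M ⊔ centralizer (Cfsg.largestPReducedOf p M : Set G)

omit hp in
theorem dagger_le_normalizer : Md ≤ normalizer (Y : Set G) :=
  sup_le (le_normalizer_largest M) (centralizer_le_normalizer' _)

omit hp in
theorem core_le_centralizer : P ≤ centralizer (Y : Set G) :=
  pCoreOf_le_centralizer_red (isRed_largest M)

omit hp in
theorem largest_le_core : Y ≤ P := red_le_pCoreOf (isRed_largest M)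

include hM in
/-- `M†` contains every member of `𝓛` containing `M`. -/
theorem le_dagger {X : Subgroup G} (hMX : M ≤ X) (hX : X ∈ Cfsg.charPSubgroups p G) : X ≤ Md := by
  obtain ⟨X', hX', hle⟩ := exists_maxCharP hX
  exact hle.trans (hM.2.2.1 X' hX' (hMX.trans hle)).le

include hpar hSM hM in
theorem normalizer_le_dagger {U : Subgroup G} (hU : IsPGroup p U) (hU1 : U ≠ ⊥)
    (hMU : M ≤ normalizer (U : Set G)) : normalizer (U : Set G) ≤ Md :=
  le_dagger hM hMU
    (mem_charPSubgroups_of_normalized hpar S (hSM.trans hMU) hU hU1 Subgroup.le_normalizer le_rfl)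

include hpar hSM hM in
theorem normalizer_largest_eq : normalizer (Y : Set G) = Md := by
  refine le_antisymm ?_ dagger_le_normalizer
  exact normalizer_le_dagger hpar S hSM hM (Modules.elemAb_isPGroup (isRed_largest M).2.2.1)
    (largest_ne_bot S hSM hM.1) (le_normalizer_largest M)

include hpar hSM hM in
theorem normalizer_core_le : normalizer (P : Set G) ≤ Md :=
  normalizer_le_dagger hpar S hSM hM (pCoreOf_isPGroup M) (mem_charPSubgroups_iff.1 hM.1).1
    (le_normalizer_pCoreOf M)

include hSM hM in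
/-- `O_p(M) = S ∩ C_G(Y_M)`. -/
theorem sylow_inf_centralizer : (S : Subgroup G) ⊓ centralizer (Y : Set G) = P := by
  refine le_antisymm ?_ (le_inf (pCoreOf_le_of_sylow S hSM) core_le_centralizer)
  intro x hx
  have hpc := (LocalP.isPClosed_subgroup_iff).1 hM.2.2.2.2.1 x ⟨hSM hx.1, hx.2⟩
    (LocalP.exists_pow_eq_one_of_mem S.2 hx.1)
  exact pCoreOf_le_pCoreOf inf_le_left
    (le_normalizer_inf Subgroup.le_normalizer (le_normalizer_centralizer (le_normalizer_largest M))) hpc

include hSM hM in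
/-- A `p`-subgroup of `C_G(Y_M)` containing `O_p(M)` equals it. -/
theorem inf_centralizer_le_core {R : Subgroup G} (hR : IsPGroup p R) (hPR : P ≤ R) :
    R ⊓ centralizer (Y : Set G) ≤ P := by
  have hidx : ¬ p ∣ (P).relIndex (centralizer (Y : Set G)) := by
    have := not_dvd_inf_relIndex (M := Md) (D := centralizer (Y : Set G)) (T := (S : Subgroup G)) S.2
      (hSM.trans le_sup_left) (sylow_relIndex S (hSM.trans le_sup_left)) le_sup_right
      (le_normalizer_centralizer dagger_le_normalizer)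
    rwa [inf_comm, sylow_inf_centralizer S hSM hM] at this
  set X := R ⊓ centralizer (Y : Set G)
  have hPX : P ≤ X := le_inf hPR core_le_centralizer
  have h1 : (P).relIndex X ∣ (P).relIndex (centralizer (Y : Set G)) :=
    Dvd.intro _ (relIndex_mul_relIndex P X _ hPX inf_le_right)
  obtain ⟨k, hk⟩ := IsPGroup.iff_card.1 (show IsPGroup p X from hR.to_inf_left)
  have h2 : (P).relIndex X ∣ p ^ k := hk ▸ (relIndex_dvd_card P X)
  have h3 : (P).relIndex X = 1 := Nat.eq_one_of_dvd_coprimes
    (Nat.Coprime.pow_left k (hp.1.coprime_iff_not_dvd.2 hidx)) h2 h1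
  exact relIndex_eq_one.1 h3

end FrakM

/-! ### The asymmetric case -/

omit [Finite G] hp in
theorem commute_of_not_symmetric {A : Subgroup G} (hA : ¬ Cfsg.IsSymmetricIn A) {a : G}
    (h1 : A ≤ normalizer (cj a A : Set G)) (h2 : cj a A ≤ normalizer (A : Set G)) :
    A ≤ centralizer (cj a A : Set G) := by
  by_contra hne
  refine hA ⟨a, fun e => hne ?_, le_inf (commutator_le_left_of_le_normalizer h2)
    (commutator_le_right_of_le_normalizer h1)⟩
  exact Subgroup.commutator_eq_bot_iff_le_centralizer.1 e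

omit [Finite G] hp in
/-- Along a chain of edges carried by `p`-groups, asymmetric subgroups lie in each other's kernel. -/
theorem asymmetric_chain {A B : Subgroup G} (hAB : A ≤ B) (hA : ¬ Cfsg.IsSymmetricIn A)
    (huniq : ∀ R : Subgroup G, IsPGroup p R → B ≤ R → R ⊓ centralizer (A : Set G) ≤ B)
    {E : Set G} (hEinv : ∀ a ∈ E, a⁻¹ ∈ E)
    (hE : ∀ a ∈ E, ∃ R : Subgroup G, IsPGroup p R ∧ B ≤ R ∧ cj a B ≤ R ∧
      R ≤ normalizer (A : Set G) ∧ R ≤ normalizer (cj a A : Set G))
    {a : G} (ha : a ∈ closure E) : A ≤ cj a B := by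
  have key : ∀ k : ℕ, ∀ l : List G, l.length = k → (∀ s ∈ l, s ∈ E) → A ≤ cj l.prod B := by
    intro k
    induction k with
    | zero =>
      intro l hl _
      rw [List.length_eq_zero_iff.1 hl, List.prod_nil, cj_one]
      exact hAB
    | succ k ih =>
      have step : ∀ l : List G, l.length = k + 1 → (∀ s ∈ l, s ∈ E) →
          ∃ R : Subgroup G, IsPGroup p R ∧ cj l.prod B ≤ R ∧ A ≤ R ∧
            R ≤ normalizer (cj l.prod A : Set G) := by
        intro l hl hlE
        obtain ⟨l', s, rfl⟩ : ∃ l' s, l = l' ++ [s] := by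
          rcases List.eq_nil_or_concat l with rfl | ⟨l', s, rfl⟩
          · simp at hl
          · exact ⟨l', s, by simp⟩
        have hl' : l'.length = k := by simpa using hl
        obtain ⟨R, hR, hBR, hsB, -, hRN⟩ := hE s (hlE s (by simp))
        refine ⟨cj l'.prod R, isPGroup_cj hR _, ?_, ?_, ?_⟩
        · simpa [← cj_cj] using cj_mono l'.prod hsB
        · exact (ih l' hl' fun x hx => hlE x (by simp [hx])).trans (cj_mono _ hBR)
        · have := cj_mono l'.prod hRN
          rw [cj_normalizer, cj_cj] at this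
          simpa using this
      intro l hl hlE
      obtain ⟨R, hR, hBR, hAR, hRN⟩ := step l hl hlE
      obtain ⟨R', -, -, hAR', hRN'⟩ := step (l.reverse.map Inv.inv) (by simp [hl]) (by
        intro x hx
        simp only [List.mem_map, List.mem_reverse] at hx
        obtain ⟨y, hy, rfl⟩ := hx
        exact hEinv _ (hlE y hy))
      have hinv : (l.reverse.map Inv.inv).prod = (l.prod)⁻¹ := by
        rw [List.map_reverse, List.prod_inv_reverse]
      rw [hinv] at hRN'
      have h1 : A ≤ normalizer (cj l.prod A : Set G) := hAR.trans hRN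
      have h2 : cj l.prod A ≤ normalizer (A : Set G) := by
        have := cj_mono l.prod (hAR'.trans hRN')
        rwa [cj_normalizer, cj_cj, mul_inv_cancel, cj_one] at this
      have hc := commute_of_not_symmetric hA h1 h2
      have hR2 := huniq (cj (l.prod)⁻¹ R) (isPGroup_cj hR _)
        (le_cj_iff.2 (by rw [inv_inv]; exact hBR))
      have h3 := cj_mono l.prod hR2
      rw [cj_inf, cj_cj, mul_inv_cancel, cj_one, cj_centralizer] at h3
      exact (le_inf hAR hc).trans h3
  have hE' : E ∪ E⁻¹ = E := Set.union_eq_left.2 fun x hx => by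
    have := hEinv _ hx
    rwa [inv_inv] at this
  have ha' : a ∈ Submonoid.closure E := by
    rw [← Subgroup.mem_toSubmonoid, closure_toSubmonoid, hE'] at ha
    exact ha
  obtain ⟨l, hl, rfl⟩ := Submonoid.exists_list_of_mem_closure ha'
  exact key l.length l rfl hl

section Asym

variable (hpar : Cfsg.IsOfParabolicCharacteristic p G) (S : Sylow p G) {M : Subgroup G}
  (hSM : (S : Subgroup G) ≤ M) (hM : Cfsg.IsInFrakM p M)
  (hasym : ¬ Cfsg.IsSymmetricIn (Cfsg.largestPReducedOf p M))

local notation "Y" => Cfsg.largestPReducedOf p M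
local notation "P" => Cfsg.pCoreOf p M
local notation "Md" => M ⊔ centralizer (Cfsg.largestPReducedOf p M : Set G)

include hpar hSM hM hasym in
/-- The basic fusion statement: a conjugate of `O_p(M)` in a common `p`-subgroup of both daggers is
`O_p(M)`. -/
theorem core_eq_of_mem_pgroup {R : Subgroup G} {a : G} (hR : IsPGroup p R) (hPR : P ≤ R)
    (haR : cj a P ≤ R) (hRY : R ≤ normalizer (Y : Set G))
    (haY : R ≤ normalizer (cj a Y : Set G)) : cj a P = P := by
  set E : Set G := (M : Set G) ∪ {a, a⁻¹} with hEdef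
  have hEinv : ∀ x ∈ E, x⁻¹ ∈ E := by
    rintro x (hx | rfl | rfl)
    · exact Or.inl (inv_mem hx)
    · exact Or.inr (Or.inr rfl)
    · exact Or.inr (Or.inl (by simp))
  have hE : ∀ x ∈ E, ∃ R : Subgroup G, IsPGroup p R ∧ P ≤ R ∧ cj x P ≤ R ∧
      R ≤ normalizer (Y : Set G) ∧ R ≤ normalizer (cj x Y : Set G) := by
    rintro x (hx | rfl | rfl)
    · refine ⟨P, pCoreOf_isPGroup M, le_rfl, (cj_eq_of_mem (le_normalizer_pCoreOf M hx)).le,
        (pCoreOf_le M).trans (le_normalizer_largest M), ?_⟩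
      rw [cj_eq_of_mem (le_normalizer_largest M hx)]
      exact (pCoreOf_le M).trans (le_normalizer_largest M)
    · exact ⟨R, hR, hPR, haR, hRY, haY⟩
    · refine ⟨cj a⁻¹ R, isPGroup_cj hR _, le_cj_iff.2 (by rw [inv_inv]; exact haR), cj_mono _ hPR,
        ?_, ?_⟩
      · rw [cj_le_iff, inv_inv, cj_normalizer]; exact haY
      · rw [← cj_normalizer]; exact cj_mono _ hRY
  have hchain : ∀ x ∈ closure E, Y ≤ cj x P := fun x hx =>
    asymmetric_chain largest_le_core hasym (fun R hR hPR => inf_centralizer_le_core S hSM hM hR hPR)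
      hEinv hE hx
  -- the normal closure of `Y` under `⟨M, a⟩` is a `p`-group normalized by `M` and `a`
  set V := ⨅ x ∈ closure E, cj x P
  have hV1 : V ≠ ⊥ := fun e => largest_ne_bot S hSM hM.1 (eq_bot_iff.2
    (e ▸ le_iInf₂ fun x hx => hchain x hx))
  have hVp : IsPGroup p V := by
    refine (pCoreOf_isPGroup M).to_le ((iInf₂_le 1 (one_mem _)).trans ?_)
    rw [cj_one]
  have hN : closure E ≤ normalizer (V : Set G) := by
    refine mem_normalizer_of_forall fun g hg y hy => ?_
    simp only [V, mem_iInf] at hy ⊢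
    intro x hx
    have := conj_mem_cj (g := g).2 (hy (g⁻¹ * x) (mul_mem (inv_mem hg) hx))
    rwa [cj_cj, mul_inv_cancel_left] at this
  have hMd := normalizer_le_dagger hpar S hSM hM hVp hV1
    ((fun m hm => hN (subset_closure (Or.inl hm))) : M ≤ normalizer (V : Set G))
  have ha : a ∈ normalizer (Y : Set G) :=
    dagger_le_normalizer (hMd (hN (subset_closure (Or.inr (Or.inl rfl)))))
  refine (Subgroup.eq_of_le_of_card_ge ?_ (Fusion.card_cj a P).ge)
  have h := inf_centralizer_le_core S hSM hM hR hPR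
  refine le_trans (le_inf haR ?_) h
  have h' := cj_mono a (core_le_centralizer (p := p) (M := M))
  rw [cj_centralizer, cj_eq_of_mem ha] at h'
  exact h'

include hpar hSM hM hasym in
/-- `O_p(M)` is normal in every `p`-group containing it, together with its normalizer. -/
theorem core_normalizer_le {L : Subgroup G} (hL : IsPGroup p L) (hPL : P ≤ L) :
    normalizer (L : Set G) ≤ normalizer (P : Set G) := by
  have hgen : ∀ R : Subgroup G, IsPGroup p R → P ≤ R → R ≤ normalizer (Y : Set G) →
      normalizer (R : Set G) ≤ normalizer (P : Set G) := by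
    intro R hR hPR hRY n hn
    refine cj_eq_iff_mem_normalizer.1 (core_eq_of_mem_pgroup hpar S hSM hM hasym hR hPR
      ((cj_mono n hPR).trans (cj_eq_of_mem hn).le) hRY ?_)
    conv_lhs => rw [← cj_eq_of_mem hn]
    rw [← cj_normalizer]
    exact cj_mono n hRY
  refine hgen L hL hPL ?_
  set R := L ⊓ normalizer (P : Set G)
  have hRY : R ≤ normalizer (Y : Set G) :=
    inf_le_right.trans ((normalizer_core_le hpar S hSM hM).trans dagger_le_normalizer)
  have hPR : P ≤ R := le_inf hPL Subgroup.le_normalizer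
  rcases eq_or_lt_of_le (inf_le_left : R ≤ L) with e | hlt
  · exact e ▸ hRY
  · obtain ⟨n, hn, hn'⟩ := SetLike.exists_of_lt (Fusion.lt_normalizer_inf hL hlt)
    exact (hn' ⟨hn.1, hgen R hL.to_inf_left hPR hRY hn.2⟩).elim

include hpar hSM hM hasym in
theorem core_wcs : Cfsg.IsWeaklyClosedSubgroup p P := by
  have key : ∀ (T : Subgroup G), IsPGroup p T → P ≤ T → T ≤ normalizer (P : Set G) := fun T hT hPT =>
    Subgroup.le_normalizer.trans (core_normalizer_le hpar S hSM hM hasym hT hPT)
  refine ⟨S, pCoreOf_le_of_sylow S hSM, fun g hg => ?_⟩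
  change cj g P = P
  have h1 : (S : Subgroup G) ≤ normalizer (cj g P : Set G) := by
    rw [← cj_normalizer, le_cj_iff]
    exact key _ (isPGroup_cj S.2 _) (le_cj_iff.2 (by rw [inv_inv]; exact hg))
  obtain ⟨n, hn, hne⟩ := Fusion.exists_normalizer_cj_eq S (g := g)
    (key _ S.2 (pCoreOf_le_of_sylow S hSM)) h1
  rw [← hne]
  exact cj_eq_of_mem (core_normalizer_le hpar S hSM hM hasym S.2 (pCoreOf_le_of_sylow S hSM) hn)

include hpar hSM hM hasym in
/-- `L ∩ M†` contains a Sylow subgroup of every overgroup `L` of `O_p(M)`. -/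
theorem parabolic_inf_dagger {L : Subgroup G} (hPL : P ≤ L) {T : Subgroup G} (hT : IsPGroup p T)
    (hTL : T ≤ L) (hPT : P ≤ T) : T ≤ L ⊓ Md :=
  le_inf hTL ((Subgroup.le_normalizer.trans (core_normalizer_le hpar S hSM hM hasym hT hPT)).trans
    (normalizer_core_le hpar S hSM hM))

end Asym

end Cfsg.Agent.LAE60
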