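import Cfsg.Prelude.Def_LocalStructure
import Cfsg.Agent.LAE60.FrakM

/-!
Members of `ℌ_G(O_p(M))` in the asymmetric case: normal closures, residuals and Sylow subgroups.
-/

set_option autoImplicit false
set_option linter.unusedVariables false
set_option linter.style.haveILetI false

open Subgroup
open scoped commutatorElement

namespace Cfsg.Agent.LAE60

open Cfsg.Agent.Fusion (cj cj_mono cj_eq_of_mem isPGroup_cj)

variable {G : Type*} [Group G] {p : ℕ}

/-- The normal closure of `A` in the subgroup `H`, inside the ambient group. -/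
abbrev ncl (H A : Subgroup G) : Subgroup G :=
  (Subgroup.normalClosure (A.subgroupOf H : Set H)).map H.subtype

theorem ncl_le (H A : Subgroup G) : ncl H A ≤ H := map_subtype_le _

theorem le_normalizer_ncl (H A : Subgroup G) : H ≤ normalizer (ncl H A : Set G) := by
  rw [← normal_subgroupOf_iff_le_normalizer (ncl_le H A),
    show (ncl H A).subgroupOf H = normalClosure (A.subgroupOf H : Set H) from
      comap_map_eq_self_of_injective H.subtype_injective _]
  infer_instance

theorem le_ncl {H A : Subgroup G} (hA : A ≤ H) : A ≤ ncl H A := fun a ha =>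
  ⟨⟨a, hA ha⟩, subset_normalClosure ha, rfl⟩

theorem ncl_le_of_le {H A X : Subgroup G} (hA : A ≤ X) (hn : H ≤ normalizer (X : Set G)) :
    ncl H A ≤ X := by
  haveI : (X.subgroupOf H).Normal :=
    normal_subgroupOf_of_le_normalizer hn
  rw [map_le_iff_le_comap]
  exact normalClosure_le_normal (N := X.subgroupOf H) fun a ha => hA ha

section FrakH

variable [Finite G] [hp : Fact p.Prime]
  (hpar : Cfsg.IsOfParabolicCharacteristic p G) (S : Sylow p G) {M : Subgroup G}
  (hSM : (S : Subgroup G) ≤ M) (hM : Cfsg.IsInFrakM p M)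
  (hasym : ¬ Cfsg.IsSymmetricIn (Cfsg.largestPReducedOf p M))
  {H : Subgroup G} (hH : Cfsg.IsInFrakH p M H)

local notation "Y" => Cfsg.largestPReducedOf p M
local notation "P" => Cfsg.pCoreOf p M
local notation "Md" => M ⊔ centralizer (Cfsg.largestPReducedOf p M : Set G)

omit hp in
include hH in
theorem frakH_largest_le : Y ≤ H := largest_le_core.trans hH.2.1

omit [Finite G] hp in
include hH in
/-- `H` is the normal closure of `O_p(M)` in itself. -/
theorem frakH_ncl_core : ncl H P = H := by
  by_contra hne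
  exact hH.2.2.1 ((hH.2.2.2 _ (le_ncl hH.2.1) (lt_of_le_of_ne (ncl_le _ _) hne)).trans
    (pCoreOf_le_pCoreOf (ncl_le _ _) (le_normalizer_ncl _ _)))

include hpar hSM hM hasym hH in
theorem frakH_core_le_normalizer : Cfsg.pCoreOf p H ≤ normalizer (P : Set G) :=
  wcs_le_normalizer_of_normalized (core_wcs hpar S hSM hM hasym) (pCoreOf_isPGroup H)
    (hH.2.1.trans (le_normalizer_pCoreOf H))

include hpar hSM hM hasym hH in
/-- `H = O^p(H) O_p(M)`. -/
theorem frakH_res_sup : res p H ⊔ P = H := by
  obtain ⟨T, hT1, hT2⟩ := Fusion.exists_sylow_inf_relIndex (pCoreOf_isPGroup M) hH.2.1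
  have hPT : P ≤ (T : Subgroup G) ⊓ H := le_inf hT1 hH.2.1
  have hTP : (T : Subgroup G) ⊓ H ≤ normalizer (P : Set G) :=
    Subgroup.le_normalizer.trans
      (core_normalizer_le hpar S hSM hM hasym T.2.to_inf_left hPT)
  have hn : H ≤ normalizer ((res p H ⊔ P : Subgroup G) : Set G) :=
    (le_res_sup T.2.to_inf_left inf_le_right hT2).trans (sup_le
      (le_sup_left.trans Subgroup.le_normalizer)
      (le_normalizer_sup (inf_le_right.trans (le_normalizer_res H)) hTP))
  refine le_antisymm (sup_le (res_le _) hH.2.1) ?_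
  conv_lhs => rw [← frakH_ncl_core hH]
  exact ncl_le_of_le le_sup_right hn

omit hp in
theorem core_le_normalizer_largest : P ≤ normalizer (Y : Set G) :=
  (pCoreOf_le M).trans (le_normalizer_largest M)

omit hp in
include hH in
theorem frakH_ncl_sup : ncl H Y ⊔ P = H := by
  refine le_antisymm (sup_le (ncl_le _ _) hH.2.1) ?_
  by_contra hne
  have hlt : ncl H Y ⊔ P < H :=
    lt_of_le_not_ge (sup_le (ncl_le _ _) hH.2.1) hne
  have h1 := le_inf (le_ncl (frakH_largest_le hH)) (hH.2.2.2 _ le_sup_right hlt)
  exact hH.2.2.1 (h1.trans ((inf_pCoreOf_le le_sup_left).trans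
    (pCoreOf_le_pCoreOf (ncl_le _ _) (le_normalizer_ncl _ _))))

include hpar hSM hM hasym hH in
/-- `O^p(H) Y_M` is the normal closure of `Y_M` in `H`. -/
theorem frakH_res_sup_largest : res p H ⊔ Y = ncl H Y := by
  have hR : res p H ≤ ncl H Y :=
    res_le_of_sup (pCoreOf_isPGroup M) (frakH_ncl_sup hH).ge
      (hH.2.1.trans (le_normalizer_ncl _ _))
  refine le_antisymm (sup_le hR (le_ncl (frakH_largest_le hH))) (ncl_le_of_le le_sup_right ?_)
  conv_lhs => rw [← frakH_res_sup hpar S hSM hM hasym hH]
  exact sup_le (le_sup_left.trans Subgroup.le_normalizer)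
    (le_normalizer_sup (hH.2.1.trans (le_normalizer_res H)) core_le_normalizer_largest)

include hpar hSM hM hasym hH in
/-- `O^p(H) = [O^p(H), Y_M]`. -/
theorem frakH_commutator : ⁅res p H, Y⁆ = res p H := by
  set R := res p H
  set D := ⁅R, Y⁆
  have hYR : Y ≤ normalizer (R : Set G) := (frakH_largest_le hH).trans (le_normalizer_res H)
  have hRD : R ≤ normalizer (D : Set G) := left_le_normalizer_commutator _ _
  have hn : H ≤ normalizer ((D ⊔ Y : Subgroup G) : Set G) := by
    conv_lhs => rw [← frakH_res_sup hpar S hSM hM hasym hH]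
    refine sup_le ?_ (le_normalizer_sup
      (le_normalizer_commutator (hH.2.1.trans (le_normalizer_res H)) core_le_normalizer_largest)
      core_le_normalizer_largest)
    refine mem_normalizer_of_forall fun r hr x hx => ?_
    have hle : cj r (D ⊔ Y) ≤ D ⊔ Y := by
      rw [Fusion.cj, Subgroup.map_sup]
      exact sup_le ((cj_eq_of_mem (hRD hr)).le.trans le_sup_left) (cj_le_commutator_sup hr)
    exact hle ⟨x, hx, rfl⟩
  have hR : R ≤ D ⊔ Y :=
    (le_sup_left.trans (frakH_res_sup_largest hpar S hSM hM hasym hH).le).trans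
      (ncl_le_of_le le_sup_right hn)
  refine le_antisymm (commutator_le_left_of_le_normalizer hYR) ?_
  calc R = res p R := (res_res H).symm
    _ ≤ D := res_le_of_sup (Modules.elemAb_isPGroup (isRed_largest M).2.2.1) hR
      (right_le_normalizer_commutator _ _)

end FrakH

end Cfsg.Agent.LAE60
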