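import Cfsg.Agent.LAE60.BasicProperty
import Cfsg.Agent.LAE60.FrakH
import Cfsg.Agent.LAE60.AmalgamRes

/-!
Subgroups `L` of a member `H` of `ℌ` in the asymmetric case: the unique maximal overgroup of `Y` in
`L`, and the action on the chief factors of `H` inside `O_p(H)`.
-/

set_option autoImplicit false
set_option linter.unusedVariables false
set_option linter.unusedSectionVars false
set_option linter.style.haveILetI false

open Subgroup
open scoped commutatorElement

namespace Cfsg.Agent.LAE60.AsymL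

open Cfsg.Agent.Fusion (cj mem_cj cj_cj cj_mono cj_one cj_eq_of_mem cj_le_iff le_cj_iff
  cj_eq_iff_mem_normalizer isPGroup_cj)

variable {G : Type*} [Group G] {p : ℕ}

/-! ### Centralizing modulo a subgroup -/

/-- The elements of `N(W)` commuting modulo `W` with all elements of `S`. -/
def modCent (W : Subgroup G) (S : Set G) : Subgroup G where
  carrier := {g | g ∈ normalizer (W : Set G) ∧ ∀ s ∈ S, ⁅s, g⁆ ∈ W}
  one_mem' := ⟨one_mem _, fun s _ => by simp⟩
  mul_mem' := fun {a b} ha hb => by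
    refine ⟨mul_mem ha.1 hb.1, fun s hs => ?_⟩
    have : ⁅s, a * b⁆ = ⁅s, a⁆ * (a * ⁅s, b⁆ * a⁻¹) := by simp [commutatorElement_def, mul_assoc]
    rw [this]
    exact mul_mem (ha.2 s hs) (conj_mem_of_mem_normalizer ha.1 (hb.2 s hs))
  inv_mem' := fun {a} ha => by
    refine ⟨inv_mem ha.1, fun s hs => ?_⟩
    have : ⁅s, a⁻¹⁆ = a⁻¹ * ⁅s, a⁆⁻¹ * a⁻¹⁻¹ := by simp [commutatorElement_def, mul_assoc]
    rw [this]
    exact conj_mem_of_mem_normalizer (inv_mem ha.1) (inv_mem (ha.2 s hs))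

theorem le_modCent {A W : Subgroup G} {S : Set G} (hAW : A ≤ normalizer (W : Set G))
    (h : ∀ s ∈ S, ∀ a ∈ A, ⁅s, a⁆ ∈ W) : A ≤ modCent W S :=
  fun a ha => ⟨hAW ha, fun s hs => h s hs a ha⟩

theorem mem_modCent_of_generators {W T : Subgroup G} {S : Set G} (hT : T ≤ closure S)
    (hS : S ⊆ normalizer (W : Set G)) {v : G} (hv : v ∈ modCent W S) : v ∈ modCent W (T : Set G) := by
  refine ⟨hv.1, fun s hs => ?_⟩
  have hs' := hT hs
  have key : ∀ s ∈ closure S, s ∈ normalizer (W : Set G) ∧ ⁅s, v⁆ ∈ W := by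
    intro s hs
    induction hs using Subgroup.closure_induction with
    | mem x hx => exact ⟨hS hx, hv.2 x hx⟩
    | one => exact ⟨one_mem _, by simp⟩
    | mul a b _ _ ha hb =>
      refine ⟨mul_mem ha.1 hb.1, ?_⟩
      have : ⁅a * b, v⁆ = a * ⁅b, v⁆ * a⁻¹ * ⁅a, v⁆ := by simp [commutatorElement_def, mul_assoc]
      rw [this]
      exact mul_mem (conj_mem_of_mem_normalizer ha.1 hb.2) ha.2
    | inv a _ ha =>
      refine ⟨inv_mem ha.1, ?_⟩
      have : ⁅a⁻¹, v⁆ = a⁻¹ * ⁅a, v⁆⁻¹ * a⁻¹⁻¹ := by simp [commutatorElement_def, mul_assoc]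
      rw [this]
      exact conj_mem_of_mem_normalizer (inv_mem ha.1) (inv_mem ha.2)
  exact (key s hs').2

theorem conj_mem_modCent {W : Subgroup G} {S S' : Set G} {g v : G}
    (hg : g ∈ normalizer (W : Set G)) (hS : ∀ s ∈ S', g⁻¹ * s * g ∈ S)
    (hv : v ∈ modCent W S) : g * v * g⁻¹ ∈ modCent W S' := by
  refine ⟨mul_mem (mul_mem hg hv.1) (inv_mem hg), fun s hs => ?_⟩
  have : ⁅s, g * v * g⁻¹⁆ = g * ⁅g⁻¹ * s * g, v⁆ * g⁻¹ := by simp [commutatorElement_def, mul_assoc]
  rw [this]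
  exact conj_mem_of_mem_normalizer hg (hv.2 _ (hS s hs))

/-- The elements normalizing `A` and `B` which act trivially on `A` modulo `B`. -/
def fixLayer (A B : Subgroup G) : Subgroup G where
  carrier := {g | g ∈ normalizer (A : Set G) ∧ g ∈ normalizer (B : Set G) ∧ ∀ a ∈ A, ⁅g, a⁆ ∈ B}
  one_mem' := ⟨one_mem _, one_mem _, fun a _ => by simp⟩
  mul_mem' := fun {a b} ha hb => by
    refine ⟨mul_mem ha.1 hb.1, mul_mem ha.2.1 hb.2.1, fun v hv => ?_⟩
    have : ⁅a * b, v⁆ = a * ⁅b, v⁆ * a⁻¹ * ⁅a, v⁆ := by simp [commutatorElement_def, mul_assoc]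
    rw [this]
    exact mul_mem (conj_mem_of_mem_normalizer ha.2.1 (hb.2.2 v hv)) (ha.2.2 v hv)
  inv_mem' := fun {a} ha => by
    refine ⟨inv_mem ha.1, inv_mem ha.2.1, fun v hv => ?_⟩
    have : ⁅a⁻¹, v⁆ = a⁻¹ * ⁅a, v⁆⁻¹ * a⁻¹⁻¹ := by simp [commutatorElement_def, mul_assoc]
    rw [this]
    exact conj_mem_of_mem_normalizer (inv_mem ha.2.1) (inv_mem (ha.2.2 v hv))

theorem conj_mem_fixLayer {A B : Subgroup G} {n g : G} (hA : n ∈ normalizer (A : Set G))
    (hB : n ∈ normalizer (B : Set G)) (hg : g ∈ fixLayer A B) : n * g * n⁻¹ ∈ fixLayer A B := by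
  refine ⟨mul_mem (mul_mem hA hg.1) (inv_mem hA), mul_mem (mul_mem hB hg.2.1) (inv_mem hB),
    fun a ha => ?_⟩
  have : ⁅n * g * n⁻¹, a⁆ = n * ⁅g, n⁻¹ * a * n⁻¹⁻¹⁆ * n⁻¹ := by
    simp [commutatorElement_def, mul_assoc]
  rw [this]
  exact conj_mem_of_mem_normalizer hB (hg.2.2 _ (conj_mem_of_mem_normalizer (inv_mem hA) ha))

theorem commutator_mem_fixLayer_right {A B : Subgroup G} {n g : G}
    (hA : n ∈ normalizer (A : Set G)) (hB : n ∈ normalizer (B : Set G))
    (hg : g ∈ fixLayer A B) : ⁅n, g⁆ ∈ fixLayer A B := by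
  rw [commutatorElement_def]
  exact mul_mem (conj_mem_fixLayer hA hB hg) (inv_mem hg)

theorem commutator_mem_fixLayer_left {A B : Subgroup G} {n g : G}
    (hA : g ∈ normalizer (A : Set G)) (hB : g ∈ normalizer (B : Set G))
    (hn : n ∈ fixLayer A B) : ⁅n, g⁆ ∈ fixLayer A B := by
  rw [← commutatorElement_inv]
  exact inv_mem (commutator_mem_fixLayer_right hA hB hn)

/-! ### Small facts -/

theorem pCoreOf_cj_le (g : G) (H : Subgroup G) :
    cj g (Cfsg.pCoreOf p H) ≤ Cfsg.pCoreOf p (cj g H) :=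
  le_pCoreOf (cj_mono g (pCoreOf_le H))
    ((cj_mono g (le_normalizer_pCoreOf H)).trans (Fusion.cj_normalizer g _).le)
    (isPGroup_cj (pCoreOf_isPGroup H) g)

theorem card_mul_card [Finite G] {X X' : Subgroup G} (h : X ≤ normalizer (X' : Set G)) :
    Nat.card X * Nat.card X' = Nat.card (X ⊔ X' : Subgroup G) * Nat.card (X ⊓ X' : Subgroup G) := by
  have hmul : ∀ {A B : Subgroup G}, A ≤ B → Nat.card A * A.relIndex B = Nat.card B := by
    intro A B hAB
    rw [← relIndex_bot_left A, ← relIndex_bot_left B, relIndex_mul_relIndex _ _ _ bot_le hAB]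
  have h1 := hmul (inf_le_left : X ⊓ X' ≤ X)
  have h2 := hmul (le_sup_right : X' ≤ X ⊔ X')
  have hs : X'.relIndex (X ⊔ X') = (X ⊓ X').relIndex X := by
    rw [inf_relIndex_left]
    haveI : (X'.subgroupOf (X ⊔ X')).Normal :=
      (normal_subgroupOf_iff_le_normalizer le_sup_right).2 (sup_le h Subgroup.le_normalizer)
    have := relIndex_sup_right (X.subgroupOf (X ⊔ X')) (X'.subgroupOf (X ⊔ X'))
    rw [← subgroupOf_sup le_sup_left le_sup_right, relIndex_subgroupOf le_rfl,
      relIndex_subgroupOf le_sup_left] at this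
    exact this
  rw [← h1, ← h2, hs]
  ring

/-- If a `p'`-element moves `v` by an element it fixes modulo `W`, then it fixes `v` modulo `W`. -/
theorem coprime_step {W : Subgroup G} {g v : G} (hg : (orderOf g).Coprime p)
    (hgW : g ∈ normalizer (W : Set G)) (hcW : ⁅g, v⁆ ∈ normalizer (W : Set G))
    (hc : ∃ k : ℕ, ⁅g, v⁆ ^ p ^ k = 1) (hgc : ⁅g, ⁅g, v⁆⁆ ∈ W) : ⁅g, v⁆ ∈ W := by
  set c := ⁅g, v⁆ with hcdef
  have hv : g * v * g⁻¹ = c * v := by simp [hcdef, commutatorElement_def]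
  have hc' : ∀ n : ℕ, ∃ w ∈ W, g * c ^ n * g⁻¹ = w * c ^ n := by
    intro n
    induction n with
    | zero => exact ⟨1, one_mem _, by simp⟩
    | succ n ih =>
      obtain ⟨w, hw, e⟩ := ih
      refine ⟨w * (c ^ n * ⁅g, c⁆ * (c ^ n)⁻¹),
        mul_mem hw (conj_mem_of_mem_normalizer (pow_mem hcW n) hgc), ?_⟩
      have e2 : g * c * g⁻¹ = ⁅g, c⁆ * c := by simp [commutatorElement_def]
      calc g * c ^ (n + 1) * g⁻¹ = (g * c ^ n * g⁻¹) * (g * c * g⁻¹) := by rw [pow_succ]; group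
        _ = _ := by rw [e, e2, pow_succ]; group
  have key : ∀ n : ℕ, ∃ w ∈ W, g ^ n * v * (g ^ n)⁻¹ = w * c ^ n * v := by
    intro n
    induction n with
    | zero => exact ⟨1, one_mem _, by simp⟩
    | succ n ih =>
      obtain ⟨w, hw, e⟩ := ih
      obtain ⟨w', hw', e'⟩ := hc' n
      refine ⟨(g * w * g⁻¹) * w', mul_mem (conj_mem_of_mem_normalizer hgW hw) hw', ?_⟩
      calc g ^ (n + 1) * v * (g ^ (n + 1))⁻¹ = g * (g ^ n * v * (g ^ n)⁻¹) * g⁻¹ := by
            rw [pow_succ']; group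
        _ = (g * w * g⁻¹) * (g * c ^ n * g⁻¹) * (g * v * g⁻¹) := by rw [e]; group
        _ = _ := by rw [e', hv, pow_succ]; group
  obtain ⟨w, hw, e⟩ := key (orderOf g)
  rw [pow_orderOf_eq_one, inv_one, mul_one, one_mul] at e
  have h1 : w * c ^ orderOf g = 1 := mul_right_cancel (e.symm.trans (one_mul v).symm)
  have h2 : c ^ orderOf g ∈ W := by
    rw [eq_inv_of_mul_eq_one_right h1]; exact inv_mem hw
  obtain ⟨k, hk⟩ := hc
  have h3 : c ^ p ^ k ∈ W := hk ▸ one_mem W
  have hcop : (orderOf g).Coprime (p ^ k) := Nat.Coprime.pow_right k hg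
  have hg' : ((orderOf g).gcd (p ^ k) : ℤ) =
      orderOf g * (orderOf g).gcdA (p ^ k) + (p ^ k : ℕ) * (orderOf g).gcdB (p ^ k) :=
    Nat.gcd_eq_gcd_ab _ _
  rw [hcop.gcd_eq_one] at hg'
  have : c ^ ((1 : ℕ) : ℤ) ∈ W := by
    rw [hg', zpow_add, zpow_mul, zpow_mul, zpow_natCast, zpow_natCast]
    exact mul_mem (zpow_mem h2 _) (zpow_mem h3 _)
  simpa using this

/-! ### The unique maximal overgroup -/

/-- If `Y ≤ O_p(X)` for all proper overgroups `X` of `Y` in `L` but `Y` is not in `O_p(L)`, then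
`Y` is in a unique maximal subgroup of `L`. -/
theorem exists_unique_max [Finite G] [Fact p.Prime] {L Y : Subgroup G} (hYL : Y ≤ L)
    (hYO : ¬ Y ≤ Cfsg.pCoreOf p L) (hY : IsPGroup p Y)
    (hmin : ∀ X : Subgroup G, Y ≤ X → X < L → Y ≤ Cfsg.pCoreOf p X) :
    ∃ M₀ : Subgroup G, Y ≤ M₀ ∧ M₀ < L ∧ ∀ X : Subgroup G, Y ≤ X → X < L → X ≤ M₀ := by
  classical
  let conjs : Subgroup G → Set (Subgroup G) := fun X =>
    {Z | ∃ l ∈ L, Z = cj l Y ∧ Z ≤ X}
  have hYlt : Y < L := by
    refine lt_of_le_of_ne hYL fun e => hYO ?_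
    rw [← e, pCoreOf_eq_self hY]
  have hmax : ∀ X, X < L → ∃ X', X ≤ X' ∧ X' < L ∧ ∀ Z, X' ≤ Z → Z < L → Z = X' := by
    intro X hX
    obtain ⟨X', h1, h2, h3⟩ := Finite.exists_le_maximal (p := fun Z : Subgroup G => Z < L) hX
    exact ⟨X', h1, h2, fun Z h4 h5 => le_antisymm (h3 h5 h4) h4⟩
  have hcore : ∀ X, X < L → ∀ Z ∈ conjs X, Z ≤ Cfsg.pCoreOf p X := by
    rintro X hX Z ⟨l, hl, rfl, hZX⟩
    have hlt : cj l⁻¹ X < L := by
      refine lt_of_le_of_ne ((cj_mono _ hX.le).trans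
        (cj_eq_of_mem (Subgroup.le_normalizer (inv_mem hl))).le) fun e => hX.ne ?_
      have := congrArg (cj l) e
      rwa [cj_cj, mul_inv_cancel, cj_one, cj_eq_of_mem (Subgroup.le_normalizer hl)] at this
    have hYX : Y ≤ cj l⁻¹ X := by
      have := cj_mono l⁻¹ hZX; rwa [cj_cj, inv_mul_cancel, cj_one] at this
    have := (cj_mono l (hmin _ hYX hlt)).trans (pCoreOf_cj_le l _)
    rwa [cj_cj, mul_inv_cancel, cj_one] at this
  obtain ⟨M₀, hYM, hM, hMmax⟩ := hmax Y hYlt
  refine ⟨M₀, hYM, hM, fun X hYX hX => ?_⟩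
  obtain ⟨X', hXX', hX', hX'max⟩ := hmax X hX
  suffices X' = M₀ from this ▸ hXX'
  by_contra hne
  let IsM : Subgroup G → Prop := fun Z => Z < L ∧ ∀ Z', Z ≤ Z' → Z' < L → Z' = Z
  let T : Set (Subgroup G × Subgroup G) :=
    {q | IsM q.1 ∧ IsM q.2 ∧ q.1 ≠ q.2 ∧ (conjs (q.1 ⊓ q.2)).Nonempty}
  have hT : T.Nonempty := ⟨(X', M₀), ⟨hX', hX'max⟩, ⟨hM, hMmax⟩, hne,
    ⟨Y, 1, one_mem _, (cj_one Y).symm, le_inf (hYX.trans hXX') hYM⟩⟩
  obtain ⟨⟨X₁, X₂⟩, ⟨hX₁, hX₂, hne', hnon⟩, hbig⟩ :=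
    (Set.toFinite T).exists_maximalFor (fun q => (conjs (q.1 ⊓ q.2)).ncard) T hT
  set D := sSup (conjs (X₁ ⊓ X₂)) with hD
  have hDp : IsPGroup p D := by
    refine (pCoreOf_isPGroup (p := p) X₁).to_le (sSup_le fun Z hZ => hcore X₁ hX₁.1 Z ?_)
    obtain ⟨l, hl, e, hle⟩ := hZ
    exact ⟨l, hl, e, hle.trans inf_le_left⟩
  have hDL : D ≤ L := sSup_le fun Z hZ => by
    obtain ⟨l, hl, e, hle⟩ := hZ
    exact (hle.trans inf_le_left).trans hX₁.1.le
  have hDN : L ⊓ normalizer (D : Set G) < L := by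
    refine lt_of_le_of_ne inf_le_left fun e => ?_
    obtain ⟨Z, hZ⟩ := hnon
    obtain ⟨l, hl, rfl, hle⟩ := hZ
    have h1 : cj l Y ≤ Cfsg.pCoreOf p L :=
      (le_sSup (show cj l Y ∈ conjs (X₁ ⊓ X₂) from ⟨l, hl, rfl, hle⟩)).trans
        (le_pCoreOf hDL (inf_eq_left.1 e) hDp)
    apply hYO
    have := cj_mono l⁻¹ h1
    rw [cj_cj, inv_mul_cancel, cj_one,
      cj_eq_of_mem (le_normalizer_pCoreOf L (inv_mem hl))] at this
    exact this
  obtain ⟨X₃, hN3, hX₃, hX₃max⟩ := hmax _ hDN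
  have key : ∀ Xi, IsM Xi → X₁ ⊓ X₂ ≤ Xi → Xi = X₃ := by
    intro Xi hXi hle
    by_cases hsub : ∀ Z ∈ conjs Xi, Z ≤ D
    · have hn : Xi ≤ normalizer (D : Set G) := by
        intro g hg
        rw [← cj_eq_iff_mem_normalizer]
        refine Subgroup.eq_of_le_of_card_ge ?_
          (card_map_of_injective (MulEquiv.injective _)).ge
        show cj g D ≤ D
        rw [hD, cj_le_iff]
        refine sSup_le fun Z hZ => ?_
        obtain ⟨l, hl, rfl, hZX⟩ := hZ
        rw [le_cj_iff, inv_inv, cj_cj]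
        refine hsub _ ⟨g * l, mul_mem (hXi.1.le hg) hl, rfl, ?_⟩
        rw [← cj_cj]
        exact (cj_mono g (hZX.trans hle)).trans (cj_eq_of_mem (Subgroup.le_normalizer hg)).le
      exact (hXi.2 X₃ ((le_inf hXi.1.le hn).trans hN3) hX₃).symm
    · push Not at hsub
      set R := Cfsg.pCoreOf p Xi with hR
      have hDR : D ≤ R := sSup_le fun Z hZ => by
        obtain ⟨l, hl, e, hZX⟩ := hZ
        exact hcore Xi hXi.1 Z ⟨l, hl, e, hZX.trans hle⟩
      obtain ⟨Z₀, hZ₀, hnot, hnorm⟩ : ∃ Z ∈ conjs Xi, ¬ Z ≤ D ∧ Z ≤ normalizer (D : Set G) := by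
        by_contra hcon
        push Not at hcon
        obtain ⟨Z, hZ, hZD⟩ := hsub
        have hlt : (R ⊓ normalizer (D : Set G)).subgroupOf R < ⊤ := by
          rw [lt_top_iff_ne_top, Ne, subgroupOf_eq_top]
          exact fun hle' => hcon Z hZ hZD ((hcore Xi hXi.1 Z hZ).trans (hle'.trans inf_le_right))
        haveI : Group.IsNilpotent R := (pCoreOf_isPGroup Xi).isNilpotent
        obtain ⟨z, hz, hzn⟩ := SetLike.exists_of_lt (Group.normalizerCondition_of_isNilpotent _ hlt)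
        apply hzn
        refine mem_subgroupOf.2 ⟨z.2, ?_⟩
        show (z : G) ∈ normalizer (D : Set G)
        rw [← cj_eq_iff_mem_normalizer]
        refine Subgroup.eq_of_le_of_card_ge ?_
          (card_map_of_injective (MulEquiv.injective _)).ge
        show cj (z : G) D ≤ D
        rw [hD, cj_le_iff]
        refine sSup_le fun Z' hZ' => ?_
        obtain ⟨l, hl, rfl, hZX⟩ := hZ'
        rw [le_cj_iff, inv_inv]
        by_contra hbad
        have hzX : (z : G) ∈ Xi := pCoreOf_le Xi z.2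
        have hmem : cj (z : G) (cj l Y) ∈ conjs Xi := by
          rw [cj_cj]
          refine ⟨(z : G) * l, mul_mem (hXi.1.le hzX) hl, rfl, ?_⟩
          rw [← cj_cj]
          exact (cj_mono _ (hZX.trans hle)).trans (cj_eq_of_mem (Subgroup.le_normalizer hzX)).le
        refine hcon _ hmem hbad ?_
        intro u hu
        rw [mem_cj] at hu
        have hsrc : cj l Y ≤ R ⊓ normalizer (D : Set G) := by
          refine le_inf (hcore Xi hXi.1 _ ⟨l, hl, rfl, hZX.trans hle⟩) ?_
          exact (le_sSup (show cj l Y ∈ conjs (X₁ ⊓ X₂) from ⟨l, hl, rfl, hZX⟩)).trans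
            Subgroup.le_normalizer
        have huR : u ∈ R := by
          have := conj_mem_of_mem_normalizer (le_normalizer_pCoreOf Xi hzX) (hsrc hu).1
          simpa [mul_assoc] using this
        have h1 : (z⁻¹ * ⟨u, huR⟩ * z : R) ∈ (R ⊓ normalizer (D : Set G)).subgroupOf R :=
          mem_subgroupOf.2 (hsrc hu)
        have h2 := (mem_normalizer_iff.1 hz _).1 h1
        have h3 : (z * (z⁻¹ * ⟨u, huR⟩ * z) * z⁻¹ : R) = ⟨u, huR⟩ := by group
        rw [h3, mem_subgroupOf] at h2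
        exact h2.2
      by_contra hne3
      obtain ⟨l, hl, rfl, hZX⟩ := hZ₀
      have hsubset : conjs (X₁ ⊓ X₂) ⊆ conjs (Xi ⊓ X₃) := by
        rintro Z hZ
        obtain ⟨l', hl', e, hle'⟩ := hZ
        refine ⟨l', hl', e, le_inf (hle'.trans hle) (le_trans ?_ hN3)⟩
        have hZD : Z ≤ D := le_sSup (show Z ∈ conjs (X₁ ⊓ X₂) from ⟨l', hl', e, hle'⟩)
        exact le_inf (hZD.trans hDL) (hZD.trans Subgroup.le_normalizer)
      have hmem : cj l Y ∈ conjs (Xi ⊓ X₃) :=
        ⟨l, hl, rfl, le_inf hZX ((le_inf (hZX.trans hXi.1.le) hnorm).trans hN3)⟩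
      have hnot' : cj l Y ∉ conjs (X₁ ⊓ X₂) := fun h => hnot (le_sSup h)
      have hlt' : (conjs (X₁ ⊓ X₂)).ncard < (conjs (Xi ⊓ X₃)).ncard :=
        Set.ncard_lt_ncard ⟨hsubset, fun h => hnot' (h hmem)⟩ (Set.toFinite _)
      have hTmem : (Xi, X₃) ∈ T := ⟨hXi, ⟨hX₃, hX₃max⟩, hne3, ⟨_, hmem⟩⟩
      exact absurd (hbig hTmem hlt'.le) (not_le.2 hlt')
  exact hne' ((key X₁ hX₁ inf_le_left).trans (key X₂ hX₂ inf_le_right).symm)

/-! ### Chief factors -/

/-- A noncentral chief factor of `H` inside `O_p(H)`. -/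
structure Fac (p : ℕ) (H V W : Subgroup G) : Prop where
  le_core : V ≤ Cfsg.pCoreOf p H
  normV : H ≤ normalizer (V : Set G)
  normW : H ≤ normalizer (W : Set G)
  lt : W < V
  irr : ∀ Z : Subgroup G, H ≤ normalizer (Z : Set G) → W ≤ Z → Z ≤ V → Z = W ∨ Z = V
  noncentral : ¬ ⁅V, H⁆ ≤ W

theorem Fac.le_H {H V W : Subgroup G} (f : Fac p H V W) : V ≤ H := f.le_core.trans (pCoreOf_le H)

theorem eq_of_le_sup_commutator [Finite G] [Fact p.Prime] {T V W : Subgroup G} (hT : IsPGroup p T)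
    (hV : V ≤ T) (hWV : W ≤ V) (hW : T ≤ normalizer (W : Set G)) (h : V ≤ W ⊔ ⁅V, T⁆) :
    V ≤ W := by
  haveI : Group.IsNilpotent T := hT.isNilpotent
  have key : ∀ i, V ≤ W ⊔ T.lowerCentralSeries i := by
    intro i
    induction i with
    | zero => exact hV.trans le_sup_right
    | succ i ih =>
      set D := T.lowerCentralSeries i with hD
      rw [Subgroup.lowerCentralSeries_succ, ← hD]
      refine h.trans (sup_le le_sup_left ?_)
      have hDT : D ≤ T := T.lowerCentralSeries_antitone (Nat.zero_le i)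
      have hP : T ≤ normalizer ((W ⊔ ⁅D, T⁆ : Subgroup G) : Set G) :=
        le_normalizer_sup hW (right_le_normalizer_commutator D T)
      refine (commutator_mono ih le_rfl).trans ?_
      rw [← closure_eq W, ← closure_eq D, ← Subgroup.closure_union, closure_eq, closure_eq]
      refine commutator_closure_le ?_ ?_
      · exact Set.union_subset ((hWV.trans hV).trans hP) (hDT.trans hP)
      · rintro x (hx | hx) c hc
        · exact mem_sup_left (commutator_le_left_of_le_normalizer hW (commutator_mem_commutator hx hc))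
        · exact mem_sup_right (commutator_mem_commutator hx hc)
  obtain ⟨n, hn⟩ := (Subgroup.isNilpotent_iff_lowerCentralSeries T).1 ‹Group.IsNilpotent T›
  have := key n
  rwa [hn, sup_bot_eq] at this

theorem Fac.abelian [Finite G] [Fact p.Prime] {H V W : Subgroup G} (f : Fac p H V W) :
    ⁅V, V⁆ ≤ W := by
  have hn : H ≤ normalizer ((W ⊔ ⁅V, V⁆ : Subgroup G) : Set G) :=
    le_normalizer_sup f.normW (le_normalizer_commutator f.normV f.normV)
  rcases f.irr _ hn le_sup_left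
      (sup_le f.lt.le (commutator_le_left_of_le_normalizer Subgroup.le_normalizer)) with e | e
  · exact le_sup_right.trans e.le
  · exact absurd (eq_of_le_sup_commutator ((pCoreOf_isPGroup H).to_le f.le_core) le_rfl f.lt.le
      (f.le_H.trans f.normW) e.ge) f.lt.not_ge

theorem Fac.le_normalizer_between [Finite G] [Fact p.Prime] {H V W X : Subgroup G}
    (f : Fac p H V W) (hW : W ≤ X) (hX : X ≤ V) : V ≤ normalizer (X : Set G) :=
  le_normalizer_of_commutator_le ((commutator_mono le_rfl hX).trans (f.abelian.trans hW))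

/-- A `p'`-element of `H` centralizing all noncentral chief factors inside `O_p(H)` is trivial. -/
theorem eq_one_of_fix_factors [Finite G] [Fact p.Prime] {H : Subgroup G}
    (hH : H ⊓ centralizer (Cfsg.pCoreOf p H : Set G) ≤ Cfsg.pCoreOf p H) {g : G} (hg : g ∈ H)
    (hcop : (orderOf g).Coprime p)
    (hfix : ∀ V W : Subgroup G, Fac p H V W → ∀ v ∈ V, ⁅g, v⁆ ∈ W) : g = 1 := by
  have key : ∀ n : ℕ, ∀ V : Subgroup G, Nat.card V ≤ n → V ≤ Cfsg.pCoreOf p H →
      H ≤ normalizer (V : Set G) → ∀ v ∈ V, ⁅g, v⁆ = 1 := by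
    intro n
    induction n with
    | zero => intro V hn; exact absurd hn (not_le.2 Nat.card_pos)
    | succ n ih =>
      intro V hn hVO hVn v hv
      by_cases hV : V = ⊥
      · rw [hV, mem_bot] at hv; simp [hv]
      obtain ⟨W, -, ⟨hW, hWn⟩, hWmax⟩ := Finite.exists_le_maximal
        (p := fun W : Subgroup G => W < V ∧ H ≤ normalizer (W : Set G)) (a := ⊥)
        ⟨bot_lt_iff_ne_bot.2 hV, by rw [normalizer_eq_top]; exact le_top⟩
      have hcW : ∀ w ∈ W, ⁅g, w⁆ = 1 := by
        refine ih W ?_ (hW.le.trans hVO) hWn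
        have : Nat.card W < Nat.card V := by
          refine lt_of_le_of_ne (card_le_of_le hW.le) fun e => hW.ne ?_
          exact eq_of_le_of_card_ge hW.le e.ge
        omega
      have hvW : ⁅g, v⁆ ∈ W := by
        by_cases hc : ⁅V, H⁆ ≤ W
        · rw [← commutatorElement_inv]; exact inv_mem (hc (commutator_mem_commutator hv hg))
        · refine hfix V W ⟨hVO, hVn, hWn, hW, fun Z hZn hWZ hZV => ?_, hc⟩ v hv
          by_cases hZ : Z = V
          · exact Or.inr hZ
          · exact Or.inl (le_antisymm (hWmax ⟨lt_of_le_of_ne hZV hZ, hZn⟩ hWZ) hWZ)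
      have := coprime_step (p := p) (W := ⊥) (v := v) hcop (by rw [normalizer_eq_top]; trivial)
        (by rw [normalizer_eq_top]; trivial)
        (LocalP.exists_pow_eq_one_of_mem (pCoreOf_isPGroup H) (hVO (hW.le hvW)))
        (by rw [hcW _ hvW]; exact one_mem _)
      simpa using this
  refine eq_one_of_coprime_of_mem (pCoreOf_isPGroup H) (hH ⟨hg, ?_⟩) hcop
  intro v hv
  exact (commutatorElement_eq_one_iff_mul_comm.1
    (key _ _ le_rfl le_rfl (le_normalizer_pCoreOf H) v hv)).symm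

/-- An element acting trivially on every noncentral chief factor inside `O_p(H)` lies in
`O_p(H)`. -/
theorem mem_core_of_fix_factors [Finite G] [Fact p.Prime] {H : Subgroup G}
    (hH : H ⊓ centralizer (Cfsg.pCoreOf p H : Set G) ≤ Cfsg.pCoreOf p H) {g : G} (hg : g ∈ H)
    (hfix : ∀ V W : Subgroup G, Fac p H V W → ∀ v ∈ V, ⁅g, v⁆ ∈ W) :
    g ∈ Cfsg.pCoreOf p H := by
  set K : Subgroup G := H ⊓ ⨅ f : {f : Subgroup G × Subgroup G // Fac p H f.1 f.2},
    fixLayer f.1.1 f.1.2 with hK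
  have hmem : ∀ x, x ∈ K ↔ x ∈ H ∧ ∀ V W, Fac p H V W → x ∈ fixLayer V W := by
    intro x
    rw [hK, mem_inf, mem_iInf]
    exact ⟨fun h => ⟨h.1, fun V W f => h.2 ⟨(V, W), f⟩⟩, fun h => ⟨h.1, fun f => h.2 _ _ f.2⟩⟩
  have hKn : H ≤ normalizer (K : Set G) := by
    refine mem_normalizer_of_forall fun s hs x hx => ?_
    obtain ⟨hxH, hx⟩ := (hmem x).1 hx
    exact (hmem _).2 ⟨mul_mem (mul_mem hs hxH) (inv_mem hs),
      fun V W f => conj_mem_fixLayer (f.normV hs) (f.normW hs) (hx V W f)⟩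
  have hKp : IsPGroup p K := isPGroup_of_forall_coprime fun x hx hc =>
    eq_one_of_fix_factors hH ((hmem x).1 hx).1 hc fun V W f => (((hmem x).1 hx).2 V W f).2.2
  exact le_pCoreOf inf_le_left hKn hKp
    ((hmem g).2 ⟨hg, fun V W f => ⟨f.normV hg, f.normW hg, hfix V W f⟩⟩)

/-! ### The action of `L` on a chief factor -/

/-- The hypotheses on `(H, P, Y)` used below. -/
structure Ctx (p : ℕ) (H P Y : Subgroup G) : Prop where
  hYP : Y ≤ P
  hPH : P ≤ H
  hPY : P ≤ centralizer (Y : Set G)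
  hP : IsPGroup p P
  hOY : Cfsg.pCoreOf p H ≤ normalizer (Y : Set G)
  hcharP : H ⊓ centralizer (Cfsg.pCoreOf p H : Set G) ≤ Cfsg.pCoreOf p H
  wcs : Cfsg.IsWeaklyClosedSubgroup p P
  hNP : normalizer (P : Set G) ≤ normalizer (Y : Set G)

theorem Ctx.hYH {H P Y : Subgroup G} (c : Ctx p H P Y) : Y ≤ H := c.hYP.trans c.hPH

/-- `[V, Y]W`. -/
abbrev comI (Y V W : Subgroup G) : Subgroup G := ⁅V, Y⁆ ⊔ W

/-- The preimage in `V` of the fixed points of `Y` on `V/W`. -/
abbrev fixJ (Y V W : Subgroup G) : Subgroup G := V ⊓ modCent W (Y : Set G)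

variable [Finite G] [Fact p.Prime] {H P Y V W : Subgroup G}

theorem comI_le (c : Ctx p H P Y) (f : Fac p H V W) : comI Y V W ≤ V :=
  sup_le (commutator_le_left_of_le_normalizer (c.hYH.trans f.normV)) f.lt.le

theorem le_fixJ (c : Ctx p H P Y) (f : Fac p H V W) : W ≤ fixJ Y V W :=
  le_inf f.lt.le (le_modCent Subgroup.le_normalizer fun s hs w hw => by
    rw [commutatorElement_def]
    exact mul_mem (conj_mem_of_mem_normalizer ((c.hYH.trans f.normW) hs) hw) (inv_mem hw))

theorem commutator_le_fixJ_of_centralizing (c : Ctx p H P Y) (f : Fac p H V W) {S : Subgroup G}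
    (hSH : S ≤ H) (hS : S ≤ centralizer (Y : Set G)) : ⁅V, S⁆ ≤ fixJ Y V W := by
  rw [Subgroup.commutator_le]
  intro v hv s hs
  have hVs : ⁅v, s⁆ ∈ V :=
    commutator_le_left_of_le_normalizer (hSH.trans f.normV) (commutator_mem_commutator hv hs)
  refine ⟨hVs, f.normW (f.le_H hVs), fun y hy => ?_⟩
  have h1 : v * s * v⁻¹ ∈ centralizer (Y : Set G) :=
    conj_mem_of_mem_normalizer (normalizer_le_normalizer_centralizer Y (c.hOY (f.le_core hv))) (hS hs)
  have h2 : ⁅v, s⁆ ∈ centralizer (Y : Set G) := by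
    rw [commutatorElement_def]; exact mul_mem h1 (inv_mem (hS hs))
  rw [commutatorElement_eq_one_iff_mul_comm.2 (mem_centralizer_iff.1 h2 y hy)]
  exact one_mem _

theorem comI_le_fixJ (c : Ctx p H P Y) (f : Fac p H V W) : comI Y V W ≤ fixJ Y V W :=
  sup_le (commutator_le_fixJ_of_centralizing c f c.hYH (c.hYP.trans c.hPY)) (le_fixJ c f)

theorem P_normalizes_comI (c : Ctx p H P Y) (f : Fac p H V W) :
    P ≤ normalizer (comI Y V W : Set G) :=
  le_normalizer_sup (le_normalizer_commutator (c.hPH.trans f.normV)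
    (c.hPY.trans (centralizer_le_normalizer' Y))) (c.hPH.trans f.normW)

theorem P_normalizes_fixJ (c : Ctx p H P Y) (f : Fac p H V W) :
    P ≤ normalizer (fixJ Y V W : Set G) :=
  mem_normalizer_of_forall fun s hs x hx =>
    ⟨conj_mem_of_mem_normalizer (f.normV (c.hPH hs)) hx.1,
      conj_mem_modCent (f.normW (c.hPH hs)) (fun y hy => by
        have := conj_mem_of_mem_normalizer
          (centralizer_le_normalizer' Y (inv_mem (c.hPY hs))) (show y ∈ Y from hy)
        simpa using this) hx.2⟩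

theorem commutator_comI_P (c : Ctx p H P Y) (f : Fac p H V W) :
    ∀ q ∈ P, ∀ u ∈ comI Y V W, ⁅q, u⁆ ∈ W := by
  intro q hq u hu
  have h1 : comI Y V W ≤ modCent W ({q} : Set G) := by
    refine sup_le ?_ ?_
    · refine le_modCent ((commutator_le_left_of_le_normalizer (c.hYH.trans f.normV)).trans
        (f.le_H.trans f.normW)) fun s hs u hu => ?_
      rw [Set.mem_singleton_iff] at hs
      subst hs
      have hY' : u ∈ Y := commutator_le_right_of_le_normalizer (f.le_core.trans c.hOY) hu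
      rw [commutatorElement_eq_one_iff_mul_comm.2 (mem_centralizer_iff.1 (c.hPY hq) u hY').symm]
      exact one_mem _
    · refine le_modCent Subgroup.le_normalizer fun s hs w hw => ?_
      rw [Set.mem_singleton_iff] at hs
      subst hs
      rw [commutatorElement_def]
      exact mul_mem (conj_mem_of_mem_normalizer (f.normW (c.hPH hq)) hw) (inv_mem hw)
  exact (h1 hu).2 q rfl

theorem cj_comI (f : Fac p H V W) {h : G} (hh : h ∈ H) :
    cj h (comI Y V W) = ⁅V, cj h Y⁆ ⊔ W := by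
  rw [comI, Fusion.cj, Subgroup.map_sup, Subgroup.map_commutator]
  exact congrArg₂ (fun A B : Subgroup G => ⁅A, cj h Y⁆ ⊔ B)
    (cj_eq_of_mem (f.normV hh)) (cj_eq_of_mem (f.normW hh))

theorem mem_cj_fixJ (f : Fac p H V W) {h v : G} (hh : h ∈ H) :
    v ∈ cj h (fixJ Y V W) ↔ v ∈ V ∧ v ∈ modCent W (cj h Y : Set G) := by
  rw [mem_cj]
  constructor
  · rintro ⟨h1, h2⟩
    have h1' := conj_mem_of_mem_normalizer (f.normV hh) h1
    have h2' := conj_mem_modCent (S' := (cj h Y : Set G)) (f.normW hh)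
      (fun s hs => mem_cj.1 hs) h2
    exact ⟨by simpa [mul_assoc] using h1', by simpa [mul_assoc] using h2'⟩
  · rintro ⟨h1, h2⟩
    refine ⟨by simpa using conj_mem_of_mem_normalizer (f.normV (inv_mem hh)) h1, ?_⟩
    have := conj_mem_modCent (S' := (Y : Set G)) (inv_mem (f.normW hh))
      (fun s hs => by
        show h⁻¹⁻¹ * s * h⁻¹ ∈ cj h Y
        rw [mem_cj]; simpa [mul_assoc] using hs) h2
    simpa using this

/-- If `H = ⟨hYh⁻¹, P⟩`, then `V/W` is `[V, Y]` plus the fixed points of `hYh⁻¹`, a direct sum, and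
`[V, P]` is the set of fixed points of `Y`. -/
theorem fac_split (c : Ctx p H P Y) (f : Fac p H V W) {h : G} (hh : h ∈ H)
    (hgen : H ≤ cj h Y ⊔ P) :
    comI Y V W ⊓ cj h (fixJ Y V W) ≤ W ∧ V ≤ comI Y V W ⊔ cj h (fixJ Y V W) := by
  set I := comI Y V W with hI
  set J := fixJ Y V W with hJ
  set J' := cj h J with hJ'
  set I' := cj h I with hI'
  set CP := V ⊓ modCent W (P : Set G) with hCP
  set DP := ⁅V, P⁆ ⊔ W with hDP
  have hYh : cj h Y ≤ H := (cj_mono h c.hYH).trans (cj_eq_of_mem (Subgroup.le_normalizer hh)).le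
  have hJ'V : J' ≤ V := fun v hv => ((mem_cj_fixJ f hh).1 hv).1
  have hI'V : I' ≤ V := (cj_mono h (comI_le c f)).trans (cj_eq_of_mem (f.normV hh)).le
  have hWI' : W ≤ I' := by rw [hI', hI, cj_comI f hh]; exact le_sup_right
  have hWJ' : W ≤ J' := by
    have := cj_mono h (le_fixJ c f)
    rwa [cj_eq_of_mem (f.normW hh)] at this
  have hICP : I ≤ CP := le_inf (comI_le c f) (le_modCent ((comI_le c f).trans (f.le_H.trans f.normW))
    fun q hq u hu => commutator_comI_P c f q hq u hu)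
  have hgenS : H ≤ closure ((cj h Y : Set G) ∪ (P : Set G)) := by
    rw [Subgroup.closure_union, closure_eq, closure_eq]; exact hgen
  have hCPJ : CP ⊓ J' ≤ W := by
    set F := V ⊓ modCent W (H : Set G) with hF
    have hle : CP ⊓ J' ≤ F := by
      rintro v ⟨hv1, hv2⟩
      refine ⟨hv1.1, mem_modCent_of_generators hgenS ?_ ⟨f.normW (f.le_H hv1.1), ?_⟩⟩
      · exact Set.union_subset (hYh.trans f.normW) (c.hPH.trans f.normW)
      · rintro s (hs | hs)
        · exact ((mem_cj_fixJ f hh).1 hv2).2.2 s hs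
        · exact hv1.2.2 s hs
    refine hle.trans ?_
    have hFn : H ≤ normalizer (F : Set G) := mem_normalizer_of_forall fun s hs x hx =>
      ⟨conj_mem_of_mem_normalizer (f.normV hs) hx.1,
        conj_mem_modCent (f.normW hs) (fun t ht => mul_mem (mul_mem (inv_mem hs) ht) hs) hx.2⟩
    have hWF : W ≤ F := le_inf f.lt.le (le_modCent Subgroup.le_normalizer fun s hs w hw => by
      rw [commutatorElement_def]
      exact mul_mem (conj_mem_of_mem_normalizer (f.normW hs) hw) (inv_mem hw))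
    rcases f.irr F hFn hWF inf_le_left with e | e
    · exact e.le
    · exfalso
      apply f.noncentral
      rw [Subgroup.commutator_le]
      intro v hv s hs
      rw [← commutatorElement_inv]
      exact inv_mem ((e.ge hv).2.2 s hs)
  have hDPV : DP ≤ V := sup_le (commutator_le_left_of_le_normalizer (c.hPH.trans f.normV)) f.lt.le
  have hDPI : V ≤ DP ⊔ I' := by
    set X := DP ⊔ I' with hX
    have hXV : X ≤ V := sup_le hDPV hI'V
    have hPX : P ≤ normalizer (X : Set G) := by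
      refine le_normalizer_of_commutator_le ((commutator_mono le_rfl hXV).trans ?_)
      rw [Subgroup.commutator_comm]
      exact le_sup_of_le_left le_sup_left
    have hYX : cj h Y ≤ normalizer (X : Set G) := by
      refine le_normalizer_of_commutator_le ((commutator_mono le_rfl hXV).trans ?_)
      rw [Subgroup.commutator_comm, hX, hI', hI, cj_comI f hh]
      exact le_sup_of_le_right le_sup_left
    have hHX : H ≤ normalizer (X : Set G) := hgen.trans (sup_le hYX hPX)
    have hc : ⁅H, V⁆ ≤ X := by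
      refine (commutator_mono hgenS le_rfl).trans
        (commutator_closure_le (Set.union_subset hYX hPX) ?_)
      rintro x (hx | hx) v hv
      · have : ⁅x, v⁆ ∈ I' := by
          rw [hI', hI, cj_comI f hh, ← commutatorElement_inv]
          exact inv_mem (mem_sup_left (commutator_mem_commutator hv hx))
        exact mem_sup_right this
      · have : ⁅x, v⁆ ∈ DP := by
          rw [← commutatorElement_inv]
          exact inv_mem (mem_sup_left (commutator_mem_commutator hv hx))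
        exact mem_sup_left this
    rcases f.irr X hHX (le_sup_of_le_left le_sup_right) hXV with e | e
    · exact absurd ((Subgroup.commutator_comm V H).le.trans (hc.trans e.le)) f.noncentral
    · exact e.ge
  have hDPJ : DP ≤ J := sup_le (commutator_le_fixJ_of_centralizing c f c.hPH c.hPY) (le_fixJ c f)
  have hnI : I ≤ normalizer (J' : Set G) :=
    (comI_le c f).trans (f.le_normalizer_between hWJ' hJ'V)
  have hnD : DP ≤ normalizer (I' : Set G) :=
    hDPV.trans (f.le_normalizer_between hWI' hI'V)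
  have hnCP : CP ≤ normalizer (J' : Set G) := inf_le_left.trans (f.le_normalizer_between hWJ' hJ'V)
  have e1 := card_mul_card hnCP
  have e2 := card_mul_card hnD
  have e3 := card_mul_card hnI
  have q1 : Nat.card CP * Nat.card J' ≤ Nat.card V * Nat.card W := by
    rw [e1]; exact Nat.mul_le_mul (card_le_of_le (sup_le inf_le_left hJ'V)) (card_le_of_le hCPJ)
  have q2 : Nat.card V * Nat.card W ≤ Nat.card DP * Nat.card I' := by
    rw [e2]; exact Nat.mul_le_mul (card_le_of_le hDPI) (card_le_of_le (le_inf le_sup_right hWI'))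
  have hcI : Nat.card I' = Nat.card I := card_map_of_injective (MulEquiv.injective _)
  have hcJ : Nat.card J' = Nat.card J := card_map_of_injective (MulEquiv.injective _)
  have q3 : Nat.card DP ≤ Nat.card J := card_le_of_le hDPJ
  have q4 : Nat.card I ≤ Nat.card CP := card_le_of_le hICP
  have q5 : Nat.card I * Nat.card J' = Nat.card V * Nat.card W := by
    refine le_antisymm (le_trans (Nat.mul_le_mul_right _ q4) q1) (q2.trans ?_)
    rw [hcI, hcJ, mul_comm (Nat.card I)]
    exact Nat.mul_le_mul_right _ q3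
  refine ⟨fun x hx => hCPJ ⟨hICP hx.1, hx.2⟩, ?_⟩
  have hWIJ : W ≤ I ⊓ J' := le_inf le_sup_right hWJ'
  have hIJW : I ⊓ J' = W := le_antisymm (fun x hx => hCPJ ⟨hICP hx.1, hx.2⟩) hWIJ
  rw [e3, hIJW] at q5
  exact (eq_of_le_of_card_ge (sup_le (comI_le c f) hJ'V)
    (Nat.eq_of_mul_eq_mul_right Nat.card_pos q5).ge).ge

/-- The decomposition `V/W = [V,Y] + [V,hYh⁻¹] + C(⟨Y, hYh⁻¹⟩)`. -/
theorem fac_decomp (c : Ctx p H P Y) (f : Fac p H V W) {h : G} (hh : h ∈ H)
    (hgen : H ≤ cj h Y ⊔ P) (hgen' : H ≤ cj h⁻¹ Y ⊔ P) :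
    V ≤ comI Y V W ⊔ cj h (comI Y V W) ⊔ (fixJ Y V W ⊓ cj h (fixJ Y V W)) ∧
      fixJ Y V W ≤ comI Y V W ⊔ (fixJ Y V W ⊓ cj h (fixJ Y V W)) ∧
      (comI Y V W ⊔ cj h (comI Y V W)) ⊓ fixJ Y V W ≤ comI Y V W := by
  obtain ⟨h1, h2⟩ := fac_split c f hh hgen
  obtain ⟨h3, h4⟩ := fac_split c f (inv_mem hh) hgen'
  set I := comI Y V W with hI
  set J := fixJ Y V W with hJ
  have hJ'V : cj h J ≤ V := fun v hv => ((mem_cj_fixJ f hh).1 hv).1
  have hI'V : cj h I ≤ V := (cj_mono h (comI_le c f)).trans (cj_eq_of_mem (f.normV hh)).le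
  have hWI : W ≤ I := le_sup_right
  have hWJ' : W ≤ cj h J := by
    have := cj_mono h (le_fixJ c f); rwa [cj_eq_of_mem (f.normW hh)] at this
  have hWI' : W ≤ cj h I := by
    have := cj_mono h hWI; rwa [cj_eq_of_mem (f.normW hh)] at this
  have hnI : I ≤ normalizer (cj h J : Set G) :=
    (comI_le c f).trans (f.le_normalizer_between hWJ' hJ'V)
  have hsplit : J ≤ I ⊔ (J ⊓ cj h J) := by
    intro x hx
    obtain ⟨a, ha, b, hb, rfl⟩ := exists_mul_of_mem_sup' hnI (h2 hx.1)
    refine mul_mem (mem_sup_left ha) (mem_sup_right ⟨?_, hb⟩)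
    have := mul_mem (inv_mem (comI_le_fixJ c f ha)) hx
    rwa [inv_mul_cancel_left] at this
  refine ⟨?_, hsplit, ?_⟩
  · refine h2.trans (sup_le (le_sup_of_le_left le_sup_left) ?_)
    have hVJI : V ≤ cj h I ⊔ J := by
      have := cj_mono h h4
      rw [cj_eq_of_mem (f.normV hh), Fusion.cj, Subgroup.map_sup] at this
      refine this.trans (sup_le le_sup_left ?_)
      have e : cj h (cj h⁻¹ J) = J := by rw [cj_cj, mul_inv_cancel, cj_one]
      exact e.le.trans le_sup_right
    intro x hx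
    obtain ⟨a, ha, b, hb, rfl⟩ := exists_mul_of_mem_sup'
      (hI'V.trans (f.le_normalizer_between (le_fixJ c f) inf_le_left)) (hVJI (hJ'V hx))
    refine mul_mem (mem_sup_left (mem_sup_right ha)) (mem_sup_right ⟨hb, ?_⟩)
    have := mul_mem (inv_mem (cj_mono h (comI_le_fixJ c f) ha)) hx
    rwa [inv_mul_cancel_left] at this
  · rintro x ⟨hx1, hx2⟩
    obtain ⟨a, ha, b, hb, rfl⟩ := exists_mul_of_mem_sup'
      ((comI_le c f).trans (f.le_normalizer_between hWI' hI'V)) hx1
    have hbJ : b ∈ J := by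
      have := mul_mem (inv_mem (comI_le_fixJ c f ha)) hx2
      rwa [inv_mul_cancel_left] at this
    refine mul_mem ha (hWI ?_)
    have hbW : h⁻¹ * b * h ∈ W := by
      refine h3 ⟨mem_cj.1 hb, mem_cj.2 ?_⟩
      simpa [mul_assoc] using hbJ
    have := conj_mem_of_mem_normalizer (f.normW hh) hbW
    simpa [mul_assoc] using this

/-- An element of `L = ⟨Y, hYh⁻¹⟩` mapping `Y` into `C(Y)` normalizes `Y`. -/
theorem mem_normalizer_of_commute (c : Ctx p H P Y) {L : Subgroup G} (hLH : L ≤ H) (hYL : Y ≤ L)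
    {h : G} (hh : h ∈ L) (hgen : H ≤ cj h Y ⊔ P) (hgen' : H ≤ cj h⁻¹ Y ⊔ P)
    (hL : L ≤ Y ⊔ cj h Y) {x : G} (hx : x ∈ L) (hxc : cj x Y ≤ centralizer (Y : Set G)) :
    x ∈ normalizer (Y : Set G) := by
  refine c.hNP ?_
  have hxH := hLH hx
  have hxL : cj x Y ≤ L := (cj_mono x hYL).trans (cj_eq_of_mem (Subgroup.le_normalizer hx)).le
  have hfix : ∀ V W, Fac p H V W → x ∈ normalizer (comI Y V W : Set G) ∧
      x ∈ normalizer (fixJ Y V W : Set G) ∧ x ∈ fixLayer (fixJ Y V W) (comI Y V W) := by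
    intro V W f
    obtain ⟨d1, d2, d3⟩ := fac_decomp c f (hLH hh) hgen hgen'
    set I := comI Y V W with hI
    set J := fixJ Y V W with hJ
    set C0 := J ⊓ cj h J with hC0
    have hI'V : cj h I ≤ V :=
      (cj_mono h (comI_le c f)).trans (cj_eq_of_mem (f.normV (hLH hh))).le
    have hV1V : I ⊔ cj h I ≤ V := sup_le (comI_le c f) hI'V
    have hVL : ⁅L, V⁆ ≤ I ⊔ cj h I := by
      have hs : L ≤ closure ((Y : Set G) ∪ (cj h Y : Set G)) := by
        rw [Subgroup.closure_union, closure_eq, closure_eq]; exact hL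
      refine (commutator_mono hs le_rfl).trans (commutator_closure_le ?_ ?_)
      · refine Set.union_subset (le_normalizer_of_commutator_le ?_) (le_normalizer_of_commutator_le ?_)
        · refine (commutator_mono le_rfl hV1V).trans ?_
          rw [Subgroup.commutator_comm]
          exact le_sup_of_le_left le_sup_left
        · refine (commutator_mono le_rfl hV1V).trans ?_
          rw [Subgroup.commutator_comm]
          refine le_sup_of_le_right ?_
          rw [hI, cj_comI f (hLH hh)]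
          exact le_sup_left
      · rintro y (hy | hy) v hv
        · rw [← commutatorElement_inv]
          exact inv_mem (mem_sup_left (mem_sup_left (commutator_mem_commutator hv hy)))
        · rw [← commutatorElement_inv]
          refine inv_mem (mem_sup_right ?_)
          rw [hI, cj_comI f (hLH hh)]
          exact mem_sup_left (commutator_mem_commutator hv hy)
    have hxI : cj x I ≤ I := by
      rw [hI, cj_comI f hxH]
      refine le_trans (le_inf (sup_le ?_ (le_sup_of_le_left le_sup_right))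
        (sup_le (commutator_le_fixJ_of_centralizing c f (hxL.trans hLH) hxc) (le_fixJ c f))) d3
      rw [Subgroup.commutator_comm]
      exact (commutator_mono hxL le_rfl).trans hVL
    have hC0L : ∀ u ∈ C0, u ∈ modCent W (L : Set G) := by
      intro u hu
      refine mem_modCent_of_generators (S := (Y : Set G) ∪ (cj h Y : Set G)) ?_ ?_
        ⟨hu.1.2.1, ?_⟩
      · rw [Subgroup.closure_union, closure_eq, closure_eq]; exact hL
      · exact Set.union_subset (c.hYH.trans f.normW) (((cj_mono h c.hYH).trans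
          (cj_eq_of_mem (Subgroup.le_normalizer (hLH hh))).le).trans f.normW)
      · rintro s (hs | hs)
        · exact hu.1.2.2 s hs
        · exact ((mem_cj_fixJ f (hLH hh)).1 hu.2).2.2 s hs
    have hnI : x ∈ normalizer (I : Set G) := cj_eq_iff_mem_normalizer.1
      (eq_of_le_of_card_ge hxI (card_map_of_injective (MulEquiv.injective _)).ge)
    have hIle : I ≤ J := comI_le_fixJ c f
    have hC0V : C0 ≤ V := inf_le_left.trans inf_le_left
    have hJfix : ∀ u ∈ J, ⁅x, u⁆ ∈ I := by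
      intro u hu
      obtain ⟨a, ha, b, hb, rfl⟩ := exists_mul_of_mem_sup'
        ((comI_le c f).trans (f.le_normalizer_between (le_inf (le_fixJ c f) (by
          have := cj_mono h (le_fixJ c f)
          rwa [cj_eq_of_mem (f.normW (hLH hh))] at this)) hC0V)) (d2 hu)
      have e : ⁅x, a * b⁆ = ⁅x, a⁆ * (a * ⁅x, b⁆ * a⁻¹) := by
        simp [commutatorElement_def, mul_assoc]
      rw [e]
      refine mul_mem ?_ (mul_mem (mul_mem ha (mem_sup_right ((hC0L b hb).2 x hx))) (inv_mem ha))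
      rw [commutatorElement_def]
      exact mul_mem (conj_mem_of_mem_normalizer hnI ha) (inv_mem ha)
    have hnJ : x ∈ normalizer (J : Set G) := cj_eq_iff_mem_normalizer.1
      (eq_of_le_of_card_ge (fun v hv => by
        rw [mem_cj] at hv
        have := mul_mem (hIle (hJfix _ hv)) hv
        simpa [commutatorElement_def, mul_assoc] using this)
        (card_map_of_injective (MulEquiv.injective _)).ge)
    exact ⟨hnI, hnJ, hnJ, hnI, hJfix⟩
  set N : Subgroup G := H ⊓ ⨅ f : {f : Subgroup G × Subgroup G // Fac p H f.1 f.2},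
    normalizer (comI Y f.1.1 f.1.2 : Set G) ⊓ normalizer (fixJ Y f.1.1 f.1.2 : Set G) with hN
  set K : Subgroup G := H ⊓ ⨅ f : {f : Subgroup G × Subgroup G // Fac p H f.1 f.2},
    fixLayer (comI Y f.1.1 f.1.2) f.1.2 ⊓ fixLayer (fixJ Y f.1.1 f.1.2) (comI Y f.1.1 f.1.2) ⊓
      fixLayer f.1.1 (fixJ Y f.1.1 f.1.2) with hK
  have hPN : P ≤ N := le_inf c.hPH (le_iInf fun f =>
    le_inf (P_normalizes_comI c f.2) (P_normalizes_fixJ c f.2))
  have hKn : N ≤ normalizer (K : Set G) := by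
    refine mem_normalizer_of_forall fun n hn g hg => ?_
    rw [hN, mem_inf, mem_iInf] at hn
    rw [hK, mem_inf, mem_iInf] at hg ⊢
    refine ⟨mul_mem (mul_mem hn.1 hg.1) (inv_mem hn.1), fun f => ⟨⟨?_, ?_⟩, ?_⟩⟩
    · exact conj_mem_fixLayer (hn.2 f).1 (f.2.normW hn.1) (hg.2 f).1.1
    · exact conj_mem_fixLayer (hn.2 f).2 (hn.2 f).1 (hg.2 f).1.2
    · exact conj_mem_fixLayer (f.2.normV hn.1) (hn.2 f).2 (hg.2 f).2
  have hKp : IsPGroup p K := isPGroup_of_forall_coprime fun g hg hcop => by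
    rw [hK, mem_inf, mem_iInf] at hg
    refine eq_one_of_fix_factors c.hcharP hg.1 hcop fun V W f v hv => ?_
    obtain ⟨⟨g1, g2⟩, g3⟩ := hg.2 ⟨(V, W), f⟩
    have hJV : fixJ Y V W ≤ V := inf_le_left
    have h1 : ⁅g, v⁆ ∈ fixJ Y V W := g3.2.2 v hv
    have h2 : ⁅g, v⁆ ∈ comI Y V W := coprime_step hcop g1.1
      (f.le_normalizer_between le_sup_right (comI_le c f) (hJV h1))
      (LocalP.exists_pow_eq_one_of_mem (pCoreOf_isPGroup H) (f.le_core (hJV h1))) (g2.2.2 _ h1)
    exact coprime_step hcop g1.2.1 ((f.le_H.trans f.normW) (hJV h1))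
      (LocalP.exists_pow_eq_one_of_mem (pCoreOf_isPGroup H) (f.le_core (hJV h1))) (g1.2.2 _ h2)
  have hT : IsPGroup p ↥(P ⊔ K) := isPGroup_sup c.hP hKp (hPN.trans hKn)
  have hxP : cj x P ≤ P ⊔ K := by
    rintro g hg
    rw [mem_cj] at hg
    set q := x⁻¹ * g * x with hq
    have e : g = ⁅x, q⁆ * q := by simp [hq, commutatorElement_def, mul_assoc]
    rw [e]
    refine mul_mem (mem_sup_right ?_) (mem_sup_left hg)
    rw [hK, mem_inf, mem_iInf]
    have hqH := c.hPH hg
    refine ⟨?_, fun f => ?_⟩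
    · rw [commutatorElement_def]
      exact mul_mem (mul_mem (mul_mem hxH hqH) (inv_mem hxH)) (inv_mem hqH)
    obtain ⟨n1, n2, n3⟩ := hfix _ _ f.2
    refine ⟨⟨?_, ?_⟩, ?_⟩
    · exact commutator_mem_fixLayer_right n1 (f.2.normW hxH)
        ⟨P_normalizes_comI c f.2 hg, f.2.normW hqH, fun u hu => commutator_comI_P c f.2 q hg u hu⟩
    · exact commutator_mem_fixLayer_left (P_normalizes_fixJ c f.2 hg) (P_normalizes_comI c f.2 hg) n3
    · refine commutator_mem_fixLayer_right (f.2.normV hxH) n2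
        ⟨f.2.normV hqH, P_normalizes_fixJ c f.2 hg, fun v hv => ?_⟩
      rw [← commutatorElement_inv]
      exact inv_mem (commutator_le_fixJ_of_centralizing c f.2 c.hPH c.hPY
        (commutator_mem_commutator hv hg))
  exact cj_eq_iff_mem_normalizer.1 (wcs_eq c.wcs hT le_sup_left hxP)

end Cfsg.Agent.LAE60.AsymL
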