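import Cfsg.Prelude.Def_LocalStructure
import Cfsg.Agent.LAE60.Basic
import Cfsg.Agent.LAE60.SPE
import Cfsg.Agent.Modules.ElemAb

/-!
A group acting through a `p'`-group on an elementary abelian `p`-group, normalized by a `p`-group
whose fixed points it centralizes, acts trivially.
-/

set_option autoImplicit false
set_option linter.unusedVariables false

open Subgroup
open scoped commutatorElement

namespace Cfsg.Agent.LAE60

variable {G : Type*} [Group G] [Finite G] {p : ℕ} [hp : Fact p.Prime]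

open scoped IsMulCommutative in
/-- If the `p`-elements of `C` centralize the abelian `p`-group `W`, then `[W,C] ∩ C_W(C) = 1`. -/
theorem commutator_inf_centralizer_eq_bot {C W : Subgroup G} [IsMulCommutative W]
    (hWp : IsPGroup p W) (hCW : C ≤ normalizer (W : Set G))
    (hp' : ∀ c ∈ C, (∃ k : ℕ, c ^ p ^ k = 1) → c ∈ centralizer (W : Set G)) :
    ⁅W, C⁆ ⊓ centralizer (C : Set G) = ⊥ := by
  classical
  let φ : C →* MulAut W :=
    { toFun := fun c =>
        { toFun := fun w => ⟨c * w * (c : G)⁻¹, conj_mem_of_mem_normalizer (hCW c.2) w.2⟩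
          invFun := fun w => ⟨(c : G)⁻¹ * w * (c : G)⁻¹⁻¹,
            conj_mem_of_mem_normalizer (inv_mem (hCW c.2)) w.2⟩
          left_inv := fun w => Subtype.ext (by simp [mul_assoc])
          right_inv := fun w => Subtype.ext (by simp [mul_assoc])
          map_mul' := fun v w => Subtype.ext (by simp [mul_assoc]) }
      map_one' := MulEquiv.ext fun w => Subtype.ext (by simp)
      map_mul' := fun a b => MulEquiv.ext fun w => Subtype.ext (by simp [mul_assoc]) }
  have hφ : ∀ (c : C) (w : W), ((φ c w : W) : G) = c * w * (c : G)⁻¹ := fun _ _ => rfl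
  set A := φ.range
  haveI : Finite (MulAut W) := Finite.of_injective (fun e => (e : W → W)) DFunLike.coe_injective
  haveI : Fintype A := Fintype.ofFinite A
  have hA : ¬ p ∣ Nat.card A := by
    intro hd
    obtain ⟨⟨a, c, rfl⟩, ha⟩ := exists_prime_orderOf_dvd_card' (G := A) p hd
    replace ha : orderOf (φ c) = p := by
      rw [← ha]; exact orderOf_injective A.subtype A.subtype_injective ⟨φ c, c, rfl⟩
    set n := orderOf (c : G)
    set k := n.factorization p
    set c' := c ^ (n / p ^ k)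
    have hc' : (c' : G) ^ p ^ k = 1 := by
      rw [show (c' : G) = (c : G) ^ (n / p ^ k) from SubgroupClass.coe_pow _ _, ← pow_mul,
        Nat.div_mul_cancel (Nat.ordProj_dvd n p), pow_orderOf_eq_one]
    have h1 : φ c' = 1 := MulEquiv.ext fun w => Subtype.ext (by
      rw [hφ]
      have := hp' c' c'.2 ⟨k, hc'⟩ w w.2
      rw [← this]; simp)
    rw [show φ c' = φ c ^ (n / p ^ k) from map_pow φ c _] at h1
    have h2 := orderOf_dvd_of_pow_eq_one h1
    rw [ha] at h2
    exact Nat.not_dvd_ordCompl hp.1 (orderOf_pos (c : G)).ne' h2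
  let f : W →* W := ∏ a : A, (a : MulAut W).toMonoidHom
  have hf : ∀ w, f w = ∏ a : A, (a : MulAut W) w := fun w => MonoidHom.finsetProd_apply _ _ _
  have hinv : ∀ (a : A) w, f ((a : MulAut W) w) = f w := by
    intro a w
    simp only [hf]
    exact Equiv.prod_comp (Equiv.mulRight a) (fun b : A => (b : MulAut W) w)
  have hker : ⁅W, C⁆ ≤ f.ker.map W.subtype := by
    rw [Subgroup.commutator_le]
    intro w hw c hc
    refine ⟨⟨w, hw⟩ * φ ⟨c, hc⟩ ⟨w, hw⟩⁻¹, ?_, ?_⟩
    · rw [SetLike.mem_coe, MonoidHom.mem_ker, map_mul, hinv ⟨φ ⟨c, hc⟩, ⟨_, rfl⟩⟩, map_inv,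
        mul_inv_cancel]
    · rw [map_mul]
      show w * ((φ ⟨c, hc⟩ ⟨w, hw⟩⁻¹ : W) : G) = ⁅w, c⁆
      rw [hφ]
      simp [commutatorElement_def, mul_assoc]
  rw [eq_bot_iff]
  rintro x ⟨hx, hxC⟩
  obtain ⟨y, hy, rfl⟩ := hker hx
  have hfix : ∀ a : A, (a : MulAut W) y = y := by
    rintro ⟨_, c, rfl⟩
    refine Subtype.ext ?_
    change ((φ c y : W) : G) = (y : G)
    have hcy : (c : G) * (y : G) = y * c := hxC c c.2
    rw [hφ, hcy]
    exact mul_inv_cancel_right _ _
  have hpow : y ^ Nat.card A = 1 := by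
    rw [← hy, hf, Finset.prod_congr rfl (fun a _ => hfix a), Finset.prod_const, Finset.card_univ,
      Nat.card_eq_fintype_card]
  have h1 : (y : G) = 1 := by
    refine eq_one_of_coprime_of_mem hWp y.2 ?_
    refine Nat.Coprime.coprime_dvd_left (orderOf_dvd_of_pow_eq_one (congrArg Subtype.val hpow)) ?_
    exact (hp.1.coprime_iff_not_dvd.2 hA).symm
  simp [h1]

/-- If moreover a `p`-group normalizing `W` and `C` has all its fixed points in `C_W(C)`, then `C`
centralizes `W`. -/
theorem le_centralizer_of_fixed_le {C W T : Subgroup G} (hW : IsMulCommutative W)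
    (hWp : IsPGroup p W) (hCW : C ≤ normalizer (W : Set G))
    (hp' : ∀ c ∈ C, (∃ k : ℕ, c ^ p ^ k = 1) → c ∈ centralizer (W : Set G))
    (hT : IsPGroup p T) (hTW : T ≤ normalizer (W : Set G)) (hTC : T ≤ normalizer (C : Set G))
    (hfix : ∀ w ∈ W, orderOf w = p → w ∈ centralizer (T : Set G) → w ∈ centralizer (C : Set G)) :
    C ≤ centralizer (W : Set G) := by
  haveI := hW
  have hDW : ⁅W, C⁆ ≤ W := commutator_le_left_of_le_normalizer hCW
  have hbot : ⁅W, C⁆ = ⊥ := by
    by_contra hne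
    set D := ⁅W, C⁆
    have hTD : T ≤ normalizer (D : Set G) := le_normalizer_commutator hTW hTC
    have hX : IsPGroup p ↥(T ⊔ D) := isPGroup_sup hT (hWp.to_le hDW) hTD
    haveI : (D.subgroupOf (T ⊔ D)).Normal :=
      (normal_subgroupOf_iff_le_normalizer le_sup_right).2 (sup_le hTD Subgroup.le_normalizer)
    have hne' : D.subgroupOf (T ⊔ D) ≠ ⊥ := by
      rw [Ne, subgroupOf_eq_bot, disjoint_iff, inf_eq_left.2 (le_sup_right : D ≤ T ⊔ D)]; exact hne
    obtain ⟨⟨x, hx⟩, hx1⟩ := (ne_bot_iff_exists_ne_one).1 (PGroup.inf_center_ne_bot hX _ hne')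
    have hmem : (x : G) ∈ D ⊓ centralizer (T : Set G) :=
      ⟨hx.1, fun q hq => congrArg Subtype.val (mem_center_iff.1 hx.2 ⟨q, mem_sup_left hq⟩)⟩
    have hne2 : D ⊓ centralizer (T : Set G) ≠ ⊥ := fun e => by
      rw [e, mem_bot] at hmem
      exact hx1 (Subtype.ext (Subtype.ext hmem))
    obtain ⟨u, hu, hup⟩ := exists_orderOf_eq_of_ne_bot (hWp.to_le (inf_le_left.trans hDW)) hne2
    have h1 : u ∈ D ⊓ centralizer (C : Set G) := ⟨hu.1, hfix u (hDW hu.1) hup hu.2⟩
    rw [commutator_inf_centralizer_eq_bot hWp hCW hp', mem_bot] at h1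
    rw [h1, orderOf_one] at hup
    exact hp.1.ne_one hup.symm
  exact mem_centralizer_comm (Subgroup.commutator_eq_bot_iff_le_centralizer.1 hbot)

end Cfsg.Agent.LAE60
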