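import Cfsg.Prelude.Def_LocalStructure
import Cfsg.Agent.LAE60.FrakM
import Cfsg.Agent.LAE60.PPrimeFix

/-!
The basic property: in parabolic characteristic `p` every member of `𝓛(T)` is dominated by a member
of `𝔐(T)`.
-/

set_option autoImplicit false
set_option linter.unusedVariables false
set_option linter.style.haveILetI false

open Subgroup
open scoped commutatorElement

namespace Cfsg.Agent.LAE60

open Cfsg.Agent.Fusion (cj mem_cj cj_cj cj_one cj_inf cj_mono cj_eq_of_mem conj_mem_cj cj_le_iff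
  le_cj_iff cj_normalizer isPGroup_cj cj_eq_iff_mem_normalizer)

variable {G : Type*} [Group G] [Finite G] {p : ℕ} [hp : Fact p.Prime]

omit [Finite G] hp in
theorem exists_mul_pow {C : Subgroup G} {d c : G} (hd : d ∈ normalizer (C : Set G)) (hc : c ∈ C)
    (n : ℕ) : ∃ c' ∈ C, (d * c) ^ n = d ^ n * c' := by
  induction n with
  | zero => exact ⟨1, one_mem C, by simp⟩
  | succ n ih =>
    obtain ⟨c', hc', e⟩ := ih
    refine ⟨d⁻¹ * c' * d * c, mul_mem (by simpa using conj_mem_of_mem_normalizer (inv_mem hd) hc') hc, ?_⟩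
    rw [pow_succ, e, pow_succ]; group

omit [Finite G] hp in
theorem exists_mul_of_mem_sup' {A C : Subgroup G} (h : A ≤ normalizer (C : Set G)) {x : G}
    (hx : x ∈ A ⊔ C) : ∃ a ∈ A, ∃ c ∈ C, x = a * c := by
  rw [← SetLike.mem_coe, Subgroup.coe_mul_of_left_le_normalizer_right _ _ h] at hx
  obtain ⟨a, ha, c, hc, rfl⟩ := hx
  exact ⟨a, ha, c, hc, rfl⟩

omit [Finite G] hp in
/-- Being `p`-reduced only depends on the image in `N(V)/C(V)`. -/
theorem isRed_transfer {A B V : Subgroup G} (h : IsRed p A V) (hVB : V ≤ B)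
    (hBV : B ≤ normalizer (V : Set G)) (hBA : B ≤ A ⊔ centralizer (V : Set G))
    (hAB : A ≤ B ⊔ centralizer (V : Set G)) : IsRed p B V := by
  refine ⟨hVB, hBV, h.2.2.1, fun D hDB hDn hD => ?_⟩
  set C := centralizer (V : Set G)
  have hBC : B ≤ normalizer (C : Set G) := le_normalizer_centralizer hBV
  have hAC : A ≤ normalizer (C : Set G) := le_normalizer_centralizer h.2.1
  have hCD : C ≤ normalizer ((D ⊔ C : Subgroup G) : Set G) := le_sup_right.trans Subgroup.le_normalizer
  have hDC : A ≤ normalizer ((D ⊔ C : Subgroup G) : Set G) :=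
    hAB.trans (sup_le (le_normalizer_sup hDn hBC) hCD)
  have h1 := h.2.2.2 ((D ⊔ C) ⊓ A) inf_le_right (le_normalizer_inf hDC Subgroup.le_normalizer) (by
    intro x hx
    obtain ⟨d, hd, c, hc, rfl⟩ := exists_mul_of_mem_sup' (hDB.trans hBC) hx.1
    obtain ⟨k, hk⟩ := hD d hd
    obtain ⟨c', hc', e⟩ := exists_mul_pow (hBC (hDB hd)) hc (p ^ k)
    exact ⟨k, e ▸ mul_mem hk hc'⟩)
  intro d hd
  obtain ⟨a, ha, c, hc, rfl⟩ := exists_mul_of_mem_sup' hAC (hBA (hDB hd))
  refine mul_mem (h1 ⟨?_, ha⟩) hc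
  have : a = a * c * c⁻¹ := by group
  rw [this]
  exact mul_mem (mem_sup_left hd) (mem_sup_right (inv_mem hc))

/-- Frattini argument for `C ∩ T`. -/
theorem frattini_cover {A C T : Subgroup G} (hT : IsPGroup p T) (hTA : T ≤ A)
    (hAC : A ≤ normalizer (C : Set G)) (hidx : ¬ p ∣ (C ⊓ T).relIndex C) :
    A ≤ (A ⊓ normalizer ((C ⊓ T : Subgroup G) : Set G)) ⊔ C := by
  intro a ha
  have hle : cj a (C ⊓ T) ≤ C := (cj_mono a inf_le_left).trans (cj_eq_of_mem (hAC ha)).le
  have hle' : cj a (C ⊓ T) ≤ A :=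
    (cj_mono a (inf_le_right.trans hTA)).trans (cj_eq_of_mem (Subgroup.le_normalizer ha)).le
  have hidx1 : ¬ p ∣ (C ⊓ T).relIndex (C ⊓ A) := fun h => hidx
    (h.trans (Dvd.intro _ (relIndex_mul_relIndex _ _ _ (le_inf inf_le_left (inf_le_right.trans hTA))
      inf_le_left)))
  have hidx2 : ¬ p ∣ (cj a (C ⊓ T)).relIndex (C ⊓ A) := by
    have e : (cj a (C ⊓ T)).relIndex (cj a (C ⊓ A)) = (C ⊓ T).relIndex (C ⊓ A) :=
      relIndex_map_map_of_injective _ _ (MulAut.conj a).injective
    rw [cj_inf a C A, cj_eq_of_mem (hAC ha), cj_eq_of_mem (Subgroup.le_normalizer ha)] at e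
    rwa [e]
  obtain ⟨y, hy, hyeq⟩ := Fusion.exists_conj_of_relIndex (isPGroup_cj hT.to_inf_right a)
    hT.to_inf_right (le_inf hle hle') (le_inf inf_le_left (inf_le_right.trans hTA)) hidx2 hidx1
  rw [cj_cj, cj_eq_iff_mem_normalizer] at hyeq
  have h2 : a = (y⁻¹ * (y * a)) := by group
  rw [h2]
  exact mul_mem (mem_sup_right (inv_mem hy.1)) (mem_sup_left ⟨mul_mem hy.2 ha, hyeq⟩)

/-- A `p`-group over a Sylow subgroup `P` of `C` inside `C` is `P`. -/
theorem le_of_sylow_inside {P X C : Subgroup G} (hX : IsPGroup p X) (hPX : P ≤ X) (hXC : X ≤ C)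
    (hidx : ¬ p ∣ P.relIndex C) : X ≤ P := by
  have h1 : P.relIndex X ∣ P.relIndex C := Dvd.intro _ (relIndex_mul_relIndex P X C hPX hXC)
  obtain ⟨k, hk⟩ := IsPGroup.iff_card.1 hX
  have h2 : P.relIndex X ∣ p ^ k := hk ▸ relIndex_dvd_card P X
  exact relIndex_eq_one.1 (Nat.eq_one_of_dvd_coprimes
    (Nat.Coprime.pow_left k (hp.1.coprime_iff_not_dvd.2 hidx)) h2 h1)

theorem exists_frakM (hpar : Cfsg.IsOfParabolicCharacteristic p G) (T : Sylow p G) (L : Subgroup G)
    (hTL : (T : Subgroup G) ≤ L) (hL : L ∈ Cfsg.charPSubgroups p G) :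
    ∃ M Ls : Subgroup G, (T : Subgroup G) ≤ M ∧ Cfsg.IsInFrakM p M ∧ (T : Subgroup G) ≤ Ls ∧
      Ls ≤ M ∧ Ls ∈ Cfsg.charPSubgroups p G ∧
      Cfsg.largestPReducedOf p L = Cfsg.largestPReducedOf p Ls ∧
      Cfsg.largestPReducedOf p L ≤ Cfsg.largestPReducedOf p M ∧
      L ⊔ centralizer (Cfsg.largestPReducedOf p L : Set G) =
        Ls ⊔ centralizer (Cfsg.largestPReducedOf p L : Set G) := by
  classical
  set Y0 := Cfsg.largestPReducedOf p L with hY0def
  set C0 := centralizer (Y0 : Set G)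
  set L1 := L ⊔ C0 with hL1def
  have hY0 : IsRed p L Y0 := isRed_largest L
  have hY0ne : Y0 ≠ ⊥ := largest_ne_bot T hTL hL
  have hY0p : IsPGroup p Y0 := Modules.elemAb_isPGroup hY0.2.2.1
  have hY0T : Y0 ≤ (T : Subgroup G) := (red_le_pCoreOf hY0).trans (pCoreOf_le_of_sylow T hTL)
  have hL1n : L1 ≤ normalizer (Y0 : Set G) := sup_le hY0.2.1 (centralizer_le_normalizer' _)
  have hTL1 : (T : Subgroup G) ≤ L1 := hTL.trans le_sup_left
  have hL1c : L1 ≤ normalizer (C0 : Set G) := le_normalizer_centralizer hL1n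
  let good : Subgroup G → Prop := fun X => (T : Subgroup G) ≤ X ∧ X ∈ Cfsg.charPSubgroups p G ∧
    Y0 ≤ Cfsg.largestPReducedOf p X ∧ L ≤ (X ⊓ L1) ⊔ C0
  -- choose `X` with `|Y_X|` and then `|X|` maximal
  obtain ⟨X, hX, hmax⟩ : ∃ X, good X ∧ ∀ Z, good Z →
      Nat.card (Cfsg.largestPReducedOf p Z) * (Nat.card G + 1) + Nat.card Z ≤
        Nat.card (Cfsg.largestPReducedOf p X) * (Nat.card G + 1) + Nat.card X := by
    obtain ⟨X, hX, hmax⟩ := Set.Finite.exists_maximalFor
      (fun X => Nat.card (Cfsg.largestPReducedOf p X) * (Nat.card G + 1) + Nat.card X) {X | good X}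
      (Set.toFinite _) ⟨L, hTL, hL, le_rfl, (le_inf le_rfl le_sup_left).trans le_sup_left⟩
    refine ⟨X, hX, fun Z hZ => ?_⟩
    by_contra h
    exact h (hmax hZ (le_of_lt (not_le.1 h)))
  have hmaxeq : ∀ Z, good Z → Cfsg.largestPReducedOf p X ≤ Cfsg.largestPReducedOf p Z →
      Cfsg.largestPReducedOf p Z = Cfsg.largestPReducedOf p X ∧ (X ≤ Z → Z = X) := by
    intro Z hZ hle
    have h := hmax Z hZ
    have h1 : Nat.card (Cfsg.largestPReducedOf p X) ≤ Nat.card (Cfsg.largestPReducedOf p Z) :=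
      Subgroup.card_le_of_le hle
    have hZG : Nat.card Z ≤ Nat.card G := Subgroup.card_le_card_group Z
    have hXG : Nat.card X ≤ Nat.card G := Subgroup.card_le_card_group X
    have h2 : Nat.card (Cfsg.largestPReducedOf p Z) = Nat.card (Cfsg.largestPReducedOf p X) := by
      nlinarith
    refine ⟨(Subgroup.eq_of_le_of_card_ge hle h2.le).symm, fun hXZ => ?_⟩
    exact (Subgroup.eq_of_le_of_card_ge hXZ (by rw [h2] at h; omega)).symm
  obtain ⟨hTX, hXL, hY0X, hcov⟩ := hX
  set Y := Cfsg.largestPReducedOf p X with hYdef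
  set C := centralizer (Y : Set G)
  have hY : IsRed p X Y := isRed_largest X
  have hYp : IsPGroup p Y := Modules.elemAb_isPGroup hY.2.2.1
  have hYne : Y ≠ ⊥ := largest_ne_bot T hTX hXL
  have hXN : X ≤ normalizer (Y : Set G) := hY.2.1
  have hNC := mem_charPSubgroups_of_normalized hpar T (hTX.trans hXN) hYp hYne
    Subgroup.le_normalizer le_rfl
  have hNX : normalizer (Y : Set G) = X := by
    have hmono : Y ≤ Cfsg.largestPReducedOf p (normalizer (Y : Set G)) :=
      largest_mono (charP_of_mem_charPSubgroups hNC) T.2 hTX hXN (sylow_relIndex T (hTX.trans hXN))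
    exact (hmaxeq _ ⟨hTX.trans hXN, hNC, hY0X.trans hmono,
      hcov.trans (sup_le_sup_right (inf_le_inf_right _ hXN) _)⟩ hmono).2 hXN
  have hCX : C ≤ X := hNX ▸ centralizer_le_normalizer' Y
  have hXC : X ≤ normalizer (C : Set G) := le_normalizer_centralizer hXN
  have hXmax : X ∈ Cfsg.maxCharPSubgroups p G := by
    refine ⟨hXL, fun Z hZ hXZ => ?_⟩
    have hmono : Y ≤ Cfsg.largestPReducedOf p Z :=
      largest_mono (charP_of_mem_charPSubgroups hZ) T.2 hTX hXZ (sylow_relIndex T (hTX.trans hXZ))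
    exact (hmaxeq _ ⟨hTX.trans hXZ, hZ, hY0X.trans hmono,
      hcov.trans (sup_le_sup_right (inf_le_inf_right _ hXZ) _)⟩ hmono).2 hXZ
  -- the minimal supplement `M`
  set P := C ⊓ (T : Subgroup G) with hPdef
  have hPi : ¬ p ∣ P.relIndex C :=
    not_dvd_inf_relIndex T.2 hTX (sylow_relIndex T hTX) hCX hXC
  have hTP : (T : Subgroup G) ≤ normalizer (P : Set G) :=
    le_normalizer_inf (hTX.trans hXC) Subgroup.le_normalizer
  obtain ⟨M, hMX0, hMmin⟩ := Finite.exists_le_minimal
    (p := fun M : Subgroup G => (T : Subgroup G) ≤ M ∧ M ≤ X ⊓ normalizer (P : Set G) ∧ X ≤ M ⊔ C)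
    (a := X ⊓ normalizer (P : Set G))
    ⟨le_inf hTX hTP, le_rfl, frattini_cover T.2 hTX hXC hPi⟩
  obtain ⟨hTM, hMle, hXMC⟩ := hMmin.1
  have hMX : M ≤ X := hMle.trans inf_le_left
  have hMP : M ≤ normalizer (P : Set G) := hMle.trans inf_le_right
  have hPM : P ≤ M := inf_le_right.trans hTM
  have hPp : IsPGroup p P := T.2.to_inf_right
  have hMC : M ⊔ C = X := le_antisymm (sup_le hMX hCX) hXMC
  have hYM : IsRed p M Y := isRed_transfer hY
    ((le_inf (Modules.elemAb_le_centralizer hY.2.2.1) ((red_le_pCoreOf hY).trans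
      (pCoreOf_le_of_sylow T hTX))).trans hPM)
    (hMX.trans hXN) (hMX.trans le_sup_left) hXMC
  have hPne : P ≠ ⊥ := fun e => hYne (eq_bot_iff.2 (e ▸ le_inf (Modules.elemAb_le_centralizer
    hY.2.2.1) ((red_le_pCoreOf hY).trans (pCoreOf_le_of_sylow T hTX))))
  have hMch := mem_charPSubgroups_of_normalized hpar T hTM hPp hPne hPM hMP
  have hYMeq : Cfsg.largestPReducedOf p M = Y :=
    le_antisymm (largest_mono (charP_of_mem_charPSubgroups hXL) T.2 hTM hMX (sylow_relIndex T hTX))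
      (le_largestPReducedOf hYM)
  have hcore : Cfsg.pCoreOf p M = P := le_antisymm
    (le_inf (pCoreOf_le_centralizer_red hYM) (pCoreOf_le_of_sylow T hTM)) (le_pCoreOf hPM hMP hPp)
  have hclosed : Cfsg.IsPClosed p ↥(M ⊓ C) := by
    rw [LocalP.isPClosed_subgroup_iff]
    intro x hx ⟨k, hk⟩
    refine le_pCoreOf (le_inf hPM inf_le_left) (inf_le_left.trans hMP) hPp ?_
    have hxp : IsPGroup p (zpowers x) := by
      obtain ⟨j, -, hj⟩ := (Nat.dvd_prime_pow hp.1).1 (orderOf_dvd_of_pow_eq_one hk)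
      exact IsPGroup.of_card (n := j) (by rw [Nat.card_zpowers, hj])
    exact le_of_sylow_inside (isPGroup_sup hxp hPp ((zpowers_le.2 hx.1).trans hMP)) le_sup_right
      (sup_le (zpowers_le.2 hx.2) inf_le_left) hPi (mem_sup_left (mem_zpowers x))
  have hfrat : ((M ⊓ C).subgroupOf M).map (QuotientGroup.mk' (Cfsg.pCore p ↥M)) ≤
      frattini (↥M ⧸ Cfsg.pCore p ↥M) := by
    refine le_iInf₂ fun Bb hBb => ?_
    set q := QuotientGroup.mk' (Cfsg.pCore p ↥M)
    set B' := Bb.comap q with hB'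
    set K := (M ⊓ C).subgroupOf M
    haveI : K.Normal := (normal_subgroupOf_iff_le_normalizer inf_le_left).2
      (le_normalizer_inf Subgroup.le_normalizer (hMX.trans hXC))
    by_contra hK
    have htop : B' ⊔ K = ⊤ := by
      have h1 : Bb ⊔ K.map q = ⊤ := hBb.2 _ (lt_of_le_of_ne le_sup_left
        (fun e => hK (e ▸ le_sup_right)))
      have h2 := congrArg (Subgroup.comap q) h1
      rw [← Subgroup.map_comap_eq_self_of_surjective (QuotientGroup.mk'_surjective _) Bb,
        ← Subgroup.map_sup, comap_map_eq, comap_top] at h2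
      refine top_le_iff.1 (h2 ▸ sup_le le_rfl ?_)
      exact (Subgroup.ker_le_comap q Bb).trans le_sup_left
    have hcoreB : Cfsg.pCore p ↥M ≤ B' := by
      intro z hz
      show q z ∈ Bb
      rw [show q z = 1 from (QuotientGroup.eq_one_iff _).2 hz]
      exact one_mem _
    set B := B'.map M.subtype
    have hBM : B ≤ M := map_subtype_le _
    have hPB : P ≤ B := hcore ▸ map_mono hcoreB
    have hMB : M ≤ B ⊔ (M ⊓ C) := by
      have := congrArg (Subgroup.map M.subtype) htop
      rw [Subgroup.map_sup, subgroupOf_map_subtype, ← MonoidHom.range_eq_map, range_subtype,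
        inf_eq_left.2 (inf_le_left : M ⊓ C ≤ M)] at this
      exact this.ge
    -- the index of `B` in `M` is prime to `p`
    have hBidx : ¬ p ∣ B'.index := by
      have h1 : K.index = K.relIndex B' := by rw [← relIndex_top_right, ← htop, relIndex_sup_right]
      have h2 : B'.index = (B' ⊓ K).relIndex K := by
        have e1 := K.card_mul_index
        have e2 := B'.card_mul_index
        have e3 := (B' ⊓ K).subgroupOf B' |>.card_mul_index
        have e4 := (B' ⊓ K).subgroupOf K |>.card_mul_index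
        rw [Nat.card_congr (subgroupOfEquivOfLe (inf_le_left : B' ⊓ K ≤ B')).toEquiv] at e3
        rw [Nat.card_congr (subgroupOfEquivOfLe (inf_le_right : B' ⊓ K ≤ K)).toEquiv] at e4
        change Nat.card ↥(B' ⊓ K) * (B' ⊓ K).relIndex B' = _ at e3
        change Nat.card ↥(B' ⊓ K) * (B' ⊓ K).relIndex K = _ at e4
        rw [inf_relIndex_left, ← h1] at e3
        refine Nat.eq_of_mul_eq_mul_left (show 0 < Nat.card ↥(B' ⊓ K) * K.index from
          Nat.mul_pos Nat.card_pos (Nat.pos_of_ne_zero K.index_ne_zero_of_finite)) ?_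
        calc Nat.card ↥(B' ⊓ K) * K.index * B'.index = Nat.card B' * B'.index := by rw [e3]
          _ = Nat.card K * K.index := by rw [e2, e1]
          _ = _ := by rw [← e4]; ring
      intro hd
      rw [h2] at hd
      apply hPi
      have h3 : (B' ⊓ K).relIndex K = (B ⊓ C).relIndex (M ⊓ C) := by
        rw [← relIndex_map_map_of_injective (f := M.subtype) (B' ⊓ K) K M.subtype_injective,
          map_inf _ _ _ M.subtype_injective, subgroupOf_map_subtype,
          inf_eq_left.2 (inf_le_left : M ⊓ C ≤ M)]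
        congr 1
        rw [← inf_assoc, inf_eq_left.2 hBM]
      rw [h3] at hd
      refine (hd.trans (relIndex_dvd_of_le_left _ (le_inf hPB inf_le_left))).trans ?_
      exact Dvd.intro _ (relIndex_mul_relIndex _ _ _ (le_inf hPM inf_le_left) inf_le_right)
    obtain ⟨T', hT'1, hT'2⟩ := Fusion.exists_sylow_inf_relIndex hPp hPB
    have hT'M : ¬ p ∣ ((T' : Subgroup G) ⊓ B).relIndex M := by
      rw [← relIndex_mul_relIndex _ _ _ inf_le_right hBM]
      refine fun h => (hp.1.dvd_mul.1 h).elim hT'2 fun h' => hBidx ?_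
      rwa [relIndex, show B.subgroupOf M = B' from
        comap_map_eq_self_of_injective M.subtype_injective B'] at h'
    obtain ⟨y, hy, hyeq⟩ := Fusion.exists_conj_of_relIndex T'.2.to_inf_left T.2
      (inf_le_right.trans hBM) hTM hT'M (sylow_relIndex T hTM)
    have hy' : y ∈ (M ⊓ C) ⊔ B := by rw [sup_comm]; exact hMB hy
    rw [← SetLike.mem_coe, coe_mul_of_right_le_normalizer_left _ _
      ((hBM.trans (le_normalizer_inf Subgroup.le_normalizer (hMX.trans hXC))))] at hy'
    obtain ⟨c, hc, b, hb, rfl⟩ := hy'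
    have hTB : (T : Subgroup G) ≤ cj c B := by
      rw [← hyeq, ← cj_cj]
      exact cj_mono c ((cj_mono b inf_le_right).trans (cj_eq_of_mem (Subgroup.le_normalizer hb)).le)
    have hcBM : cj c B ≤ M := (cj_mono c hBM).trans (cj_eq_of_mem (Subgroup.le_normalizer hc.1)).le
    have hgood : (T : Subgroup G) ≤ cj c B ∧ cj c B ≤ X ⊓ normalizer (P : Set G) ∧ X ≤ cj c B ⊔ C := by
      refine ⟨hTB, hcBM.trans hMle, hXMC.trans (sup_le (hMB.trans (sup_le ?_ ?_)) le_sup_right)⟩
      · intro z hz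
        have hz' : c * z * c⁻¹ ∈ cj c B := conj_mem_cj.2 hz
        have e : z = c⁻¹ * (c * z * c⁻¹) * c := by group
        rw [e]
        exact mul_mem (mul_mem (mem_sup_right (inv_mem hc.2)) (mem_sup_left hz')) (mem_sup_right hc.2)
      · exact inf_le_right.trans le_sup_right
    have hMle' : M ≤ cj c B := hMmin.2 hgood hcBM
    have hBeq : B = M := by
      refine le_antisymm hBM ?_
      have := cj_mono c⁻¹ hMle'
      rwa [Fusion.cj_inv_cj, cj_eq_of_mem (Subgroup.le_normalizer (inv_mem hc.1))] at this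
    have hB'top : B' = ⊤ := by
      apply Subgroup.map_injective M.subtype_injective
      rw [← MonoidHom.range_eq_map, range_subtype]; exact hBeq
    exact hBb.1 (by
      rw [← Subgroup.map_comap_eq_self_of_surjective (QuotientGroup.mk'_surjective _) Bb]
      show B'.map q = ⊤
      rw [hB'top, Subgroup.map_top_of_surjective q (QuotientGroup.mk'_surjective _)])
  have hMfrak : Cfsg.IsInFrakM p M := by
    refine ⟨hMch, ?_, ?_, ?_, ?_, ?_⟩
    · rw [hYMeq, hMC]; exact hXmax
    · intro Z hZ hMZ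
      rw [hYMeq, hMC]
      have hmono : Y ≤ Cfsg.largestPReducedOf p Z := hYMeq ▸
        largest_mono (charP_of_mem_charPSubgroups hZ.1) T.2 hTM hMZ (sylow_relIndex T (hTM.trans hMZ))
      have hgood : good Z := by
        refine ⟨hTM.trans hMZ, hZ.1, hY0X.trans hmono, hcov.trans (sup_le ?_ le_sup_right)⟩
        intro x hx
        obtain ⟨m, hm, c, hc, rfl⟩ := exists_mul_of_mem_sup' (hMX.trans hXC) (hXMC hx.1)
        have hc0 : c ∈ C0 := centralizer_le hY0X hc
        refine mul_mem (mem_sup_left ⟨hMZ hm, ?_⟩) (mem_sup_right hc0)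
        have := mul_mem hx.2 (L1.inv_mem ((le_sup_right : C0 ≤ L1) hc0))
        simpa [mul_assoc] using this
      have heq := (hmaxeq Z hgood hmono).1
      have hle : Z ≤ X := by
        have h := le_normalizer_largest (p := p) Z
        rw [heq] at h
        exact h.trans hNX.le
      exact (hZ.2 X hXL hle).symm
    · rw [hYMeq, hMC]
    · rw [hYMeq]; exact hclosed
    · rw [hYMeq]; exact hfrat
  -- the subgroup `Ls`
  set P0 := C0 ⊓ (T : Subgroup G) with hP0def
  have hP0i : ¬ p ∣ P0.relIndex C0 :=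
    not_dvd_inf_relIndex T.2 hTL1 (sylow_relIndex T hTL1) le_sup_right hL1c
  have hY0P0 : Y0 ≤ P0 := le_inf (Modules.elemAb_le_centralizer hY0.2.2.1) hY0T
  have hP0ne : P0 ≠ ⊥ := fun e => hY0ne (eq_bot_iff.2 (e ▸ hY0P0))
  have hP0p : IsPGroup p P0 := T.2.to_inf_right
  have hTP0 : (T : Subgroup G) ≤ normalizer (P0 : Set G) :=
    le_normalizer_inf (hTL1.trans hL1c) Subgroup.le_normalizer
  set Ls := (M ⊓ L1) ⊓ normalizer (P0 : Set G) with hLs
  have hTLs : (T : Subgroup G) ≤ Ls := le_inf (le_inf hTM hTL1) hTP0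
  have hLsL : L ≤ Ls ⊔ C0 := by
    refine hcov.trans (sup_le ?_ le_sup_right)
    intro x hx
    obtain ⟨m, hm, c, hc, rfl⟩ := exists_mul_of_mem_sup' (hMX.trans hXC) (hXMC hx.1)
    have hc0 : c ∈ C0 := centralizer_le hY0X hc
    have hmL : m ∈ M ⊓ L1 := by
      refine ⟨hm, ?_⟩
      have := mul_mem hx.2 (L1.inv_mem ((le_sup_right : C0 ≤ L1) hc0))
      simpa [mul_assoc] using this
    exact mul_mem (frattini_cover T.2 (le_inf hTM hTL1) (inf_le_right.trans hL1c) hP0i hmL)
      (mem_sup_right hc0)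
  have hsupeq : L ⊔ C0 = Ls ⊔ C0 :=
    le_antisymm (sup_le hLsL le_sup_right) (sup_le (inf_le_left.trans inf_le_right) le_sup_right)
  have hLsch := mem_charPSubgroups_of_normalized hpar T hTLs hP0p hP0ne
    (inf_le_right.trans hTLs) inf_le_right
  have hY0Ls : IsRed p Ls Y0 := isRed_transfer hY0 (hY0T.trans hTLs)
    ((inf_le_left.trans inf_le_right).trans hL1n) (inf_le_left.trans inf_le_right) hLsL
  set N1 := L1 ⊓ normalizer (P0 : Set G) with hN1
  have hTN1 : (T : Subgroup G) ≤ N1 := le_inf hTL1 hTP0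
  have hLsN1 : Ls ≤ N1 := inf_le_inf_right _ inf_le_right
  have hN1ch := mem_charPSubgroups_of_normalized hpar T hTN1 hP0p hP0ne
    (inf_le_right.trans hTN1) inf_le_right
  set W := Cfsg.largestPReducedOf p N1
  have hW : IsRed p N1 W := isRed_largest N1
  have hC1W : N1 ⊓ C0 ≤ centralizer (W : Set G) := by
    have hN1C : N1 ⊓ C0 ≤ normalizer (W : Set G) := inf_le_left.trans hW.2.1
    refine le_centralizer_of_fixed_le hW.2.2.1.1 (Modules.elemAb_isPGroup hW.2.2.1) hN1C
      ?_ T.2 (hTN1.trans hW.2.1) ?_ ?_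
    · intro c hc ⟨k, hk⟩
      refine pCoreOf_le_centralizer_red hW (le_pCoreOf (inf_le_right.trans hTN1) inf_le_right hP0p ?_)
      have hxp : IsPGroup p (zpowers c) := by
        obtain ⟨j, -, hj⟩ := (Nat.dvd_prime_pow hp.1).1 (orderOf_dvd_of_pow_eq_one hk)
        exact IsPGroup.of_card (n := j) (by rw [Nat.card_zpowers, hj])
      exact le_of_sylow_inside (isPGroup_sup hxp hP0p ((zpowers_le.2 hc.1).trans inf_le_right))
        le_sup_right (sup_le (zpowers_le.2 hc.2) inf_le_left) hP0i (mem_sup_left (mem_zpowers c))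
    · exact le_normalizer_inf (hTN1.trans Subgroup.le_normalizer) (hTL1.trans hL1c)
    · intro w hw hwp hwT
      have h1 : w ∈ Y0 := omegaCenter_le_largest (charP_of_mem_charPSubgroups hL) T.2 hTL
        (sylow_relIndex T hTL) (subset_closure ⟨⟨((red_le_pCoreOf hW).trans
          (pCoreOf_le_of_sylow T hTN1)) hw, hwT⟩, hwp ▸ pow_orderOf_eq_one w⟩)
      exact fun c hc => (hc.2 w h1).symm
  set L2 := L ⊓ normalizer (P0 : Set G)
  have hTL2 : (T : Subgroup G) ≤ L2 := le_inf hTL hTP0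
  have hWY0 : W ≤ Y0 := by
    have hW2 : IsRed p L2 W := by
      refine isRed_transfer hW (((red_le_pCoreOf hW).trans (pCoreOf_le_of_sylow T hTN1)).trans hTL2)
        ((inf_le_inf_right _ le_sup_left).trans hW.2.1)
        ((inf_le_inf_right _ le_sup_left).trans le_sup_left) ?_
      intro n hn
      have h1 : n ∈ L2 ⊔ C0 :=
        (sup_le (frattini_cover T.2 hTL (le_sup_left.trans hL1c) hP0i) le_sup_right) hn.1
      obtain ⟨l, hl, c, hc, rfl⟩ := exists_mul_of_mem_sup'
        ((inf_le_left.trans le_sup_left).trans hL1c) h1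
      refine mul_mem (mem_sup_left hl) (mem_sup_right (hC1W ⟨?_, hc⟩))
      have hlN : l ∈ N1 := ⟨(le_sup_left : L ≤ L1) hl.1, hl.2⟩
      simpa using mul_mem (inv_mem hlN) hn
    exact (le_largestPReducedOf hW2).trans
      (largest_mono (charP_of_mem_charPSubgroups hL) T.2 hTL2 inf_le_left (sylow_relIndex T hTL))
  have hYeq : Y0 = Cfsg.largestPReducedOf p Ls := le_antisymm (le_largestPReducedOf hY0Ls)
    ((largest_mono (charP_of_mem_charPSubgroups hN1ch) T.2 hTLs hLsN1 (sylow_relIndex T hTN1)).trans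
      hWY0)
  exact ⟨M, Ls, hTM, hMfrak, hTLs, inf_le_left.trans inf_le_left, hLsch, hYeq,
    hYMeq ▸ hY0X, hsupeq⟩

end Cfsg.Agent.LAE60
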