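import Cfsg.Agent.LAE60.Residue
import Cfsg.Agent.LAE60.Reduced
import Cfsg.Agent.Suzuki.LieModel

/-!
The members `L` of `𝔏_G(Y)`: the image of `Y` in `L / O_p(L)`, and `O_p(L)` modulo `C_Y(L)`.
-/

set_option autoImplicit false
set_option linter.unusedVariables false
set_option linter.unusedSectionVars false
set_option linter.style.haveILetI false

open Subgroup
open scoped commutatorElement MatrixGroups

namespace Cfsg.Agent.LAE60

open Cfsg.Agent.Fusion (cj mem_cj cj_cj cj_mono cj_one cj_eq_of_mem cj_le_iff)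
open Residue

variable {G : Type*} [Group G] [Finite G] {p : ℕ} [Fact p.Prime] {M L : Subgroup G}

local notation "Y" => Cfsg.largestPReducedOf p M
local notation "A" => Cfsg.pCoreOf p L
local notation "B" => Cfsg.largestPReducedOf p M ⊓ Cfsg.pCoreOf p L
local notation "C" => Cfsg.largestPReducedOf p M ⊓ centralizer ((L : Subgroup G) : Set G)

theorem largest_elemAb (M : Subgroup G) :
    Cfsg.IsElementaryAbelian p (Cfsg.largestPReducedOf p M) :=
  (isRed_largest M).2.2.1

theorem largest_comm {x y : G} (hx : x ∈ Y) (hy : y ∈ Y) : x * y = y * x :=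
  Modules.comm_iff.1 (largest_elemAb (p := p) M).1 x hx y hy

theorem pCoreOf_subgroupOf (L : Subgroup G) : (Cfsg.pCoreOf p L).subgroupOf L = Cfsg.pCore p L :=
  comap_map_eq_self_of_injective L.subtype_injective _

theorem mem_pCoreOf_coe {l : L} : (l : G) ∈ A ↔ l ∈ Cfsg.pCore p L := by
  rw [← pCoreOf_subgroupOf, mem_subgroupOf]

theorem frakL_not_le (hL : Cfsg.IsInFrakL p M L) : ¬ Y ≤ A := by
  obtain ⟨hYL, -, hAn, hmin, -, ⟨hlt, -⟩, -⟩ := hL
  intro hle
  have h1 : normalClosure ((Cfsg.largestPReducedOf p M).subgroupOf L : Set L) ≤ Cfsg.pCore p L :=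
    normalClosure_le_normal fun x hx => mem_pCoreOf_coe.1 (hle hx)
  rw [hmin.1] at h1
  have h2 : L ≤ A := fun x hx => (mem_pCoreOf_coe (l := ⟨x, hx⟩)).2 (h1 (mem_top _))
  exact hlt.not_ge (le_inf le_rfl (h2.trans hAn))

theorem frakL_exists_not_mem (hL : Cfsg.IsInFrakL p M L) :
    ∃ h ∈ L, h ∉ normalizer (Y : Set G) := by
  obtain ⟨-, -, -, -, -, ⟨hlt, -⟩, -⟩ := hL
  obtain ⟨h, hh, hn⟩ := SetLike.exists_of_lt hlt
  exact ⟨h, hh, fun h' => hn ⟨hh, h'⟩⟩

section Map

variable {H : Type*} [Group H] {π : L →* H}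

/-- The image of `Y` under a map defined on `L`. -/
abbrev yImage (p : ℕ) (M : Subgroup G) (π : L →* H) : Subgroup H :=
  ((Cfsg.largestPReducedOf p M).subgroupOf L).map π

theorem map_mem_normalizer {l : L} (hl : (l : G) ∈ normalizer (Y : Set G)) (π : L →* H) :
    π l ∈ normalizer (yImage p M π : Set H) := by
  refine le_normalizer_map π ⟨l, ?_, rfl⟩
  rw [SetLike.mem_coe, mem_normalizer_iff]
  intro y
  simp only [SetLike.mem_coe, mem_subgroupOf, Subgroup.coe_mul, Subgroup.coe_inv]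
  exact mem_normalizer_iff.1 hl y

theorem frakL_target (hL : Cfsg.IsInFrakL p M L) (hπ : Function.Surjective π)
    (hker : π.ker = Cfsg.pCore p L) :
    Target p ((B).relIndex Y) (yImage p M π) := by
  have hL' := hL
  obtain ⟨hYL, -, hAn, hmin, -, ⟨hlt, hmax⟩, -⟩ := hL
  refine ⟨?_, ?_, ?_, ?_, fun X hX hXT => ?_, fun N hN hNp => ?_⟩
  · rintro _ ⟨y, hy, rfl⟩
    rw [← map_pow, show y ^ p = 1 from Subtype.ext ((largest_elemAb (p := p) M).2 y hy), map_one]
  · rintro _ ⟨x, hx, rfl⟩ _ ⟨y, hy, rfl⟩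
    rw [← map_mul, ← map_mul, show x * y = y * x from Subtype.ext (largest_comm hx hy)]
  · rw [yImage, ← Subgroup.relIndex_ker, hker, ← pCoreOf_subgroupOf, relIndex_subgroupOf hYL,
      inf_comm, inf_relIndex_right]
  · intro he
    refine frakL_not_le hL' fun y hy => ?_
    have h1 : π ⟨y, hYL hy⟩ ∈ yImage p M π := ⟨⟨y, hYL hy⟩, hy, rfl⟩
    rw [he, mem_bot, ← MonoidHom.mem_ker, hker] at h1
    exact mem_pCoreOf_coe.2 h1
  · set X' := (X.comap π).map L.subtype with hX'
    have hYX : Y ≤ X' := fun y hy => ⟨⟨y, hYL hy⟩, hX ⟨⟨y, hYL hy⟩, hy, rfl⟩, rfl⟩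
    have hX'lt : X' < L := by
      refine lt_of_le_of_ne (map_subtype_le _) fun e => hXT ?_
      rw [eq_top_iff]
      intro x _
      obtain ⟨l, rfl⟩ := hπ x
      obtain ⟨l', hl', el⟩ := (e.ge l.2 : (l : G) ∈ X')
      rwa [Subtype.ext el] at hl'
    intro x hx
    obtain ⟨l, rfl⟩ := hπ x
    exact map_mem_normalizer (hmax X' hYX hX'lt ⟨l, hx, rfl⟩).2 π
  · have h1 : IsPGroup p (N.comap π) := by
      refine hNp.comap_of_ker_isPGroup π ?_
      rw [hker]
      exact Cores.pCore_isPGroup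
    have h2 : N.comap π ≤ π.ker := hker ▸ Cores.le_pCore (hN.comap π) h1
    rw [eq_bot_iff]
    intro x hx
    obtain ⟨l, rfl⟩ := hπ x
    exact mem_bot.2 (MonoidHom.mem_ker.1 (h2 hx))

theorem frakL_mem_normalizer_iff (hL : Cfsg.IsInFrakL p M L) (hπ : Function.Surjective π)
    (hker : π.ker = Cfsg.pCore p L) {l : L} :
    π l ∈ normalizer (yImage p M π : Set H) ↔ (l : G) ∈ normalizer (Y : Set G) := by
  refine ⟨fun hl => ?_, fun hl => map_mem_normalizer hl π⟩
  have ht := frakL_target hL hπ hker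
  obtain ⟨hYL, -, hAn, hmin, -, ⟨hlt, hmax⟩, -⟩ := hL
  set X' := ((normalizer (yImage p M π : Set H)).comap π).map L.subtype with hX'
  have hne : normalizer (yImage p M π : Set H) ≠ ⊤ := by
    intro e
    haveI : (yImage p M π).Normal := normalizer_eq_top_iff.1 e
    have h1 : (⊤ : Subgroup L) ≤ (yImage p M π).comap π := by
      rw [← hmin.1]
      exact normalClosure_le_normal fun y hy => ⟨y, hy, rfl⟩
    have h2 : yImage p M π = ⊤ := by
      rw [eq_top_iff]
      intro x _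
      obtain ⟨l, rfl⟩ := hπ x
      exact h1 (mem_top l)
    refine ht.ne_bot (ht.core _ ‹_› ?_)
    exact ht.isPGroup
  have hYX : Y ≤ X' := fun y hy =>
    ⟨⟨y, hYL hy⟩, map_mem_normalizer (Subgroup.le_normalizer hy) π, rfl⟩
  have hX'lt : X' < L := by
    refine lt_of_le_of_ne (map_subtype_le _) fun e => hne ?_
    rw [eq_top_iff]
    intro x _
    obtain ⟨l, rfl⟩ := hπ x
    obtain ⟨l', hl', el⟩ := (e.ge l.2 : (l : G) ∈ X')
    rwa [Subtype.ext el] at hl'
  exact (hmax X' hYX hX'lt ⟨l, hl, rfl⟩).2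

variable [Finite H]

/-- An element of `Y` normalizing another conjugate of `Y` in `L` lies in `O_p(L)`. -/
theorem frakL_inf_normalizer (hL : Cfsg.IsInFrakL p M L) (hπ : Function.Surjective π)
    (hker : π.ker = Cfsg.pCore p L) {P : Sylow p H} (hP : RankOne p ((B).relIndex Y) P) :
    ∀ h ∈ L, h ∉ normalizer (Y : Set G) → ∀ y ∈ Y, h⁻¹ * y * h ∈ normalizer (Y : Set G) →
      y ∈ A := by
  intro h hh hn y hy hyn
  have hy' : y ∈ L := hL.1 hy
  have h1 : π ⟨y, hy'⟩ = 1 := by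
    refine eq_one_of_mem hP (frakL_target hL hπ hker) (g := π ⟨h, hh⟩) ?_ ⟨⟨y, hy'⟩, hy, rfl⟩ ?_
    · exact fun e => hn ((frakL_mem_normalizer_iff hL hπ hker).1 e)
    · rw [← map_inv, ← map_mul, ← map_mul]
      exact map_mem_normalizer hyn π
  rw [← MonoidHom.mem_ker, hker] at h1
  exact mem_pCoreOf_coe.2 h1

end Map

/-- The hypothesis that only elements of `O_p(L)` in `Y` normalize other conjugates of `Y`. -/
def TIProp {G : Type*} [Group G] (p : ℕ) (M L : Subgroup G) : Prop :=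
  ∀ h ∈ L, h ∉ normalizer (Cfsg.largestPReducedOf p M : Set G) →
    ∀ y ∈ Cfsg.largestPReducedOf p M,
      h⁻¹ * y * h ∈ normalizer (Cfsg.largestPReducedOf p M : Set G) → y ∈ Cfsg.pCoreOf p L

/-- Two conjugates of `Y` generate `L`. -/
theorem frakL_le_of_gen (hL : Cfsg.IsInFrakL p M L) (hK : TIProp p M L) {h y : G} (hh : h ∈ L)
    (hn : h ∉ normalizer (Y : Set G)) (hy : y ∈ Y) (hyA : y ∉ A) {K : Subgroup G} (h1 : y ∈ K)
    (h2 : cj h Y ≤ K) : L ≤ K := by
  obtain ⟨hYL, -, -, -, -, ⟨hlt, hmax⟩, -⟩ := hL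
  set X := zpowers y ⊔ cj h Y with hX
  have hXL : X ≤ L := sup_le (zpowers_le.2 (hYL hy)) ((cj_mono h hYL).trans
    (cj_eq_of_mem (Subgroup.le_normalizer hh)).le)
  have hXK : X ≤ K := sup_le (zpowers_le.2 h1) h2
  suffices X = L from this ▸ hXK
  by_contra hne
  have hlt' : cj h⁻¹ X < L := by
    refine lt_of_le_of_ne ((cj_mono h⁻¹ hXL).trans
      (cj_eq_of_mem (Subgroup.le_normalizer (inv_mem hh))).le) fun e => hne ?_
    have := congrArg (cj h) e
    rwa [cj_cj, mul_inv_cancel, cj_one, cj_eq_of_mem (Subgroup.le_normalizer hh)] at this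
  have hYX : Y ≤ cj h⁻¹ X := by
    have := cj_mono h⁻¹ (le_sup_right : cj h Y ≤ X)
    rwa [cj_cj, inv_mul_cancel, cj_one] at this
  refine hyA (hK h hh hn y hy ?_)
  refine (hmax _ hYX hlt' ?_).2
  rw [mem_cj]
  simpa [mul_assoc] using (mem_sup_left (mem_zpowers y) : y ∈ X)

theorem frakL_C_le_B (hL : Cfsg.IsInFrakL p M L) : C ≤ B := by
  refine le_inf inf_le_left (le_pCoreOf (inf_le_left.trans hL.1) ?_ ?_)
  · refine mem_normalizer_of_forall fun s hs x hx => ?_
    have : s * x * s⁻¹ = x := by rw [mem_centralizer_iff.1 hx.2 s hs]; group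
    rw [this]; exact hx
  · exact (Modules.elemAb_isPGroup (largest_elemAb (p := p) M)).to_inf_left

theorem frakL_C_comm {c l : G} (hc : c ∈ C) (hl : l ∈ L) : l * c = c * l :=
  mem_centralizer_iff.1 hc.2 l hl

theorem frakL_C_normal : L ≤ normalizer ((C : Subgroup G) : Set G) :=
  mem_normalizer_of_forall fun s hs x hx => by
    have : s * x * s⁻¹ = x := by rw [frakL_C_comm hx hs]; group
    rw [this]; exact hx

theorem frakL_commutator_mem (hL : Cfsg.IsInFrakL p M L) {y a : G} (hy : y ∈ Y) (ha : a ∈ A) :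
    ⁅y, a⁆ ∈ B :=
  ⟨commutator_le_left_of_le_normalizer hL.2.2.1 (commutator_mem_commutator hy ha),
    commutator_le_right_of_le_normalizer (hL.1.trans (le_normalizer_pCoreOf L))
      (commutator_mem_commutator hy ha)⟩

theorem frakL_cj_A {h : G} (hh : h ∈ L) : cj h A = A :=
  cj_eq_of_mem (le_normalizer_pCoreOf L hh)

theorem frakL_A_le (hL : Cfsg.IsInFrakL p M L) (hK : TIProp p M L) {h : G} (hh : h ∈ L)
    (hn : h ∉ normalizer (Y : Set G)) : A ≤ B ⊔ cj h B := by
  obtain ⟨y, hy, hyA⟩ := SetLike.not_le_iff_exists.1 (frakL_not_le hL)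
  set D := B ⊔ cj h B with hD
  have hBA : ∀ b ∈ B, b ∈ A := fun b hb => hb.2
  have hBhA : ∀ b ∈ cj h B, b ∈ A := fun b hb =>
    (frakL_cj_A (p := p) hh).le (cj_mono h inf_le_right hb)
  have key : ∀ x ∈ Y, ∀ b ∈ D, ⁅x, b⁆ ∈ B := fun x hx b hb =>
    frakL_commutator_mem hL hx ((sup_le hBA hBhA : D ≤ A) hb)
  have hnorm : L ≤ normalizer (D : Set G) := by
    refine frakL_le_of_gen hL hK hh hn hy hyA ?_ ?_
    · refine mem_normalizer_of_forall (S := zpowers y) (fun s hs b hb => ?_) (mem_zpowers y)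
      have hsY : s ∈ Y := zpowers_le.2 hy hs
      have : s * b * s⁻¹ = ⁅s, b⁆ * b := by simp [commutatorElement_def]
      rw [this]
      exact mul_mem (mem_sup_left (key s hsY b hb)) hb
    · refine mem_normalizer_of_forall fun s hs b hb => ?_
      rw [mem_cj] at hs
      have hbA : b ∈ A := (sup_le hBA hBhA : D ≤ A) hb
      have hbA' : h⁻¹ * b * h ∈ A := by
        have := conj_mem_of_mem_normalizer (le_normalizer_pCoreOf L (inv_mem hh)) hbA
        simpa using this
      have h1 := frakL_commutator_mem hL hs hbA'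
      have h2 : ⁅s, b⁆ ∈ cj h B := by
        rw [mem_cj]
        convert h1 using 1
        simp [commutatorElement_def, mul_assoc]
      have : s * b * s⁻¹ = ⁅s, b⁆ * b := by simp [commutatorElement_def]
      rw [this]
      exact mul_mem (mem_sup_right h2) hb
  have hDL : D ≤ L := (sup_le hBA hBhA : D ≤ A).trans (pCoreOf_le L)
  haveI : (D.subgroupOf L).Normal := (normal_subgroupOf_iff_le_normalizer hDL).2 hnorm
  intro a ha
  rw [hL.2.1] at ha
  obtain ⟨a', ha', rfl⟩ := ha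
  exact (normalClosure_le_normal (N := D.subgroupOf L) fun b hb => mem_subgroupOf.2 (mem_sup_left hb)) ha'

theorem frakL_B_inf (hL : Cfsg.IsInFrakL p M L) (hK : TIProp p M L) {h : G} (hh : h ∈ L)
    (hn : h ∉ normalizer (Y : Set G)) : B ⊓ cj h B ≤ C := by
  obtain ⟨y, hy, hyA⟩ := SetLike.not_le_iff_exists.1 (frakL_not_le hL)
  rintro c ⟨hc1, hc2⟩
  refine ⟨hc1.1, mem_centralizer_iff.2 fun l hl => ?_⟩
  have := frakL_le_of_gen hL hK hh hn hy hyA (K := centralizer ({c} : Set G))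
    (mem_centralizer_singleton_iff.2 (largest_comm hy hc1.1)) ?_ hl
  · exact mem_centralizer_singleton_iff.1 this
  · intro x hx
    rw [mem_cj] at hx
    rw [mem_centralizer_singleton_iff]
    have := largest_comm hx (mem_cj.1 hc2).1
    calc x * c = h * ((h⁻¹ * x * h) * (h⁻¹ * c * h)) * h⁻¹ := by group
      _ = h * ((h⁻¹ * c * h) * (h⁻¹ * x * h)) * h⁻¹ := by rw [this]
      _ = c * x := by group

theorem frakL_A_normalizes (hL : Cfsg.IsInFrakL p M L) :
    A ≤ normalizer ((B : Subgroup G) : Set G) :=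
  le_normalizer_inf hL.2.2.1 Subgroup.le_normalizer

theorem frakL_commutator_A (hL : Cfsg.IsInFrakL p M L) (hK : TIProp p M L) {a a' : G} (ha : a ∈ A)
    (ha' : a' ∈ A) : ⁅a, a'⁆ ∈ C := by
  obtain ⟨h, hh, hn⟩ := frakL_exists_not_mem hL
  set B' := cj h B with hB'
  have hB'n : A ≤ normalizer ((B' : Subgroup G) : Set G) := by
    have := (cj_mono h (frakL_A_normalizes hL)).trans (Fusion.cj_normalizer h _).le
    rwa [frakL_cj_A hh] at this
  have hB'A : B' ≤ A := (cj_mono h inf_le_right).trans (frakL_cj_A (p := p) hh).le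
  have hAC : A ≤ normalizer ((C : Subgroup G) : Set G) := (pCoreOf_le L).trans frakL_C_normal
  have hbb : ∀ b ∈ B, ∀ b' ∈ B', ⁅b, b'⁆ ∈ C := fun b hb b' hb' => frakL_B_inf hL hK hh hn
    ⟨commutator_le_left_of_le_normalizer (hB'A.trans (frakL_A_normalizes hL))
      (commutator_mem_commutator hb hb'),
     commutator_le_right_of_le_normalizer (inf_le_right.trans hB'n)
      (commutator_mem_commutator hb hb')⟩
  have hBB : ∀ b ∈ B, ∀ b' ∈ B, ⁅b, b'⁆ ∈ C := fun b hb b' hb' => by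
    rw [commutatorElement_eq_one_iff_mul_comm.2 (largest_comm hb.1 hb'.1)]; exact one_mem _
  have hB'B' : ∀ b ∈ B', ∀ b' ∈ B', ⁅b, b'⁆ ∈ C := fun b hb b' hb' => by
    rw [mem_cj] at hb hb'
    have := largest_comm hb.1 hb'.1
    rw [commutatorElement_eq_one_iff_mul_comm.2 (show b * b' = b' * b by
      calc b * b' = h * ((h⁻¹ * b * h) * (h⁻¹ * b' * h)) * h⁻¹ := by group
        _ = h * ((h⁻¹ * b' * h) * (h⁻¹ * b * h)) * h⁻¹ := by rw [this]
        _ = b' * b := by group)]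
    exact one_mem _
  have hS : ((B : Set G) ∪ (B' : Set G)) ⊆ (A : Set G) := Set.union_subset inf_le_right hB'A
  have hclo : ∀ a ∈ A, a ∈ closure ((B : Set G) ∪ (B' : Set G)) := fun a ha => by
    have := frakL_A_le hL hK hh hn ha
    exact (sup_le (fun x hx => subset_closure (Or.inl hx))
      (fun x hx => subset_closure (Or.inr hx)) : B ⊔ B' ≤ Subgroup.closure ((B : Set G) ∪ (B' : Set G))) this
  have step : ∀ x ∈ (B : Set G) ∪ (B' : Set G), ∀ c ∈ A, ⁅x, c⁆ ∈ C := by
    intro x hx c hc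
    have h1 : ⁅closure ((B : Set G) ∪ (B' : Set G)), zpowers x⁆ ≤ C := by
      refine commutator_closure_le (hS.trans hAC) fun u hu v hv => ?_
      rcases hx with hx | hx <;> rcases hu with hu | hu
      · exact hBB u hu v (zpowers_le.2 hx hv)
      · rw [← commutatorElement_inv]; exact inv_mem (hbb v (zpowers_le.2 hx hv) u hu)
      · exact hbb u hu v (zpowers_le.2 hx hv)
      · exact hB'B' u hu v (zpowers_le.2 hx hv)
    rw [← commutatorElement_inv]
    exact inv_mem (h1 (commutator_mem_commutator (hclo c hc) (mem_zpowers x)))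
  exact (commutator_closure_le (hS.trans hAC) step)
    (commutator_mem_commutator (hclo a ha) ha')

/-- Every element of `O_p(L)` centralized mod `C` by some `y ∈ Y ∖ O_p(L)` lies in `Y`. -/
theorem frakL_fixed_mem (hL : Cfsg.IsInFrakL p M L) (hK : TIProp p M L) {y a : G} (hy : y ∈ Y)
    (hyA : y ∉ A) (ha : a ∈ A) (hc : ⁅y, a⁆ ∈ C) : a ∈ B := by
  obtain ⟨h, hh, hn⟩ := frakL_exists_not_mem hL
  have hB'A : cj h B ≤ A := (cj_mono h inf_le_right).trans (frakL_cj_A (p := p) hh).le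
  have hmem := frakL_A_le hL hK hh hn ha
  rw [← SetLike.mem_coe, coe_mul_of_right_le_normalizer_left _ _
    (hB'A.trans (frakL_A_normalizes hL))] at hmem
  obtain ⟨b, hb, b', hb', rfl⟩ := hmem
  have hc' : ⁅y, b'⁆ ∈ C := by
    have e : ⁅y, b * b'⁆ = b * ⁅y, b'⁆ * b⁻¹ := by
      have h1 : y * b = b * y := largest_comm hy hb.1
      calc ⁅y, b * b'⁆ = (y * b) * b' * y⁻¹ * b'⁻¹ * b⁻¹ := by
            simp [commutatorElement_def, mul_assoc]
        _ = b * ⁅y, b'⁆ * b⁻¹ := by rw [h1]; simp [commutatorElement_def, mul_assoc]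
    rw [e] at hc
    have := conj_mem_of_mem_normalizer (frakL_C_normal (inv_mem (pCoreOf_le L hb.2))) hc
    simpa [mul_assoc] using this
  let K : Subgroup G :=
    { carrier := {x | x ∈ L ∧ ⁅x, b'⁆ ∈ C}
      one_mem' := ⟨one_mem _, by simp⟩
      mul_mem' := fun {x z} hx hz => by
        refine ⟨mul_mem hx.1 hz.1, ?_⟩
        have : ⁅x * z, b'⁆ = x * ⁅z, b'⁆ * x⁻¹ * ⁅x, b'⁆ := by simp [commutatorElement_def, mul_assoc]
        rw [this]
        exact mul_mem (conj_mem_of_mem_normalizer (frakL_C_normal hx.1) hz.2) hx.2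
      inv_mem' := fun {x} hx => by
        refine ⟨inv_mem hx.1, ?_⟩
        have : ⁅x⁻¹, b'⁆ = x⁻¹ * ⁅x, b'⁆⁻¹ * x⁻¹⁻¹ := by simp [commutatorElement_def, mul_assoc]
        rw [this]
        exact conj_mem_of_mem_normalizer (frakL_C_normal (inv_mem hx.1)) (inv_mem hx.2) }
  have hLK : L ≤ K := by
    refine frakL_le_of_gen hL hK hh hn hy hyA ⟨hL.1 hy, hc'⟩ fun x hx => ⟨?_, ?_⟩
    · exact ((cj_mono h hL.1).trans (cj_eq_of_mem (Subgroup.le_normalizer hh)).le) hx
    · rw [mem_cj] at hx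
      have hb'' := mem_cj.1 hb'
      rw [commutatorElement_eq_one_iff_mul_comm.2 (show x * b' = b' * x by
        have := largest_comm hx hb''.1
        calc x * b' = h * ((h⁻¹ * x * h) * (h⁻¹ * b' * h)) * h⁻¹ := by group
          _ = h * ((h⁻¹ * b' * h) * (h⁻¹ * x * h)) * h⁻¹ := by rw [this]
          _ = b' * x := by group)]
      exact one_mem _
  have h1 : ⁅h⁻¹, b'⁆ ∈ B := frakL_C_le_B hL (hLK (inv_mem hh)).2
  replace hb' := mem_cj.1 hb'
  have h2 : b' = ⁅h⁻¹, b'⁆⁻¹ * (h⁻¹ * b' * h) := by simp [commutatorElement_def, mul_assoc]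
  exact mul_mem hb (h2 ▸ mul_mem (inv_mem h1) hb')

/-- The three kinds of `L / O_p(L)`. -/
theorem frakL_elim {P : Prop} (hL : Cfsg.IsInFrakL p M L)
    (hsl : ∀ (F : Type) [Field F] [Fintype F] [CharP F p] (π : L →* SL(2, F)),
      Function.Surjective π → π.ker = Cfsg.pCore p L →
      Fintype.card F = (B).relIndex Y → P)
    (hsz : ∀ (H : Type) [Group H] [Finite H] (π : L →* H), Function.Surjective π →
      π.ker = Cfsg.pCore p L → (∃ T : Sylow p H, RankOne p ((B).relIndex Y) T) →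
      HasInverters p H → P)
    (htwo : ∀ (π : L →* L ⧸ Cfsg.pCore p L), Function.Surjective π →
      π.ker = Cfsg.pCore p L →
      (∃ T : Sylow p (L ⧸ Cfsg.pCore p L), RankOne p ((B).relIndex Y) T) →
      HasInverters p (L ⧸ Cfsg.pCore p L) → P) : P := by
  set mk := QuotientGroup.mk' (Cfsg.pCore p L) with hmk
  have ht := frakL_target hL (π := mk) (QuotientGroup.mk'_surjective _) (QuotientGroup.ker_mk' _)
  have hq2 : p = 2 → (B).relIndex Y = 2 → P := by
    intro h2 hq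
    subst h2
    rw [hq] at ht
    obtain ⟨h1, h3⟩ := card_two ht
    refine htwo mk (QuotientGroup.mk'_surjective _) (QuotientGroup.ker_mk' _) ?_ h3
    rw [hq]; exact h1
  obtain ⟨k, hk⟩ := IsPGroup.iff_card.1 ht.isPGroup
  have hk' : (B).relIndex Y = p ^ k := ht.card ▸ hk
  have hcomp : ∀ {H : Type} [Group H] (e : (L ⧸ Cfsg.pCore p L) ≃* H),
      Function.Surjective (e.toMonoidHom.comp mk) ∧ (e.toMonoidHom.comp mk).ker = Cfsg.pCore p L :=
    fun e => ⟨e.surjective.comp (QuotientGroup.mk'_surjective _), by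
      rw [← MonoidHom.comap_ker, MonoidHom.ker_eq_bot_iff _ |>.2 e.injective, MonoidHom.comap_bot,
        QuotientGroup.ker_mk']⟩
  obtain ⟨-, -, -, -, -, -, hcase⟩ := hL
  rcases hcase with ⟨F, iF, iT, hcard, ⟨e⟩⟩ | ⟨rfl, F, iF, iT, m, hm, hcard, ⟨e⟩⟩ |
    ⟨rfl, r, hr, hr2, ⟨e⟩⟩
  · haveI : CharP F p := charP_of_card_eq_prime_pow (hcard.trans hk')
    exact hsl F _ (hcomp e).1 (hcomp e).2 hcard
  · rcases Nat.eq_zero_or_pos m with rfl | hm0
    · exact hq2 rfl (by rw [← hcard, hm]; rfl)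
    · haveI : Suzuki.SuzukiField F m := ⟨hm0, hm⟩
      let e' := e.trans (Suzuki.szEquivLie F m).symm
      haveI : Finite (Cfsg.Sz F m) := Finite.of_equiv _ e'.toEquiv
      refine hsz (Cfsg.Sz F m) _ (hcomp e').1 (hcomp e').2 ?_ hasInverters_sz
      rw [← hcard]; exact exists_rankOne_sz
  · refine hq2 rfl ?_
    have h1 : 2 ^ k ∣ 2 * r := by
      rw [← hk', ← ht.card, ← DihedralGroup.nat_card (n := r), ← Nat.card_congr e.toEquiv]
      exact Subgroup.card_subgroup_dvd_card _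
    have hk0 : k ≠ 0 := by
      rintro rfl
      exact ht.ne_bot (eq_bot_of_card_eq _ (by rw [ht.card, hk', pow_zero]))
    have hk1 : k = 1 := by
      by_contra hne
      have h4 : 2 * 2 ∣ 2 * r := (show 2 * 2 ∣ 2 ^ k by
        rw [← pow_two]; exact pow_dvd_pow 2 (by omega)).trans h1
      exact hr2 ((Nat.prime_dvd_prime_iff_eq Nat.prime_two hr).1
        (Nat.dvd_of_mul_dvd_mul_left (by norm_num) h4)).symm
    rw [hk', hk1, pow_one]

end Cfsg.Agent.LAE60
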