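import Cfsg.Agent.Invol.BaerSuzuki
import Cfsg.Agent.Suzuki.Tori
import Cfsg.Agent.Linear.Orders
import Cfsg.Agent.Cores.Basic

/-!
The residual groups of the members of `𝔏_G(Y)`: `SL₂(q)`, `Sz(q)` and dihedral groups of order
`2r`, each with the subgroup which is the image of `Y`.
-/

set_option autoImplicit false
set_option linter.unusedVariables false
set_option linter.unusedSectionVars false
set_option linter.style.haveILetI false

open Subgroup
open scoped MatrixGroups

namespace Cfsg.Agent.LAE60.Residue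

variable {H : Type*} [Group H] {p q : ℕ}

/-- A Sylow subgroup which is TI, has at most `q` elements of order dividing `p`, these being
permuted irreducibly by its normalizer. -/
structure RankOne (p q : ℕ) (P : Sylow p H) : Prop where
  ti : ∀ g x : H, x ∈ (P : Subgroup H) → x ≠ 1 → g * x * g⁻¹ ∈ (P : Subgroup H) →
    g ∈ normalizer ((P : Subgroup H) : Set H)
  omega_le : Nat.card {x : H // x ∈ (P : Subgroup H) ∧ x ^ p = 1} ≤ q
  irr : ∀ V : Subgroup H, V ≠ ⊥ → (∀ v ∈ V, v ∈ (P : Subgroup H) ∧ v ^ p = 1) →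
    normalizer ((P : Subgroup H) : Set H) ≤ normalizer (V : Set H) →
    ∀ x ∈ (P : Subgroup H), x ^ p = 1 → x ∈ V

/-- The properties of the image `Y` of `Y_M` in `L / O_p(L)`. -/
structure Target (p q : ℕ) (Y : Subgroup H) : Prop where
  pow : ∀ y ∈ Y, y ^ p = 1
  comm : ∀ x ∈ Y, ∀ y ∈ Y, x * y = y * x
  card : Nat.card Y = q
  ne_bot : Y ≠ ⊥
  max : ∀ X : Subgroup H, Y ≤ X → X ≠ ⊤ → X ≤ normalizer (Y : Set H)
  core : ∀ N : Subgroup H, N.Normal → IsPGroup p N → N = ⊥

theorem Target.isPGroup {Y : Subgroup H} (h : Target p q Y) : IsPGroup p Y :=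
  fun y => ⟨1, Subtype.ext (by simpa using h.pow y y.2)⟩

theorem mem_smul_sylow {p : ℕ} {g x : H} {P : Sylow p H} :
    x ∈ ((g • P : Sylow p H) : Subgroup H) ↔ g⁻¹ * x * g ∈ (P : Subgroup H) := by
  rw [Sylow.coe_subgroup_smul, Subgroup.mem_pointwise_smul_iff_inv_smul_mem]
  simp [MulAut.smul_def, ← map_inv, MulAut.conj_apply]

theorem mem_normalizer_conj {A B : Subgroup H} {g n : H}
    (hAB : ∀ x, x ∈ B ↔ g⁻¹ * x * g ∈ A) :
    n ∈ normalizer (B : Set H) ↔ g⁻¹ * n * g ∈ normalizer (A : Set H) := by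
  rw [mem_normalizer_iff, mem_normalizer_iff]
  constructor
  · intro hn a
    have h := hn (g * a * g⁻¹)
    rw [hAB, hAB] at h
    simpa [mul_assoc] using h
  · intro hn x
    rw [hAB, hAB, hn (g⁻¹ * x * g)]
    simp [mul_assoc]

theorem RankOne.smul {P : Sylow p H} (h : RankOne p q P) (g : H) : RankOne p q (g • P) := by
  have hN : ∀ n, n ∈ normalizer (((g • P : Sylow p H) : Subgroup H) : Set H) ↔
      g⁻¹ * n * g ∈ normalizer ((P : Subgroup H) : Set H) :=
    fun n => mem_normalizer_conj fun x => mem_smul_sylow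
  have hpow : ∀ x : H, (g⁻¹ * x * g) ^ p = 1 ↔ x ^ p = 1 := fun x => by
    have : (MulAut.conj g⁻¹) (x ^ p) = (MulAut.conj g⁻¹ x) ^ p := map_pow _ _ _
    simp only [MulAut.conj_apply, inv_inv] at this
    rw [← this]
    constructor
    · intro hx
      calc x ^ p = g * (g⁻¹ * x ^ p * g) * g⁻¹ := by group
        _ = 1 := by rw [hx]; group
    · intro hx; rw [hx]; group
  refine ⟨fun a x hx hx1 hax => ?_, ?_, fun V hV hVP hNV x hx hxp => ?_⟩
  · rw [mem_smul_sylow] at hx hax
    rw [hN]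
    refine h.ti _ _ hx (fun e => hx1 ?_) ?_
    · calc x = g * (g⁻¹ * x * g) * g⁻¹ := by group
        _ = 1 := by rw [e]; group
    · convert hax using 1; group
  · refine le_of_eq_of_le (Nat.card_congr (Equiv.subtypeEquiv (MulAut.conj g⁻¹).toEquiv ?_)) h.omega_le
    intro x
    simp [mem_smul_sylow, hpow]
  · rw [mem_smul_sylow] at hx
    have hmem : ∀ y, y ∈ V.comap (MulAut.conj g).toMonoidHom ↔ g * y * g⁻¹ ∈ V := fun y => Iff.rfl
    have := h.irr (V.comap (MulAut.conj g).toMonoidHom) ?_ ?_ ?_ _ hx ((hpow x).2 hxp)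
    · simpa [hmem, mul_assoc] using this
    · intro e
      apply hV
      rw [eq_bot_iff]
      intro v hv
      have hv' : g⁻¹ * v * g ∈ V.comap (MulAut.conj g).toMonoidHom := by simpa [hmem, mul_assoc] using hv
      rw [e, mem_bot] at hv'
      rw [mem_bot]
      calc v = g * (g⁻¹ * v * g) * g⁻¹ := by group
        _ = 1 := by rw [hv']; group
    · intro v hv
      obtain ⟨h1, h2⟩ := hVP _ ((hmem v).1 hv)
      rw [mem_smul_sylow] at h1
      refine ⟨by simpa [mul_assoc] using h1, ?_⟩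
      have h3 := (hpow (g * v * g⁻¹)).2 h2
      simpa [mul_assoc] using h3
    · intro n hn
      have h1 : g * n * g⁻¹ ∈ normalizer (V : Set H) :=
        hNV ((hN _).2 (by simpa [mul_assoc] using hn))
      rw [mem_normalizer_iff] at h1 ⊢
      intro y
      rw [hmem, hmem, h1 (g * y * g⁻¹)]
      simp [mul_assoc]

variable [Finite H] [hp : Fact p.Prime]

/-- In a rank one group the image of `Y_M` is the set of elements of order dividing `p` of a
Sylow subgroup, and both have the same normalizer. -/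
theorem exists_sylow {Y : Subgroup H} {P₀ : Sylow p H} (h : RankOne p q P₀) (hY : Target p q Y) :
    ∃ g : H, RankOne p q (g • P₀) ∧
      (∀ x, x ∈ Y ↔ x ∈ ((g • P₀ : Sylow p H) : Subgroup H) ∧ x ^ p = 1) ∧
      normalizer (Y : Set H) = normalizer (((g • P₀ : Sylow p H) : Subgroup H) : Set H) := by
  obtain ⟨R, hR⟩ := hY.isPGroup.exists_le_sylow
  obtain ⟨g, hg⟩ := MulAction.exists_smul_eq H P₀ R
  subst hg
  have h' := h.smul g
  set P : Sylow p H := g • P₀
  have hset : (Y : Set H) = {x : H | x ∈ (P : Subgroup H) ∧ x ^ p = 1} := by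
    refine Set.eq_of_subset_of_ncard_le (fun x hx => ⟨hR hx, hY.pow x hx⟩) ?_
    rw [← Nat.card_coe_set_eq, ← Nat.card_coe_set_eq]
    exact h'.omega_le.trans hY.card.ge
  have hmem : ∀ x, x ∈ Y ↔ x ∈ (P : Subgroup H) ∧ x ^ p = 1 := fun x => Set.ext_iff.1 hset x
  refine ⟨g, h', hmem, le_antisymm (fun n hn => ?_) (fun n hn => ?_)⟩
  · obtain ⟨y, hy, hy1⟩ := Y.bot_or_exists_ne_one.resolve_left hY.ne_bot
    exact h'.ti n y (hR hy) hy1 (hR ((mem_normalizer_iff.1 hn y).1 hy))
  · rw [mem_normalizer_iff]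
    intro x
    rw [hmem, hmem, ← (mem_normalizer_iff.1 hn x), conj_pow, conj_eq_one_iff]

/-- A non-trivial element of `Y` normalizes only the conjugates of `Y` which equal `Y`. -/
theorem eq_one_of_mem {Y : Subgroup H} {P₀ : Sylow p H} (h : RankOne p q P₀) (hY : Target p q Y)
    {g y : H} (hg : g ∉ normalizer (Y : Set H)) (hy : y ∈ Y)
    (hn : g⁻¹ * y * g ∈ normalizer (Y : Set H)) : y = 1 := by
  obtain ⟨a, h', hmem, hN⟩ := exists_sylow h hY
  set P : Sylow p H := a • P₀
  by_contra hy1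
  rw [hN] at hg hn
  set x := g⁻¹ * y * g with hx
  have hxp : x ^ p = 1 := by
    have := conj_pow (a := g⁻¹) (b := y) (i := p)
    rw [inv_inv] at this
    rw [hx, this, hY.pow y hy]; group
  have hxP : x ∈ (P : Subgroup H) := by
    have hp' : IsPGroup p (zpowers x) := fun z => ⟨1, Subtype.ext (by
      obtain ⟨z, k, rfl⟩ := z
      show (x ^ k) ^ p ^ 1 = 1
      rw [pow_one, ← zpow_natCast, ← zpow_mul, mul_comm, zpow_mul, zpow_natCast, hxp, one_zpow])⟩
    have hle := IsPGroup.to_sup_of_normal_right' hp' P.isPGroup'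
      (zpowers_le.2 hn)
    exact (P.is_maximal' hle le_sup_right).le (mem_sup_left (mem_zpowers x))
  refine hg (h'.ti g x hxP (fun e => hy1 ?_) ?_)
  · calc y = g * x * g⁻¹ := by rw [hx]; group
      _ = 1 := by rw [e]; group
  · have : g * x * g⁻¹ = y := by rw [hx]; group
    rw [this]; exact ((hmem y).1 hy).1

/-- `Y` is the only non-trivial elementary abelian `p`-subgroup normalized by `N(Y)` in it. -/
theorem eq_of_le_normalizer {Y : Subgroup H} {P₀ : Sylow p H} (h : RankOne p q P₀)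
    (hY : Target p q Y) {V : Subgroup H} (hV : V ≠ ⊥) (hVp : ∀ v ∈ V, v ^ p = 1)
    (hVN : V ≤ normalizer (Y : Set H)) (hNV : normalizer (Y : Set H) ≤ normalizer (V : Set H)) :
    V = Y := by
  obtain ⟨a, h', hmem, hN⟩ := exists_sylow h hY
  set P : Sylow p H := a • P₀
  rw [hN] at hVN hNV
  have hVpg : IsPGroup p V := fun v => ⟨1, Subtype.ext (by simpa using hVp v v.2)⟩
  have hVP : V ≤ (P : Subgroup H) := by
    have hle := IsPGroup.to_sup_of_normal_right' hVpg P.isPGroup' hVN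
    exact le_sup_left.trans (P.is_maximal' hle le_sup_right).le
  refine le_antisymm (fun v hv => (hmem v).2 ⟨hVP hv, hVp v hv⟩) fun x hx => ?_
  exact h'.irr V hV (fun v hv => ⟨hVP hv, hVp v hv⟩) hNV x ((hmem x).1 hx).1 ((hmem x).1 hx).2

/-- Every element of order dividing `p` is conjugate into `Y`. -/
theorem exists_conj_mem {Y : Subgroup H} {P₀ : Sylow p H} (h : RankOne p q P₀) (hY : Target p q Y)
    {x : H} (hx : x ^ p = 1) : ∃ g : H, g⁻¹ * x * g ∈ Y := by
  obtain ⟨a, h', hmem, hN⟩ := exists_sylow h hY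
  have hp' : IsPGroup p (zpowers x) := fun z => ⟨1, Subtype.ext (by
    obtain ⟨z, k, rfl⟩ := z
    show (x ^ k) ^ p ^ 1 = 1
    rw [pow_one, ← zpow_natCast, ← zpow_mul, mul_comm, zpow_mul, zpow_natCast, hx, one_zpow])⟩
  obtain ⟨R, hR⟩ := hp'.exists_le_sylow
  obtain ⟨g, hg⟩ := MulAction.exists_smul_eq H (a • P₀) R
  subst hg
  refine ⟨g, (hmem _).2 ⟨mem_smul_sylow.1 (hR (mem_zpowers x)), ?_⟩⟩
  have := conj_pow (a := g⁻¹) (b := x) (i := p)
  rw [inv_inv] at this
  rw [this, hx]; group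

/-! ### `|Y| = 2` -/

/-- An element of prime order other than `p` is normalized but not centralized by an element of
order dividing `p`. -/
def HasInverters (p : ℕ) (H : Type*) [Group H] : Prop :=
  ∀ h : H, (orderOf h).Prime → orderOf h ≠ p →
    ∃ y : H, y ^ p = 1 ∧ y * h * y⁻¹ ∈ zpowers h ∧ y * h ≠ h * y

theorem card_two {Y : Subgroup H} (hY : Target 2 2 Y) :
    (∃ P : Sylow 2 H, RankOne 2 2 P) ∧ HasInverters 2 H := by
  classical
  haveI : Fact (Nat.Prime 2) := ⟨Nat.prime_two⟩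
  obtain ⟨y, hy, hy1⟩ := Y.bot_or_exists_ne_one.resolve_left hY.ne_bot
  have hy2 : y * y = 1 := by rw [← pow_two]; exact hY.pow y hy
  have hyi : y⁻¹ = y := inv_eq_of_mul_eq_one_right hy2
  have hord : orderOf y = 2 := orderOf_eq_prime (hY.pow y hy) hy1
  have hYeq : ∀ x ∈ Y, x = 1 ∨ x = y := by
    intro x hx
    by_contra hc
    push Not at hc
    haveI : Finite Y := inferInstance
    have h3 : ({1, y, x} : Set H).ncard ≤ (Y : Set H).ncard :=
      Set.ncard_le_ncard (by
        rintro z (rfl | rfl | rfl)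
        exacts [one_mem Y, hy, hx]) (Set.toFinite _)
    rw [Set.ncard_eq_three.2 ⟨1, y, x, fun e => hy1 e.symm, fun e => hc.1 e.symm,
      fun e => hc.2 e.symm, rfl⟩, ← Nat.card_coe_set_eq] at h3
    have := hY.card
    simp only [SetLike.coe_sort_coe] at h3
    omega
  have hcomm : ∀ n ∈ normalizer (Y : Set H), n * y = y * n := by
    intro n hn
    rcases hYeq _ ((mem_normalizer_iff.1 hn y).1 hy) with e | e
    · exact absurd (conj_eq_one_iff.1 e) hy1
    · calc n * y = n * y * n⁻¹ * n := by group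
        _ = y * n := by rw [e]
  obtain ⟨h, hh1, hodd, hinv⟩ := Invol.exists_inverted_odd y hord fun N hN hNp hyN => hy1 (by
    have := hY.core N hN hNp; rwa [this, mem_bot] at hyN)
  set r := (orderOf h).minFac with hr
  have hr1 : orderOf h ≠ 1 := fun e => hh1 (orderOf_eq_one_iff.1 e)
  have hrp : r.Prime := Nat.minFac_prime hr1
  have hrd : r ∣ orderOf h := Nat.minFac_dvd _
  have hr2 : r ≠ 2 := fun e => by
    rw [e] at hrd; exact (Nat.not_even_iff_odd.2 hodd) (even_iff_two_dvd.2 hrd)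
  set ρ := h ^ (orderOf h / r) with hρ
  have hρord : orderOf ρ = r := orderOf_pow_orderOf_div (orderOf_pos h).ne' hrd
  have hρinv : y * ρ * y⁻¹ = ρ⁻¹ := by rw [hρ, ← conj_pow, hinv, inv_pow]
  have hρne : ρ⁻¹ ≠ ρ := by
    intro e
    have : ρ ^ 2 = 1 := by rw [pow_two]; nth_rw 1 [← e]; group
    have h2 := orderOf_dvd_of_pow_eq_one this
    rw [hρord] at h2
    exact hr2 ((Nat.prime_dvd_prime_iff_eq hrp Nat.prime_two).1 h2)
  set N := zpowers ρ with hN
  have hyN : y ∈ normalizer (N : Set H) := by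
    rw [hN, mem_normalizer_iff_map_conj_eq, MonoidHom.map_zpowers]
    show zpowers (y * ρ * y⁻¹) = zpowers ρ
    rw [hρinv, zpowers_inv]
  have hsup : (N ⊔ zpowers y : Subgroup H) = ⊤ := by
    by_contra hne
    have hle : Y ≤ N ⊔ zpowers y := fun x hx => by
      rcases hYeq x hx with rfl | rfl
      exacts [one_mem _, mem_sup_right (mem_zpowers _)]
    have := hcomm ρ (hY.max _ hle hne (mem_sup_left (mem_zpowers ρ)))
    apply hρne
    rw [← hρinv, ← this]; group
  haveI hNn : N.Normal := by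
    rw [← normalizer_eq_top_iff, eq_top_iff, ← hsup]
    exact sup_le Subgroup.le_normalizer (zpowers_le.2 hyN)
  have hdec : ∀ g : H, ∃ k : ℤ, g = ρ ^ k ∨ g = ρ ^ k * y := by
    intro g
    have hg : g ∈ N ⊔ zpowers y := hsup ▸ mem_top g
    rw [← SetLike.mem_coe, normal_mul] at hg
    obtain ⟨n, ⟨k, rfl⟩, z, hz, rfl⟩ := hg
    obtain ⟨j, rfl⟩ := mem_zpowers_iff.1 hz
    refine ⟨k, ?_⟩
    have he : ∀ i : ℤ, y ^ (2 * i) = 1 := fun i => by
      rw [zpow_mul, zpow_two, hy2, one_zpow]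
    rcases Int.even_or_odd' j with ⟨i, rfl | rfl⟩
    · left; show ρ ^ k * y ^ (2 * i) = ρ ^ k; rw [he, mul_one]
    · right; show ρ ^ k * y ^ (2 * i + 1) = ρ ^ k * y; rw [zpow_add, he, one_mul, zpow_one]
  have hsq : ∀ k : ℤ, (ρ ^ k * y) * (ρ ^ k * y) = 1 := by
    intro k
    have : y * ρ ^ k * y⁻¹ = ρ ^ (-k) := by
      rw [← conj_zpow, hρinv, inv_zpow, zpow_neg]
    calc (ρ ^ k * y) * (ρ ^ k * y) = ρ ^ k * (y * ρ ^ k * y⁻¹) * (y * y) := by group
      _ = 1 := by rw [this, hy2]; group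
  refine ⟨⟨⟨Y, hY.isPGroup, ?_⟩, ?_⟩, ?_⟩
  · intro Q hQ hle
    refine le_antisymm (fun g hg => ?_) hle
    have hone : ∀ k : ℤ, ρ ^ k ∈ Q → ρ ^ k = 1 := by
      intro k hk
      obtain ⟨j, hj⟩ := hQ ⟨_, hk⟩
      have h1 : orderOf (ρ ^ k) ∣ 2 ^ j := orderOf_dvd_of_pow_eq_one (by
        simpa [Subtype.ext_iff] using hj)
      have h2 : orderOf (ρ ^ k) ∣ r := by rw [← hρord]; exact orderOf_dvd_of_mem_zpowers ⟨k, rfl⟩
      exact orderOf_eq_one_iff.1 (Nat.eq_one_of_dvd_coprimes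
        (Nat.Coprime.pow_left j ((Nat.coprime_primes Nat.prime_two hrp).2 (Ne.symm hr2))) h1 h2)
    obtain ⟨k, rfl | rfl⟩ := hdec g
    · rw [hone k hg]; exact one_mem _
    · have hk : ρ ^ k ∈ Q := by
        have := mul_mem hg (inv_mem (hle hy)); rwa [mul_inv_cancel_right] at this
      rw [hone k hk, one_mul]; exact hy
  · refine ⟨fun g x hx hx1 hgx => ?_, ?_, fun V hV hVP _ x hx _ => ?_⟩
    · change x ∈ Y at hx; change g * x * g⁻¹ ∈ Y at hgx
      rcases hYeq x hx with rfl | rfl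
      · exact absurd rfl hx1
      rcases hYeq _ hgx with e | e
      · exact absurd (conj_eq_one_iff.1 e) hy1
      show g ∈ normalizer (Y : Set H)
      rw [mem_normalizer_iff]
      intro z
      constructor
      · intro hz
        rcases hYeq z hz with rfl | rfl
        · simp
        · rw [e]; exact hy
      · intro hz
        rcases hYeq _ hz with e' | e'
        · rw [conj_eq_one_iff.1 e']; exact one_mem _
        · rw [← e] at e'
          rw [mul_left_cancel (mul_right_cancel e')]; exact hy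
    · refine le_of_le_of_eq ?_ hY.card
      exact Nat.card_le_card_of_injective (fun x => (⟨x.1, x.2.1⟩ : Y)) fun a b e =>
        Subtype.ext (congrArg (fun z : Y => (z : H)) e)
    · obtain ⟨v, hv, hv1⟩ := V.bot_or_exists_ne_one.resolve_left hV
      rcases hYeq v (hVP v hv).1 with rfl | rfl
      · exact absurd rfl hv1
      rcases hYeq x hx with rfl | rfl
      exacts [one_mem _, hv]
  · intro g hg hg2
    obtain ⟨k, rfl | rfl⟩ := hdec g
    · refine ⟨y, hY.pow y hy, ?_, fun e => ?_⟩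
      · rw [← conj_zpow, hρinv, inv_zpow]; exact inv_mem (mem_zpowers _)
      · have h1 : y * ρ ^ k * y⁻¹ = ρ ^ k := by rw [e]; group
        rw [← conj_zpow, hρinv, inv_zpow] at h1
        have h2 : (ρ ^ k) ^ 2 = 1 := by rw [pow_two]; nth_rw 1 [← h1]; group
        exact hg2 ((Nat.prime_dvd_prime_iff_eq hg Nat.prime_two).1 (orderOf_dvd_of_pow_eq_one h2))
    · exfalso
      have h2 : (ρ ^ k * y) ^ 2 = 1 := by rw [pow_two]; exact hsq k
      exact hg2 ((Nat.prime_dvd_prime_iff_eq hg Nat.prime_two).1 (orderOf_dvd_of_pow_eq_one h2))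

/-! ### `SL₂(q)` -/

section SL2

variable {F : Type*} [Field F]

/-- The upper unitriangular element. -/
def uU (x : F) : SL(2, F) := ⟨!![1, x; 0, 1], by simp [Matrix.det_fin_two_of]⟩

theorem uU_mul (x y : F) : uU x * uU y = uU (x + y) := by
  apply Subtype.ext
  rw [Matrix.SpecialLinearGroup.coe_mul]
  simp [uU, Matrix.mul_fin_two, add_comm]

variable (F) in
/-- The upper unitriangular subgroup. -/
def unipSub : Subgroup SL(2, F) :=
  (MonoidHom.mk' (fun x : Multiplicative F => uU x.toAdd) fun _ _ => (uU_mul _ _).symm).range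

theorem mem_unipSub {g : SL(2, F)} : g ∈ unipSub F ↔ ∃ x, g = uU x := by
  constructor
  · rintro ⟨x, rfl⟩; exact ⟨_, rfl⟩
  · rintro ⟨x, rfl⟩; exact ⟨Multiplicative.ofAdd x, rfl⟩

theorem uU_inj {x y : F} (h : uU x = uU y) : x = y := by
  have := congrArg (fun g : SL(2, F) => g.1 0 1) h
  simpa [uU] using this

theorem uU_zero : uU (0 : F) = 1 := by
  apply Subtype.ext; ext i j; fin_cases i <;> fin_cases j <;> simp [uU]

theorem uU_pow (x : F) (n : ℕ) : uU x ^ n = uU (n * x) := by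
  induction n with
  | zero => simp [uU_zero]
  | succ n ih => rw [pow_succ, ih, uU_mul]; congr 1; push_cast; ring

theorem conj_uU (g : SL(2, F)) (x : F) :
    ((g * uU x * g⁻¹ : SL(2, F)) : Matrix (Fin 2) (Fin 2) F) =
      !![1 - g.1 0 0 * g.1 1 0 * x, g.1 0 0 ^ 2 * x; -(g.1 1 0 ^ 2 * x), 1 + g.1 0 0 * g.1 1 0 * x] := by
  have hd : g.1 0 0 * g.1 1 1 - g.1 0 1 * g.1 1 0 = 1 := by
    rw [← Matrix.det_fin_two]; exact g.2
  rw [Matrix.SpecialLinearGroup.coe_mul, Matrix.SpecialLinearGroup.coe_mul,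
    Matrix.SpecialLinearGroup.coe_inv, Matrix.adjugate_fin_two]
  ext i j
  fin_cases i <;> fin_cases j <;> simp [uU, Matrix.mul_apply, Fin.sum_univ_two] <;> grind

theorem conj_uU_of_zero {g : SL(2, F)} (h0 : g.1 1 0 = 0) (x : F) :
    g * uU x * g⁻¹ = uU (g.1 0 0 ^ 2 * x) := by
  apply Subtype.ext
  rw [conj_uU, h0]
  simp [uU]

theorem mem_normalizer_unipSub [Finite F] {g : SL(2, F)} (h0 : g.1 1 0 = 0) :
    g ∈ normalizer (unipSub F : Set SL(2, F)) := by
  rw [mem_normalizer_iff_map_conj_eq]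
  refine eq_of_le_of_card_ge ?_ (card_map_of_injective (MulEquiv.injective _)).ge
  rintro _ ⟨u, hu, rfl⟩
  obtain ⟨x, rfl⟩ := mem_unipSub.1 hu
  exact mem_unipSub.2 ⟨_, conj_uU_of_zero h0 x⟩

theorem entry_of_conj_mem {g : SL(2, F)} {x : F} (hx : x ≠ 0)
    (h : g * uU x * g⁻¹ ∈ unipSub F) : g.1 1 0 = 0 := by
  obtain ⟨y, hy⟩ := mem_unipSub.1 h
  have := congrArg (fun g : SL(2, F) => (g : Matrix (Fin 2) (Fin 2) F) 1 0) hy
  simp only [conj_uU] at this
  simpa [uU, hx] using this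

theorem card_unipSub : Nat.card (unipSub F) = Nat.card F := by
  rw [unipSub, ← Nat.card_congr (MonoidHom.ofInjective (fun x y h =>
    Multiplicative.toAdd.injective (uU_inj h))).toEquiv, Nat.card_congr Multiplicative.toAdd]

theorem exists_rankOne_sl [Fintype F] {p : ℕ} [Fact p.Prime] [CharP F p] :
    ∃ P : Sylow p SL(2, F), RankOne p (Fintype.card F) P ∧ (P : Subgroup SL(2, F)) = unipSub F ∧
      ∀ x ∈ unipSub F, x ^ p = 1 := by
  have hp : p.Prime := Fact.out
  have hpow : ∀ x ∈ unipSub F, x ^ p = 1 := by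
    intro x hx
    obtain ⟨a, rfl⟩ := mem_unipSub.1 hx
    rw [uU_pow, CharP.cast_eq_zero, zero_mul, uU_zero]
  have hpg : IsPGroup p (unipSub F) := fun x => ⟨1, Subtype.ext (by simpa using hpow x x.2)⟩
  obtain ⟨n, -, hn⟩ := FiniteField.card F p
  have hidx : ¬ p ∣ (unipSub F).index := by
    have h1 := (unipSub F).card_mul_index
    rw [card_unipSub, Nat.card_eq_fintype_card (α := F), Linear.card_SL_two, mul_assoc] at h1
    rw [Nat.eq_of_mul_eq_mul_left Fintype.card_pos h1]
    intro hd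
    have hq : p ∣ Fintype.card F := hn ▸ dvd_pow_self p n.ne_zero
    have h2 : 2 ≤ Fintype.card F := Fintype.one_lt_card
    rcases hp.dvd_mul.1 hd with h | h
    · have := Nat.dvd_sub hq h
      rw [show Fintype.card F - (Fintype.card F - 1) = 1 by omega] at this
      exact hp.one_lt.ne' (Nat.dvd_one.1 this)
    · have := Nat.dvd_sub h hq
      rw [show Fintype.card F + 1 - Fintype.card F = 1 by omega] at this
      exact hp.one_lt.ne' (Nat.dvd_one.1 this)
  refine ⟨hpg.toSylow hidx, ?_, IsPGroup.toSylow_coe _ _, hpow⟩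
  have hc : ((hpg.toSylow hidx : Sylow p SL(2, F)) : Subgroup SL(2, F)) = unipSub F :=
    IsPGroup.toSylow_coe _ _
  refine ⟨fun g x hx hx1 hgx => ?_, ?_, fun V hV hVP hNV x hx _ => ?_⟩
  · rw [hc] at hx hgx ⊢
    obtain ⟨a, rfl⟩ := mem_unipSub.1 hx
    refine mem_normalizer_unipSub (entry_of_conj_mem (fun h0 => hx1 ?_) hgx)
    rw [h0, uU_zero]
  · rw [← Nat.card_eq_fintype_card, ← card_unipSub (F := F)]
    exact Nat.card_le_card_of_injective (fun x => (⟨x.1, SetLike.ext_iff.1 hc x.1 |>.1 x.2.1⟩ : unipSub F)) fun a b e =>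
      Subtype.ext (congrArg (fun z : unipSub F => (z : SL(2, F))) e)
  · rw [hc] at hx hNV
    obtain ⟨v, hv, hv1⟩ := V.bot_or_exists_ne_one.resolve_left hV
    obtain ⟨a, rfl⟩ := mem_unipSub.1 (hc ▸ (hVP v hv).1)
    have ha : a ≠ 0 := fun h => hv1 (by rw [h, uU_zero])
    let S : AddSubgroup F :=
      { carrier := {s | uU s ∈ V}
        zero_mem' := by simp [uU_zero]
        add_mem' := fun {s t} hs ht => by
          show uU (s + t) ∈ V
          rw [← uU_mul]; exact mul_mem hs ht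
        neg_mem' := fun {s} hs => by
          show uU (-s) ∈ V
          rw [show uU (-s) = (uU s)⁻¹ from eq_inv_of_mul_eq_one_left (by
            rw [uU_mul, neg_add_cancel, uU_zero])]
          exact inv_mem hs }
    have hsq : ∀ c : F, c ^ 2 * a ∈ S := by
      intro c
      by_cases h0 : c = 0
      · simp [h0]
      · set g : SL(2, F) := ⟨!![c, 0; 0, c⁻¹], by simp [Matrix.det_fin_two_of, h0]⟩
        have h10 : g.1 1 0 = 0 := by simp [g]
        have := (mem_normalizer_iff.1 (hNV (mem_normalizer_unipSub h10)) (uU a)).1 hv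
        rw [conj_uU_of_zero h10] at this
        show uU (c ^ 2 * a) ∈ V
        simpa [g] using this
    obtain ⟨b, rfl⟩ := mem_unipSub.1 hx
    show b ∈ S
    by_cases h2 : (2 : F) = 0
    · haveI : CharP F 2 := CharTwo.of_one_ne_zero_of_two_eq_zero one_ne_zero h2
      obtain ⟨c, hc'⟩ := (FiniteField.isSquare_of_char_two
        (ringChar.eq F 2) (b / a))
      have := hsq c
      rwa [pow_two, ← hc', div_mul_cancel₀ _ ha] at this
    · have := S.sub_mem (hsq ((b / a + 1) / 2)) (hsq ((b / a - 1) / 2))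
      convert this using 1
      field_simp
      ring

end SL2

theorem zpowers_eq_of_orderOf_eq {G : Type*} [Group G] [Finite G] [IsCyclic G] {a b : G}
    (h : orderOf a = orderOf b) : zpowers a = zpowers b := by
  classical
  haveI := Fintype.ofFinite G
  have hcard := IsCyclic.card_pow_eq_one_le (α := G) (orderOf_pos b)
  set S : Finset G := {z : G | z ^ orderOf b = 1} with hS
  have key : ∀ c : G, orderOf c = orderOf b → (zpowers c : Set G) = (S : Set G) := by
    intro c hc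
    refine Set.eq_of_subset_of_ncard_le ?_ ?_
    · intro z hz
      simp only [hS, Finset.coe_filter, Finset.mem_univ, true_and, Set.mem_setOf_eq]
      exact orderOf_dvd_iff_pow_eq_one.1 (hc ▸ orderOf_dvd_of_mem_zpowers hz)
    · rw [Set.ncard_coe_finset, ← Nat.card_coe_set_eq]
      exact hcard.trans (by rw [SetLike.coe_sort_coe, Nat.card_zpowers, hc])
  exact SetLike.coe_injective ((key a h).trans (key b rfl).symm)

/-! ### `Sz(q)` -/

section Sz

open Cfsg.Agent.Suzuki MulAction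

variable {F : Type*} [Field F] [Fintype F] {m : ℕ} [hS : SuzukiField F m]

theorem mem_zpowers_of_orderOf_eq {G : Type*} [Group G] [Finite G] {A : Subgroup G} [IsCyclic A]
    {a b : G} (ha : a ∈ A) (hb : b ∈ A) (h : orderOf a = orderOf b) : a ∈ zpowers b := by
  obtain ⟨k, hk⟩ : (⟨a, ha⟩ : A) ∈ zpowers (⟨b, hb⟩ : A) := by
    have e : zpowers (⟨a, ha⟩ : A) = zpowers (⟨b, hb⟩ : A) := by
      exact zpowers_eq_of_orderOf_eq (by rw [orderOf_mk, orderOf_mk, h])
    rw [← e]; exact mem_zpowers _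
  exact ⟨k, congrArg Subtype.val hk⟩

theorem exists_rankOne_sz :
    ∃ P : Sylow 2 (Cfsg.Sz F m), RankOne 2 (Fintype.card F) P := by
  refine ⟨unipSylow F m, fun g x hx hx1 hgx => ?_, ?_, fun V hV hVP hNV x hx hxp => ?_⟩
  · rw [coe_unipSylow] at hx hgx ⊢
    obtain ⟨a, b, rfl⟩ := hx
    obtain ⟨c, d, he⟩ := hgx
    have hab : a ≠ 0 ∨ b ≠ 0 := by
      by_contra hc; simp only [not_or, not_not] at hc
      exact hx1 (by rw [hc.1, hc.2, gT_zero])
    rw [normalizer_unip, mem_stabilizer_iff]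
    have hfix : ∀ a b : F, (gT a b : Cfsg.Sz F m) • oInf F m = oInf F m := by
      intro a b
      have := Subgroup.le_normalizer (gT_mem_unip (m := m) a b)
      rwa [normalizer_unip, mem_stabilizer_iff] at this
    have h1 : (gT a b : Cfsg.Sz F m) • (g⁻¹ • oInf F m) = g⁻¹ • oInf F m := by
      have e : (g * gT a b * g⁻¹) • oInf F m = oInf F m := he ▸ hfix c d
      rw [mul_smul, mul_smul] at e
      exact eq_inv_smul_iff.2 e
    exact (inv_smul_eq_iff.1 (fix_of_unip hab h1)).symm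
  · have hsub : ∀ x : {x : Cfsg.Sz F m // x ∈ (unipSylow F m : Subgroup (Cfsg.Sz F m)) ∧ x ^ 2 = 1},
        ∃ b : F, x.1 = gT 0 b := by
      rintro ⟨x, hx, hx2⟩
      obtain ⟨a, b, rfl⟩ := hx
      rw [gT_sq] at hx2
      obtain ⟨-, h2⟩ := gT_eq_one hx2
      refine ⟨b, ?_⟩
      show gT a b = gT 0 b
      rcases mul_eq_zero.1 h2 with h | h
      · exact congrArg (fun a => gT a b) ((map_eq_zero (th F m)).1 h)
      · exact congrArg (fun a => gT a b) h
    choose f hf using hsub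
    rw [← Nat.card_eq_fintype_card]
    exact Nat.card_le_card_of_injective f fun x y e => Subtype.ext (by rw [hf x, hf y, e])
  · rw [coe_unipSylow] at hx hNV
    obtain ⟨v, hv, hv1⟩ := V.bot_or_exists_ne_one.resolve_left hV
    have key : ∀ z : Cfsg.Sz F m, z ∈ unip F m → z ^ 2 = 1 → ∃ b : F, z = gT 0 b := by
      rintro z ⟨a, b, rfl⟩ hz2
      rw [gT_sq] at hz2
      obtain ⟨-, h2⟩ := gT_eq_one hz2
      refine ⟨b, ?_⟩
      rcases mul_eq_zero.1 h2 with h | h
      · rw [(map_eq_zero (th F m)).1 h]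
      · rw [h]
    obtain ⟨b₀, rfl⟩ := key v (coe_unipSylow (F := F) (m := m) ▸ (hVP v hv).1) (hVP v hv).2
    obtain ⟨b, rfl⟩ := key x hx hxp
    have hb₀ : b₀ ≠ 0 := fun h => hv1 (by rw [h, gT_zero])
    by_cases hb : b = 0
    · rw [hb, gT_zero]; exact one_mem _
    let f : Fˣ → Fˣ := fun l => (Units.map (th F m : F →* F) l * l) ^ 2
    have hinj : Function.Injective f := by
      intro k l e
      have h1 : (th F m (k : F) * k) ^ 2 = (th F m (l : F) * l) ^ 2 := by
        simpa [f] using congrArg (fun u : Fˣ => (u : F)) e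
      have h2 : th F m (k : F) * k = th F m (l : F) * l := sq_injective h1
      have h3 : th F m ((k : F) / l) * ((k : F) / l) = 1 := by
        rw [map_div₀, div_mul_div_comm, h2, div_self]
        exact mul_ne_zero ((map_ne_zero (th F m)).2 l.ne_zero) l.ne_zero
      exact Units.ext ((div_eq_one_iff_eq l.ne_zero).1 (th_mul_self_eq_one h3))
    obtain ⟨l, hl⟩ := Finite.injective_iff_surjective.1 hinj (Units.mk0 (b / b₀) (div_ne_zero hb hb₀))
    have hmem : gD l ∈ normalizer (unip F m : Set (Cfsg.Sz F m)) := by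
      rw [normalizer_unip, mem_stabilizer_iff]; exact gD_smul_oInf l
    have h4 := (mem_normalizer_iff.1 (hNV hmem) _).1 hv
    rw [gD_conj_gT, mul_inv_cancel_right, mul_zero] at h4
    have h5 : (th F m (l : F) * l) ^ 2 = b / b₀ := by
      simpa [f] using congrArg (fun u : Fˣ => (u : F)) hl
    rwa [← mul_pow, h5, div_mul_cancel₀ _ hb₀] at h4

theorem hasInverters_sz : HasInverters 2 (Cfsg.Sz F m) := by
  haveI : Fact (Nat.Prime 2) := ⟨Nat.prime_two⟩
  intro h hh h2
  have h1 : h ≠ 1 := fun e => by rw [e, orderOf_one] at hh; exact Nat.not_prime_one hh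
  have hcj : ∀ k : Cfsg.Sz F m, orderOf (k⁻¹ * h * k) = orderOf h := fun k => by
    simpa [MulAut.conj_apply] using
      orderOf_injective (MulAut.conj k⁻¹).toMonoidHom (MulAut.conj k⁻¹).injective h
  have hlift : ∀ k y : Cfsg.Sz F m, y ^ 2 = 1 → y * (k⁻¹ * h * k) * y⁻¹ ∈ zpowers (k⁻¹ * h * k) →
      y * (k⁻¹ * h * k) ≠ (k⁻¹ * h * k) * y →
      ∃ y : Cfsg.Sz F m, y ^ 2 = 1 ∧ y * h * y⁻¹ ∈ zpowers h ∧ y * h ≠ h * y := by
    intro k y hy hyz hyc
    refine ⟨k * y * k⁻¹, by rw [conj_pow, hy]; group, ?_, fun e => hyc ?_⟩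
    · obtain ⟨j, hj⟩ := hyz
      refine ⟨j, ?_⟩
      have hj' : (k⁻¹ * h * k) ^ j = y * (k⁻¹ * h * k) * y⁻¹ := hj
      have e1 : (k⁻¹ * h * k) ^ j = k⁻¹ * h ^ j * k := by
        have := conj_zpow (a := k⁻¹) (b := h) (i := j); rwa [inv_inv] at this
      show h ^ j = k * y * k⁻¹ * h * (k * y * k⁻¹)⁻¹
      rw [show h ^ j = k * (k⁻¹ * h * k) ^ j * k⁻¹ by rw [e1]; group, hj']
      group
    · calc y * (k⁻¹ * h * k) = k⁻¹ * ((k * y * k⁻¹) * h) * k := by group
        _ = k⁻¹ * (h * (k * y * k⁻¹)) * k := by rw [e]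
        _ = (k⁻¹ * h * k) * y := by group
  rcases trichotomy h1 with ⟨-, k, hk⟩ | ⟨-, k, hk⟩ | hs
  · exfalso
    have := hcj k
    obtain ⟨a, b, hab⟩ := hk
    have hd : orderOf (k⁻¹ * h * k) ∣ 2 ^ 2 := orderOf_dvd_of_pow_eq_one (by
      rw [hab]; exact gT_pow_four a b)
    rw [this] at hd
    exact h2 ((Nat.prime_dvd_prime_iff_eq hh Nat.prime_two).1 (hh.dvd_of_dvd_pow hd))
  · obtain ⟨l, hl⟩ := exists_of_mem_torus hk
    refine hlift k (gW F m) (by rw [pow_two, gW_mul_gW]) ?_ fun e => ?_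
    · rw [hl, gW_mul_gD, mul_inv_cancel_right, ← gD_inv]
      exact inv_mem (mem_zpowers _)
    · rw [hl, gW_mul_gD] at e
      have e2 : l⁻¹ = l := gD_inj (mul_right_cancel e)
      have : (k⁻¹ * h * k) ^ 2 = 1 := by
        rw [hl, pow_two, gD_mul]; nth_rw 1 [← e2]; rw [inv_mul_cancel, gD_one]
      have hd := orderOf_dvd_of_pow_eq_one this
      rw [hcj] at hd
      exact h2 ((Nat.prime_dvd_prime_iff_eq hh Nat.prime_two).1 hd)
  · obtain ⟨A, B, hA, hB, hcov, -, -, hNA, hNB⟩ := exists_tori (F := F) (m := m)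
    have key : ∀ A : Subgroup (Cfsg.Sz F m), IsTorus A →
        Nat.card (normalizer (A : Set (Cfsg.Sz F m))) = 4 * Nat.card A → h ∈ conjCover A →
        ∃ y : Cfsg.Sz F m, y ^ 2 = 1 ∧ y * h * y⁻¹ ∈ zpowers h ∧ y * h ≠ h * y := by
      rintro A hA hN ⟨-, k, hk⟩
      haveI := hA.isCyclic
      obtain ⟨⟨y, hyN⟩, hy⟩ := exists_prime_orderOf_dvd_card' 2
        (show 2 ∣ Nat.card (normalizer (A : Set (Cfsg.Sz F m))) by rw [hN]; omega)
      rw [orderOf_mk] at hy
      refine hlift k y (hy ▸ pow_orderOf_eq_one y) ?_ fun e => ?_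
      · refine mem_zpowers_of_orderOf_eq ((mem_normalizer_iff.1 hyN _).1 hk) hk ?_
        exact Invol.orderOf_conj y _
      · have h3 : y ∈ A := by
          have hne : k⁻¹ * h * k ≠ 1 := fun e => h1 (by
            calc h = k * (k⁻¹ * h * k) * k⁻¹ := by group
              _ = 1 := by rw [e]; group)
          rw [← (hA.semireg hk hne).2, mem_centralizer_singleton_iff]
          exact e
        have hy1 : y ≠ 1 := fun e => by rw [e, orderOf_one] at hy; omega
        have hc := (hA.semireg h3 hy1).1.coprime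
        rw [hy] at hc
        exact absurd (Nat.eq_one_of_dvd_coprimes hc dvd_rfl
          (Dvd.dvd.mul_right (dvd_pow (card_even (F := F) (m := m)) two_ne_zero) _)) (by norm_num)
    rcases hcov h hs with hc | hc
    exacts [key A hA hNA hc, key B hB hNB hc]

end Sz

end Cfsg.Agent.LAE60.Residue
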