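import Cfsg.Agent.LAE60.Residue

/-!
A module for `SL₂(q)` in which every non-trivial upper unitriangular element has the same fixed
points `B`, with `B` a complement to its Weyl conjugate, is a sum of natural modules: an element
with a non-zero fixed point has trace `2`.
-/

set_option autoImplicit false
set_option linter.unusedVariables false
set_option linter.style.haveILetI false

open scoped MatrixGroups

namespace Cfsg.Agent.LAE60.Residue

variable {F : Type*} [Field F]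

/-- The lower unitriangular element. -/
def lL (x : F) : SL(2, F) := ⟨!![1, 0; x, 1], by simp [Matrix.det_fin_two_of]⟩

/-- The element `!![0, -1; 1, 0]`. -/
def wW : SL(2, F) := ⟨!![0, -1; 1, 0], by simp [Matrix.det_fin_two_of]⟩

/-- The diagonal element with entries `a`, `a'`. -/
def dG (a a' : F) (h : a * a' = 1) : SL(2, F) :=
  ⟨!![a, 0; 0, a'], by simp [Matrix.det_fin_two_of, h]⟩

/-- The antidiagonal element with entries `-a`, `a'`. -/
def wG (a a' : F) (h : a * a' = 1) : SL(2, F) :=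
  ⟨!![0, -a; a', 0], by simp [Matrix.det_fin_two_of, h]⟩

theorem wW_sq_comm (a : SL(2, F)) : wW * wW * a = a * (wW * wW) := by
  apply Subtype.ext
  simp only [Matrix.SpecialLinearGroup.coe_mul]
  ext i j; fin_cases i <;> fin_cases j <;> simp [wW, Matrix.mul_apply, Fin.sum_univ_two]

theorem wW_four : (wW * wW * (wW * wW) : SL(2, F)) = 1 := by
  apply Subtype.ext
  simp only [Matrix.SpecialLinearGroup.coe_mul]
  ext i j; fin_cases i <;> fin_cases j <;> simp [wW, Matrix.mul_apply, Fin.sum_univ_two]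

theorem lL_eq (s : F) : lL s = wW * uU (-s) * (wW * (wW * wW)) := by
  apply Subtype.ext
  simp only [Matrix.SpecialLinearGroup.coe_mul]
  ext i j; fin_cases i <;> fin_cases j <;> simp [wW, uU, lL, Matrix.mul_apply, Fin.sum_univ_two]

theorem wW_eq : (wW : SL(2, F)) = uU (-1) * lL 1 * uU (-1) := by
  apply Subtype.ext
  simp only [Matrix.SpecialLinearGroup.coe_mul]
  ext i j; fin_cases i <;> fin_cases j <;> simp [wW, uU, lL, Matrix.mul_apply, Fin.sum_univ_two]

theorem wG_eq (a a' : F) (h : a * a' = 1) : wG a a' h = uU (-a) * lL a' * uU (-a) := by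
  apply Subtype.ext
  simp only [Matrix.SpecialLinearGroup.coe_mul]
  ext i j
  fin_cases i <;> fin_cases j <;> simp [wG, uU, lL, Matrix.mul_apply, Fin.sum_univ_two] <;> grind

theorem wG_conj (a a' : F) (h : a * a' = 1) :
    lL (-(a' ^ 2)) * wG a a' h = wG a a' h * uU 1 := by
  apply Subtype.ext
  simp only [Matrix.SpecialLinearGroup.coe_mul]
  ext i j
  fin_cases i <;> fin_cases j <;> simp [wG, uU, lL, Matrix.mul_apply, Fin.sum_univ_two] <;> grind

theorem dG_eq (a a' : F) (h : a * a' = 1) : dG a a' h = wG a a' h * (wW * (wW * wW)) := by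
  apply Subtype.ext
  simp only [Matrix.SpecialLinearGroup.coe_mul]
  ext i j; fin_cases i <;> fin_cases j <;> simp [wG, wW, dG, Matrix.mul_apply, Fin.sum_univ_two]

theorem dG_mul (a a' b b' : F) (ha : a * a' = 1) (hb : b * b' = 1) (h : a * b * (b' * a') = 1) :
    dG (a * b) (b' * a') h = dG a a' ha * dG b b' hb := by
  apply Subtype.ext
  simp only [Matrix.SpecialLinearGroup.coe_mul]
  ext i j; fin_cases i <;> fin_cases j <;> simp [dG, Matrix.mul_apply, Fin.sum_univ_two, mul_comm]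

theorem eq_dG_mul (g : SL(2, F)) (h0 : g.1 1 0 = 0) (h : g.1 0 0 * g.1 1 1 = 1) :
    g = dG (g.1 0 0) (g.1 1 1) h * uU (g.1 1 1 * g.1 0 1) := by
  apply Subtype.ext
  simp only [Matrix.SpecialLinearGroup.coe_mul]
  ext i j
  fin_cases i <;> fin_cases j <;> simp [dG, uU, Matrix.mul_apply, Fin.sum_univ_two] <;> grind

theorem eq_uU_mul (g : SL(2, F)) {x y : F} (hc : g.1 1 0 ≠ 0) (hx : x * g.1 1 0 = g.1 0 0 - 1)
    (hy : y * g.1 1 0 = g.1 1 1 - 1) : g = uU x * lL (g.1 1 0) * uU y := by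
  have hd : g.1 0 0 * g.1 1 1 - g.1 0 1 * g.1 1 0 = 1 := by
    rw [← Matrix.det_fin_two]; exact g.2
  apply Subtype.ext
  simp only [Matrix.SpecialLinearGroup.coe_mul]
  ext i j
  fin_cases i <;> fin_cases j <;> simp [uU, lL, Matrix.mul_apply, Fin.sum_univ_two] <;> grind

variable {M : Type*} [AddCommGroup M]

theorem slTwo_trace_eq_two (ρ : SL(2, F) →* AddMonoid.End M) (B : AddSubgroup M)
    (hcomm : ∀ (t : F) (m : M), ρ (uU t) m - m ∈ B)
    (hfix : ∀ (t : F) (b : M), b ∈ B → ρ (uU t) b = b)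
    (hker : ∀ t : F, t ≠ 0 → ∀ m : M, ρ (uU t) m = m → m ∈ B)
    (hdisj : ∀ b ∈ B, ρ wW b ∈ B → b = 0)
    (hsup : ∀ m : M, ∃ b ∈ B, ∃ c ∈ B, m = b + ρ wW c)
    {g : SL(2, F)} {v : M} (hv : v ≠ 0) (hg : ρ g v = v) :
    g.1 0 0 + g.1 1 1 = 2 := by
  classical
  have act : ∀ (a b : SL(2, F)) (m : M), ρ (a * b) m = ρ a (ρ b m) := fun a b m => by
    rw [map_mul]; rfl
  have act1 : ∀ m : M, ρ 1 m = m := fun m => by rw [map_one]; rfl
  have uniq : ∀ {b c b' c' : M}, b ∈ B → c ∈ B → b' ∈ B → c' ∈ B →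
      b + ρ wW c = b' + ρ wW c' → b = b' ∧ c = c' := by
    intro b c b' c' hb hc hb' hc' e
    have h1 : ρ wW (c - c') = b' - b := by
      rw [map_sub, sub_eq_sub_iff_add_eq_add, add_comm, e, add_comm]
    have h2 := hdisj _ (B.sub_mem hc hc') (h1 ▸ B.sub_mem hb' hb)
    rw [h2, map_zero] at h1
    exact ⟨(sub_eq_zero.1 h1.symm).symm, sub_eq_zero.1 h2⟩
  let φ : F → M → M := fun t c => ρ (uU t) (ρ wW c) - ρ wW c
  have φmem : ∀ t c, φ t c ∈ B := fun t c => hcomm t _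
  have hu : ∀ t c, ρ (uU t) (ρ wW c) = φ t c + ρ wW c := fun t c => by simp [φ]
  have φsub : ∀ t c c', φ t (c - c') = φ t c - φ t c' := fun t c c' => by
    simp only [φ, map_sub]; abel
  have φzero : ∀ t, φ t 0 = 0 := fun t => by simp [φ]
  have φneg : ∀ t c, φ t (-c) = - φ t c := fun t c => by
    have := φsub t 0 c; rwa [zero_sub, φzero, zero_sub] at this
  have φaddc : ∀ t c c', φ t (c + c') = φ t c + φ t c' := fun t c c' => by
    simp only [φ, map_add]; abel
  have φadd : ∀ s t c, φ (s + t) c = φ s c + φ t c := by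
    intro s t c
    have h1 := hu (s + t) c
    rw [← uU_mul, act, hu, map_add, hfix _ _ (φmem t c), hu, ← add_assoc] at h1
    rw [← add_right_cancel h1, add_comm]
  have φ0 : ∀ c, φ 0 c = 0 := fun c => by simp [φ, uU_zero, act1]
  have φnegt : ∀ t c, φ (-t) c = - φ t c := fun t c => by
    have := φadd (-t) t c; rw [neg_add_cancel, φ0] at this
    exact eq_neg_of_add_eq_zero_left this.symm
  have φinj : ∀ t, t ≠ 0 → ∀ c ∈ B, φ t c = 0 → c = 0 := fun t ht c hc h =>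
    hdisj c hc (hker t ht _ (by rw [hu, h, zero_add]))
  set z : SL(2, F) := wW * wW with hz
  have hzc : ∀ a : SL(2, F), z * a = a * z := wW_sq_comm
  have Zmem : ∀ b ∈ B, ρ z b ∈ B := by
    intro b hb
    refine hker 1 one_ne_zero _ ?_
    rw [← act, ← hzc, act, hfix _ _ hb]
  have hww : ∀ m, ρ wW (ρ wW m) = ρ z m := fun m => (act _ _ _).symm
  have hzz : ∀ m, ρ z (ρ z m) = m := by
    intro m
    have : z * z = 1 := wW_four
    rw [← act, this, act1]
  have hlw : ∀ s : F, lL s = wW * uU (-s) * (wW * z) := lL_eq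
  have hl0 : ∀ s, ∀ b ∈ B, ρ (lL s) b = b - ρ wW (φ s (ρ z b)) := by
    intro s b hb
    rw [hlw, act, act, act, hu, map_add, hww, hzz, φnegt, map_neg, neg_add_eq_sub]
  have hlW : ∀ s, ∀ b ∈ B, ρ (lL s) (ρ wW b) = ρ wW b := by
    intro s b hb
    rw [hlw, act, act, act, ← act z, hzc, act, hww, hzz, hfix _ _ hb]
  have hw1 : ∀ b ∈ B, φ 1 b = b ∧ ρ z b = -b := by
    intro b hb
    have e := wW_eq (F := F)
    have h1 : ρ wW b = (b + φ 1 (φ 1 (ρ z b))) + ρ wW (-(φ 1 (ρ z b))) := by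
      conv_lhs => rw [e, act, act, hfix _ _ hb, hl0 1 b hb, map_sub, hfix _ _ hb, hu, φnegt]
      rw [map_neg]; abel
    obtain ⟨h2, h3⟩ := uniq (B.zero_mem) hb (B.add_mem hb (φmem _ _)) (B.neg_mem (φmem _ _))
      (show (0 : M) + ρ wW b = _ by rw [zero_add]; exact h1)
    have h4 : φ 1 (ρ z b) = -b := by rw [eq_neg_iff_add_eq_zero]; nth_rw 2 [h3]; abel
    rw [h4, φneg] at h2
    have h5 : φ 1 b = b := (add_neg_eq_zero.1 h2.symm).symm
    refine ⟨h5, sub_eq_zero.1 (φinj 1 one_ne_zero _ (B.sub_mem (Zmem b hb) (B.neg_mem hb)) ?_)⟩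
    rw [φsub, h4, φneg, h5, sub_self]
  have hl : ∀ s, ∀ b ∈ B, ρ (lL s) b = b + ρ wW (φ s b) := by
    intro s b hb
    rw [hl0 s b hb, (hw1 b hb).2, φneg, map_neg, sub_neg_eq_add]
  have hwt : ∀ a a' (h : a * a' = 1), ∀ b ∈ B,
      ρ (wG a a' h) b = (b - φ a (φ a' b)) + ρ wW (φ a' b) := by
    intro a a' h b hb
    rw [wG_eq, act, act, hfix _ _ hb, hl a' b hb, map_add, hfix _ _ hb, hu, φnegt]
    abel
  have hφinv : ∀ a a', a * a' = 1 → ∀ b ∈ B, φ a (φ a' b) = b := by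
    intro a a' h b hb
    have e := wG_conj a a' h
    have h1 : ρ (lL (-(a' ^ 2))) (ρ (wG a a' h) b) = ρ (wG a a' h) b := by
      rw [← act, e, act, hfix _ _ hb]
    have hB1 : b - φ a (φ a' b) ∈ B := B.sub_mem hb (φmem _ _)
    rw [hwt a a' h b hb, map_add, hl _ _ hB1, hlW _ _ (φmem _ _), add_assoc, ← map_add] at h1
    have h2 := (uniq hB1 (B.add_mem (φmem _ _) (φmem _ _)) hB1 (φmem _ _) h1).2
    rw [add_eq_right] at h2
    have ha' : a' ≠ 0 := right_ne_zero_of_mul_eq_one h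
    exact (sub_eq_zero.1 (φinj _ (neg_ne_zero.2 (pow_ne_zero 2 ha')) _ hB1 h2)).symm
  have hwtW : ∀ a a' (h : a * a' = 1), ∀ c ∈ B, ρ (wG a a' h) (ρ wW c) = - φ a c := by
    intro a a' h c hc
    have h' : a' * a = 1 := by rw [mul_comm]; exact h
    rw [wG_eq, act, act, hu, φnegt, map_add, map_neg, hlW _ _ hc, hl _ _ (φmem _ _),
      hφinv a' a h' c hc, map_add, map_neg, map_add, hfix _ _ (φmem _ _), hu, φnegt]
    abel
  have hh : ∀ a a' (h : a * a' = 1), ∀ b ∈ B,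
      ρ (dG a a' h) b = φ a b ∧ ρ (dG a a' h) (ρ wW b) = ρ wW (φ a' b) := by
    intro a a' h b hb
    have e : dG a a' h = wG a a' h * (wW * z) := dG_eq a a' h
    constructor
    · rw [e, act, act, (hw1 b hb).2, map_neg, map_neg, hwtW a a' h b hb, neg_neg]
    · rw [e, act, act, ← act z, hzc, act, hww, hzz, hwt a a' h b hb, hφinv a a' h b hb, sub_self,
        zero_add]
  have φmul : ∀ s t, ∀ b ∈ B, φ (s * t) b = φ s (φ t b) := by
    intro s t b hb
    by_cases hs : s = 0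
    · rw [hs, zero_mul, φ0, φ0]
    by_cases ht : t = 0
    · rw [ht, mul_zero, φ0, φzero]
    have h1 : (s * t) * (t⁻¹ * s⁻¹) = 1 := by
      rw [mul_assoc, ← mul_assoc t, mul_inv_cancel₀ ht, one_mul, mul_inv_cancel₀ hs]
    have e := dG_mul s s⁻¹ t t⁻¹ (mul_inv_cancel₀ hs) (mul_inv_cancel₀ ht) h1
    rw [← (hh _ _ h1 b hb).1, e, act, (hh _ _ (mul_inv_cancel₀ ht) b hb).1,
      (hh _ _ (mul_inv_cancel₀ hs) _ (φmem _ _)).1]
  letI : Module F B :=
    { smul := fun t b => ⟨φ t b, φmem _ _⟩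
      one_smul := fun b => Subtype.ext (hw1 b b.2).1
      mul_smul := fun s t b => Subtype.ext (φmul s t b b.2)
      smul_zero := fun t => Subtype.ext (φzero t)
      smul_add := fun t b c => Subtype.ext (φaddc t b c)
      add_smul := fun s t b => Subtype.ext (φadd s t b)
      zero_smul := fun b => Subtype.ext (φ0 b) }
  have hsm : ∀ (t : F) (b : B), ((t • b : B) : M) = φ t b := fun _ _ => rfl
  let ι : B → B → M := fun b c => (b : M) + ρ wW (c : M)
  have hιu : ∀ x b c, ρ (uU x) (ι b c) = ι (b + x • c) c := by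
    intro x b c
    simp only [ι, map_add, hfix _ _ b.2, hu, AddSubgroup.coe_add, hsm]; abel
  have hιl : ∀ x b c, ρ (lL x) (ι b c) = ι b (c + x • b) := by
    intro x b c
    simp only [ι, map_add, hl _ _ b.2, hlW _ _ c.2, AddSubgroup.coe_add, hsm]; abel
  have hmat : ∀ b c, ρ g (ι b c) =
      ι (g.1 0 0 • b + g.1 0 1 • c) (g.1 1 0 • b + g.1 1 1 • c) := by
    intro b c
    have hdet : g.1 0 0 * g.1 1 1 - g.1 0 1 * g.1 1 0 = 1 := by
      rw [← Matrix.det_fin_two]; exact g.2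
    by_cases hc0 : g.1 1 0 = 0
    · have hd : g.1 0 0 * g.1 1 1 = 1 := by rw [hc0, mul_zero, sub_zero] at hdet; exact hdet
      have e := eq_dG_mul g hc0 hd
      conv_lhs => rw [e, act, hιu]
      simp only [ι]
      rw [map_add, (hh _ _ hd _ (b + (g.1 1 1 * g.1 0 1) • c).2).1, (hh _ _ hd _ c.2).2,
        ← hsm, ← hsm, smul_add, smul_smul, ← mul_assoc, hd, one_mul, hc0, zero_smul, zero_add]
    · obtain ⟨x, hx⟩ : ∃ x, x * g.1 1 0 = g.1 0 0 - 1 := ⟨_, div_mul_cancel₀ _ hc0⟩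
      obtain ⟨y, hy⟩ : ∃ y, y * g.1 1 0 = g.1 1 1 - 1 := ⟨_, div_mul_cancel₀ _ hc0⟩
      have e := eq_uU_mul g hc0 hx hy
      have h00 : g.1 0 0 = 1 + x * g.1 1 0 := by rw [hx]; ring
      have h11 : g.1 1 1 = 1 + y * g.1 1 0 := by rw [hy]; ring
      have h01 : g.1 0 1 = y + x * (1 + y * g.1 1 0) := by
        refine mul_right_cancel₀ hc0 ?_
        linear_combination (-1 : F) * hdet + (g.1 1 1) * h00 + (1 + x * g.1 1 0) * h11
      conv_lhs => rw [e, act, act, hιu, hιl, hιu]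
      rw [h00, h01, h11]
      congr 1 <;> module
  obtain ⟨b, hb, c, hc, rfl⟩ := hsup v
  have h1 := hmat ⟨b, hb⟩ ⟨c, hc⟩
  rw [hg] at h1
  obtain ⟨e1, e2⟩ := uniq hb hc (g.1 0 0 • (⟨b, hb⟩ : B) + g.1 0 1 • ⟨c, hc⟩ : B).2
    (g.1 1 0 • (⟨b, hb⟩ : B) + g.1 1 1 • ⟨c, hc⟩ : B).2 h1
  have e1' : (⟨b, hb⟩ : B) = g.1 0 0 • ⟨b, hb⟩ + g.1 0 1 • ⟨c, hc⟩ := Subtype.ext e1
  have e2' : (⟨c, hc⟩ : B) = g.1 1 0 • ⟨b, hb⟩ + g.1 1 1 • ⟨c, hc⟩ := Subtype.ext e2
  have hdet : g.1 0 0 * g.1 1 1 - g.1 0 1 * g.1 1 0 = 1 := by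
    rw [← Matrix.det_fin_two]; exact g.2
  set b' : B := ⟨b, hb⟩ with hb'
  set c' : B := ⟨c, hc⟩ with hc'
  by_contra htr
  have hD2 : (2 - g.1 0 0 - g.1 1 1) ≠ 0 := fun h => htr (by linear_combination -h)
  set α := g.1 0 0
  set β := g.1 0 1
  set γ := g.1 1 0
  set δ := g.1 1 1
  have eD : (2 - α - δ) = (α - 1) * (δ - 1) - β * γ := by linear_combination -hdet
  have f1 : (α - 1) • b' + β • c' = 0 := by
    calc (α - 1) • b' + β • c' = (α • b' + β • c') - b' := by module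
      _ = 0 := by rw [← e1', sub_self]
  have f2 : γ • b' + (δ - 1) • c' = 0 := by
    calc γ • b' + (δ - 1) • c' = (γ • b' + δ • c') - c' := by module
      _ = 0 := by rw [← e2', sub_self]
  have g1 : (2 - α - δ) • b' = 0 := by
    calc (2 - α - δ) • b' = (δ - 1) • ((α - 1) • b' + β • c') - β • (γ • b' + (δ - 1) • c') := by
          rw [eD]; module
      _ = 0 := by rw [f1, f2, smul_zero, smul_zero, sub_zero]
  have g2 : (2 - α - δ) • c' = 0 := by
    calc (2 - α - δ) • c' = (α - 1) • (γ • b' + (δ - 1) • c') - γ • ((α - 1) • b' + β • c') := by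
          rw [eD]; module
      _ = 0 := by rw [f1, f2, smul_zero, smul_zero, sub_zero]
  have hb0 : b' = 0 := (smul_eq_zero.1 g1).resolve_left hD2
  have hc0 : c' = 0 := (smul_eq_zero.1 g2).resolve_left hD2
  exact hv (by
    have hb1 : (b : M) = 0 := congrArg Subtype.val hb0
    have hc1 : (c : M) = 0 := congrArg Subtype.val hc0
    rw [hb1, hc1, map_zero, add_zero])

end Cfsg.Agent.LAE60.Residue
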