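import Cfsg.Prelude.Def_LocalStructure
import Cfsg.Agent.LAE60.Basic
import Cfsg.Agent.LocalP.PClosed
import Cfsg.Agent.LocalEven.SylowSubnormal
import Cfsg.Agent.LocalEven.CoprimeLemmas

/-!
Transitive families of `p`-minimal or strongly `p`-irreducible subgroups, each normal in their join.
-/

set_option autoImplicit false
set_option linter.unusedVariables false
set_option linter.style.haveILetI false

open Subgroup
open scoped commutatorElement

namespace Cfsg.Agent.LAE60

open Cfsg.Agent.Fusion (cj cj_cj cj_mono cj_eq_of_mem cj_normalizer isPGroup_cj)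
open Cfsg.Agent.LocalEven (three_subgroup_le)

theorem isCoatom_comap_of_surjective {A B : Type*} [Group A] [Group B] (f : A →* B)
    (hf : Function.Surjective f) {K : Subgroup B} (hK : IsCoatom K) : IsCoatom (K.comap f) := by
  refine ⟨fun h => hK.1 ?_, fun L hL => ?_⟩
  · exact Subgroup.comap_injective hf (by rw [h, comap_top])
  · have hker : f.ker ≤ L := le_trans (Subgroup.ker_le_comap f K) hL.le
    have hlt : K < L.map f := by
      refine lt_of_le_of_ne ?_ fun e => hL.ne ?_
      · have := map_mono (f := f) hL.le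
        rwa [map_comap_eq_self_of_surjective hf] at this
      · rw [e, comap_map_eq_self hker]
    have := congrArg (Subgroup.comap f) (hK.2 _ hlt)
    rwa [comap_map_eq_self hker, comap_top] at this

theorem isCoatom_map_of_ker_le {A B : Type*} [Group A] [Group B] (f : A →* B)
    (hf : Function.Surjective f) {K : Subgroup A} (hK : IsCoatom K) (hker : f.ker ≤ K) :
    IsCoatom (K.map f) := by
  refine ⟨fun h => hK.1 ?_, fun L hL => ?_⟩
  · rw [← comap_map_eq_self hker, h, comap_top]
  · have hlt : K < L.comap f := by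
      refine lt_of_le_of_ne ?_ fun e => hL.ne ?_
      · exact map_le_iff_le_comap.1 hL.le
      · rw [e, map_comap_eq_self_of_surjective hf]
    have := congrArg (Subgroup.map f) (hK.2 _ hlt)
    rwa [map_comap_eq_self_of_surjective hf, map_top_of_surjective f hf] at this

variable {X : Type*} [Group X] [Finite X] {p : ℕ} [hp : Fact p.Prime]

/-- The common structure: `X = ⟨𝒦⟩ T`. -/
theorem family_sup_sylow {𝒦 : Set (Subgroup X)} (hres : Cfsg.pResidual p X ≤ sSup 𝒦)
    (T : Sylow p X) : sSup 𝒦 ⊔ (T : Subgroup X) = ⊤ :=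
  top_le_iff.1 ((LocalP.pResidual_sup_eq_top T).ge.trans (sup_le_sup_right hres _))

omit [Finite X] in
theorem family_normal {𝒦 : Set (Subgroup X)} (hinv : ∀ h : X, ∀ E ∈ 𝒦, cj h E ∈ 𝒦) :
    (sSup 𝒦).Normal := by
  refine normalizer_eq_top_iff.1 (top_le_iff.1 (mem_normalizer_of_forall fun g _ x hx => ?_))
  have : (sSup 𝒦).map (MulAut.conj g).toMonoidHom ≤ sSup 𝒦 := by
    rw [map_le_iff_le_comap, sSup_le_iff]
    exact fun E hE => map_le_iff_le_comap.1 (le_sSup (hinv g E hE))
  exact this ⟨x, hx, rfl⟩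

/-- A transitive family of `p`-minimal groups, each normal in the join, gives a `p`-minimal group. -/
theorem family_minimal {𝒦 : Set (Subgroup X)} (hne : 𝒦.Nonempty)
    (hinv : ∀ h : X, ∀ E ∈ 𝒦, cj h E ∈ 𝒦) (htr : ∀ E ∈ 𝒦, ∀ K ∈ 𝒦, ∃ h : X, K = cj h E)
    (hres : Cfsg.pResidual p X ≤ sSup 𝒦) (hn : ∀ E ∈ 𝒦, sSup 𝒦 ≤ normalizer (E : Set X))
    (hmin : ∀ E ∈ 𝒦, ∀ T : Sylow p ↥E, Cfsg.IsMinimalOver (T : Subgroup ↥E)) (T : Sylow p X) :
    Cfsg.IsMinimalOver (T : Subgroup X) := by
  classical
  set R := sSup 𝒦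
  haveI hRn : R.Normal := family_normal hinv
  have hRT : R ⊔ (T : Subgroup X) = ⊤ := family_sup_sylow hres T
  have hsub : ∀ E ∈ 𝒦, E.IsSubnormal := fun E hE =>
    IsSubnormal.step E R (le_sSup hE) hRn.isSubnormal
      (normal_subgroupOf_of_le_normalizer (hn E hE))
  have hidx : ∀ E ∈ 𝒦, ¬ p ∣ ((T : Subgroup X) ⊓ E).relIndex E := fun E hE =>
    LocalEven.not_dvd_relIndex_sylow_inf_subnormal T (hsub E hE)
  have hTE : ∀ E ∈ 𝒦, Cfsg.IsMinimalOver (((T : Subgroup X) ⊓ E).subgroupOf E) := fun E hE => by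
    have := hmin E hE ((T.2.to_inf_left.comap_subtype (K := E)).toSylow (hidx E hE))
    exact this
  -- the maximal subgroup of each member
  have hME : ∀ E ∈ 𝒦, ∃ ME : Subgroup X, ME ≤ E ∧ (T : Subgroup X) ⊓ E ≤ ME ∧ ¬ E ≤ ME ∧
      ∀ W : Subgroup X, (T : Subgroup X) ⊓ E ≤ W → W ≤ E → ¬ E ≤ W → W ≤ ME := by
    intro E hE
    obtain ⟨M0, ⟨hM0, hTM0⟩, -⟩ := (hTE E hE).2
    refine ⟨M0.map E.subtype, map_subtype_le _, ?_, fun h => hM0.1 ?_, fun W hTW hWE hEW => ?_⟩
    · have := map_mono (f := E.subtype) hTM0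
      rwa [subgroupOf_map_subtype, inf_eq_left.2 inf_le_right] at this
    · refine top_le_iff.1 fun e _ => ?_
      obtain ⟨m, hm, hme⟩ := h e.2
      exact (Subtype.ext hme : m = e) ▸ hm
    · have h1 : W.subgroupOf E ≤ M0 :=
        LocalP.le_of_isMinimalOver (hTE E hE) hM0 hTM0 (comap_mono hTW)
          fun h => hEW (subgroupOf_eq_top.1 h)
      have := map_mono (f := E.subtype) h1
      rwa [subgroupOf_map_subtype, inf_eq_left.2 hWE] at this
  choose! ME hMEle hTME hEME hMEmax using hME
  -- equivariance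
  have hequiv : ∀ E ∈ 𝒦, ∀ g : X, cj g ((T : Subgroup X) ⊓ E) = (T : Subgroup X) ⊓ cj g E →
      cj g (ME E) = ME (cj g E) := by
    intro E hE g hg
    have hE' := hinv g E hE
    refine le_antisymm (hMEmax _ hE' _ ?_ (cj_mono g (hMEle E hE)) ?_) ?_
    · rw [← hg]; exact cj_mono g (hTME E hE)
    · exact fun h => hEME E hE ((map_le_map_iff_of_injective (MulAut.conj g).injective).1 h)
    · have h1 : cj g⁻¹ (ME (cj g E)) ≤ ME E := by
        refine hMEmax E hE _ ?_ ?_ ?_
        · rw [Fusion.le_cj_iff, inv_inv, hg]; exact hTME _ hE'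
        · rw [Fusion.cj_le_iff, inv_inv]; exact hMEle _ hE'
        · rw [Fusion.le_cj_iff, inv_inv]; exact hEME _ hE'
      rwa [Fusion.cj_le_iff, inv_inv] at h1
  set Rs : Subgroup X := R ⊓ ⨅ E ∈ 𝒦, normalizer (ME E : Set X) with hRs
  have hRsmem : ∀ x : X, x ∈ Rs ↔ x ∈ R ∧ ∀ E ∈ 𝒦, x ∈ normalizer (ME E : Set X) := fun x => by
    rw [hRs, Subgroup.mem_inf, Subgroup.mem_iInf]
    exact and_congr_right' (forall_congr' fun E => Subgroup.mem_iInf)
  have hRsE : ∀ E ∈ 𝒦, ¬ E ≤ Rs := by
    intro E hE h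
    have h1 : E ≤ normalizer (ME E : Set X) := h.trans (inf_le_right.trans (iInf₂_le E hE))
    haveI : ((ME E).subgroupOf E).Normal := normal_subgroupOf_of_le_normalizer h1
    have h2 : (ME E).subgroupOf E = ⊤ :=
      LocalP.eq_top_of_le_normal_of_normalClosure (hTE E hE).1 (comap_mono (hTME E hE))
    exact hEME E hE (subgroupOf_eq_top.1 h2)
  have hfix : ∀ g ∈ (T : Subgroup X), ∀ E : Subgroup X,
      cj g ((T : Subgroup X) ⊓ E) = (T : Subgroup X) ⊓ cj g E := by
    intro g hg E
    rw [Fusion.cj_inf, cj_eq_of_mem (le_normalizer hg)]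
  have hTR : (T : Subgroup X) ⊓ R ≤ Rs := by
    refine le_inf inf_le_right (le_iInf₂ fun E hE g hg => ?_)
    rw [← Fusion.cj_eq_iff_mem_normalizer, hequiv E hE g (hfix g hg.1 E),
      cj_eq_of_mem (hn E hE hg.2)]
  have hTRs : (T : Subgroup X) ≤ normalizer (Rs : Set X) := by
    refine mem_normalizer_of_forall fun g hg x hx => (hRsmem _).2 ⟨hRn.conj_mem x hx.1 g, ?_⟩
    have hx2 := ((hRsmem x).1 hx).2
    intro E hE
    have h1 : cj g (cj g⁻¹ E) = E := by rw [cj_cj, mul_inv_cancel, Fusion.cj_one]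
    have h2 := hequiv (cj g⁻¹ E) (hinv _ E hE) g (hfix g hg _)
    rw [h1] at h2
    rw [← h2, ← cj_normalizer]
    exact Fusion.conj_mem_cj.2 (hx2 _ (hinv _ E hE))
  have hnotle : ∀ M : Subgroup X, (T : Subgroup X) ≤ M → M ≠ ⊤ → ∀ E ∈ 𝒦, ¬ E ≤ M := by
    intro M hTM hM E hE hEM
    refine hM (top_le_iff.1 (hRT.ge.trans (sup_le (sSup_le fun K hK => ?_) hTM)))
    obtain ⟨g, rfl⟩ := htr E hE K hK
    have hg : g ∈ R ⊔ (T : Subgroup X) := hRT ▸ mem_top g
    rw [← SetLike.mem_coe, normal_mul] at hg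
    obtain ⟨r, hr, t, ht, rfl⟩ := hg
    rw [← cj_cj, cj_eq_of_mem (hn _ (hinv t E hE) hr)]
    exact (cj_mono t hEM).trans (cj_eq_of_mem (le_normalizer (hTM ht))).le
  have hbound : ∀ M : Subgroup X, (T : Subgroup X) ≤ M → M ≠ ⊤ → M ≤ Rs ⊔ (T : Subgroup X) := by
    intro M hTM hM m hm
    have hm' : m ∈ R ⊔ (T : Subgroup X) := hRT ▸ mem_top m
    rw [← SetLike.mem_coe, normal_mul] at hm'
    obtain ⟨r, hr, t, ht, rfl⟩ := hm'
    have hrM : r ∈ M := by simpa using M.mul_mem hm (M.inv_mem (hTM ht))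
    refine mul_mem (mem_sup_left ((hRsmem r).2 ⟨hr, ?_⟩)) (mem_sup_right ht)
    intro E hE
    have hMEle' : M ⊓ E ≤ ME E := hMEmax E hE _ (le_inf (inf_le_left.trans hTM) inf_le_right)
      inf_le_right fun h => hnotle M hTM hM E hE (h.trans inf_le_left)
    have hrME : cj r (M ⊓ E) = M ⊓ E := by
      rw [Fusion.cj_inf, cj_eq_of_mem (le_normalizer hrM), cj_eq_of_mem (hn E hE hr)]
    have hidx1 : ¬ p ∣ ((T : Subgroup X) ⊓ E).relIndex (M ⊓ E) := fun h => hidx E hE
      (h.trans (Dvd.intro _ (relIndex_mul_relIndex _ _ _ (le_inf (inf_le_left.trans hTM) inf_le_right)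
        inf_le_right)))
    have hidx2 : ¬ p ∣ (cj r ((T : Subgroup X) ⊓ E)).relIndex (M ⊓ E) := by
      have e : (cj r ((T : Subgroup X) ⊓ E)).relIndex (cj r (M ⊓ E)) =
          ((T : Subgroup X) ⊓ E).relIndex (M ⊓ E) :=
        relIndex_map_map_of_injective _ _ (MulAut.conj r).injective
      rw [hrME] at e
      rwa [e]
    obtain ⟨y, hy, hye⟩ := Fusion.exists_conj_of_relIndex (isPGroup_cj T.2.to_inf_left r)
      T.2.to_inf_left
      ((cj_mono r (le_inf (inf_le_left.trans hTM) inf_le_right)).trans hrME.le)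
      (le_inf (inf_le_left.trans hTM) inf_le_right) hidx2 hidx1
    rw [cj_cj] at hye
    have hcjE : cj (y * r) E = E := by
      rw [← cj_cj, cj_eq_of_mem (hn E hE hr), cj_eq_of_mem (le_normalizer hy.2)]
    have h2 := hequiv E hE (y * r) (by rw [hcjE, hye])
    rw [hcjE, Fusion.cj_eq_iff_mem_normalizer] at h2
    simpa using mul_mem (inv_mem (le_normalizer (hMEle' hy) : y ∈ normalizer (ME E : Set X))) h2
  have htop : Rs ⊔ (T : Subgroup X) ≠ ⊤ := by
    intro h
    obtain ⟨E, hE⟩ := hne
    refine hRsE E hE fun x hx => ?_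
    have hx' : x ∈ Rs ⊔ (T : Subgroup X) := h ▸ mem_top x
    rw [← SetLike.mem_coe, coe_mul_of_right_le_normalizer_left _ _ hTRs] at hx'
    obtain ⟨r, hr, t, ht, rfl⟩ := hx'
    refine mul_mem hr (hTR ⟨ht, ?_⟩)
    have h1 : r * t ∈ R := le_sSup hE hx
    simpa using R.mul_mem (R.inv_mem hr.1) h1
  refine ⟨?_, ?_⟩
  · -- the normal closure
    set N := normalClosure ((T : Subgroup X) : Set X)
    have hTN : (T : Subgroup X) ≤ N := fun t ht => subset_normalClosure ht
    refine top_le_iff.1 (hRT.ge.trans (sup_le (sSup_le fun E hE => ?_) hTN))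
    have h1 := LocalP.eq_top_of_le_normal_of_normalClosure (N := N.subgroupOf E) (hTE E hE).1
      (comap_mono (inf_le_left.trans hTN))
    exact subgroupOf_eq_top.1 h1
  · obtain ⟨M, hM, hle⟩ := LocalP.exists_le_isCoatom htop
    refine ⟨M, ⟨hM, le_sup_right.trans hle⟩, fun M' ⟨hM', hTM'⟩ => ?_⟩
    by_contra hne'
    rcases eq_or_lt_of_le ((hbound M' hTM' hM'.1).trans hle) with h | h
    · exact hne' h
    · exact hM.1 (hM'.2 M h)

/-- An element normalizing `E` and commuting with it modulo a central `p'`-subgroup centralizes `E`. -/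
theorem centralizes_of_central_mod {E D : Subgroup X} (hDE : D ≤ E)
    (hDc : D ≤ centralizer (E : Set X)) (hD : ∀ d ∈ D, (∃ k : ℕ, d ^ p ^ k = 1) → d = 1)
    (hres : res p E ≤ ⁅res p E, E⁆) {x : X}
    (hx : ∀ e ∈ E, ⁅x, e⁆ ∈ D) : ∀ e ∈ E, x * e = e * x := by
  -- the elements of `E` commuting with `x`
  set Cx : Subgroup X := E ⊓ centralizer ({x} : Set X) with hCx
  have hmem : ∀ e ∈ E, ⁅x, e⁆ = 1 → e ∈ Cx := fun e he h =>
    ⟨he, mem_centralizer_singleton_iff.2 (commutatorElement_eq_one_iff_mul_comm.1 h).symm⟩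
  have hpel : ∀ e ∈ E, (∃ k : ℕ, e ^ p ^ k = 1) → e ∈ Cx := by
    rintro e he ⟨k, hk⟩
    refine hmem e he (hD _ (hx e he) ⟨k, ?_⟩)
    have hd : Commute ⁅x, e⁆ e := (hDc (hx e he) e he).symm
    have h1 : (x * e * x⁻¹) ^ p ^ k = ⁅x, e⁆ ^ p ^ k * e ^ p ^ k := by
      rw [← hd.mul_pow]
      congr 1
      rw [commutatorElement_def]; group
    rw [conj_pow, hk, mul_one, mul_inv_cancel, mul_one] at h1
    exact h1.symm
  have hcom : ⁅E, E⁆ ≤ Cx := by
    refine commutator_le.2 fun a ha b hb => ?_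
    refine hmem _ (commutator_le_self E (commutator_mem_commutator ha hb)) ?_
    have key : ∀ c ∈ E, ∀ f ∈ E, ⁅c, f⁆ = ⁅x * c * x⁻¹, x * f * x⁻¹⁆ := by
      intro c hc f hf
      have e1 : x * c * x⁻¹ = ⁅x, c⁆ * c := by rw [commutatorElement_def]; group
      have e2 : x * f * x⁻¹ = ⁅x, f⁆ * f := by rw [commutatorElement_def]; group
      have hz : ∀ d ∈ D, ∀ g ∈ E, d * g = g * d := fun d hd g hg => (hDc hd g hg).symm
      set z := ⁅x, c⁆
      set w := ⁅x, f⁆
      have hzD : z ∈ D := hx c hc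
      have hwD : w ∈ D := hx f hf
      rw [e1, e2, commutatorElement_def, commutatorElement_def]
      symm
      calc z * c * (w * f) * (z * c)⁻¹ * (w * f)⁻¹
          = z * (c * w) * f * c⁻¹ * z⁻¹ * f⁻¹ * w⁻¹ := by group
        _ = z * (w * c * f * c⁻¹) * z⁻¹ * f⁻¹ * w⁻¹ := by rw [← hz w hwD c hc]; group
        _ = (w * c * f * c⁻¹) * z * z⁻¹ * f⁻¹ * w⁻¹ := by
              rw [hz z hzD _ (mul_mem (mul_mem (mul_mem (hDE hwD) hc) hf) (inv_mem hc))]
        _ = w * (c * f * c⁻¹ * f⁻¹) * w⁻¹ := by group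
        _ = (c * f * c⁻¹ * f⁻¹) * w * w⁻¹ := by
              rw [hz w hwD _ (mul_mem (mul_mem (mul_mem hc hf) (inv_mem hc)) (inv_mem hf))]
        _ = _ := by group
    rw [commutatorElement_eq_one_iff_mul_comm, ← mul_inv_eq_iff_eq_mul]
    refine Eq.trans ?_ (key a ha b hb).symm
    simp only [commutatorElement_def]; group
  obtain ⟨P⟩ := (inferInstance : Nonempty (Sylow p ↥E))
  have hE : E ≤ Cx := by
    have h1 : E ≤ res p E ⊔ (P : Subgroup ↥E).map E.subtype := by
      intro e he
      have h2 : (⟨e, he⟩ : ↥E) ∈ Cfsg.pResidual p ↥E ⊔ (P : Subgroup ↥E) := by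
        rw [LocalP.pResidual_sup_eq_top P]; exact mem_top _
      have := mem_map_of_mem E.subtype h2
      rwa [Subgroup.map_sup] at this
    refine h1.trans (sup_le ?_ ?_)
    · exact hres.trans ((commutator_mono (res_le E) le_rfl).trans hcom)
    · rintro _ ⟨e, he, rfl⟩
      exact hpel _ e.2 (LocalP.exists_pow_eq_one_of_mem (P.2.map E.subtype) ⟨e, he, rfl⟩)
  exact fun e he => (mem_centralizer_singleton_iff.1 (hE he).2).symm

/-- Data attached to a member: `O^p(E) = [O^p(E),E]`, and a normal subgroup of `E` either contains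
`O^p(E)` or is a central `p'`-group. -/
theorem strongly_data {E : Subgroup X} (h : Cfsg.IsStronglyPIrreducible p ↥E)
    (hcore : Cfsg.pCoreOf p E = ⊥) :
    res p E ≤ ⁅res p E, E⁆ ∧ ∀ D : Subgroup X, D ≤ E → E ≤ normalizer (D : Set X) →
      res p E ≤ D ∨ (D ≤ centralizer (E : Set X) ∧ ∀ d ∈ D, (∃ k : ℕ, d ^ p ^ k = 1) → d = 1) := by
  have hc0 : Cfsg.pCore p ↥E = ⊥ := (pCore_eq_bot_iff E).2 hcore
  have key : ∀ D : Subgroup X, D ≤ E → E ≤ normalizer (D : Set X) →
      res p E ≤ D ∨ D ≤ centralizer (E : Set X) := by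
    intro D hDE hn
    by_cases hc : ⁅D.subgroupOf E, (⊤ : Subgroup ↥E)⁆ ≤ Cfsg.pCore p ↥E
    · right
      intro d hd e he
      have h1 := hc (commutator_mem_commutator (show (⟨d, hDE hd⟩ : ↥E) ∈ D.subgroupOf E from hd)
        (mem_top ⟨e, he⟩))
      rw [hc0, mem_bot, commutatorElement_eq_one_iff_mul_comm] at h1
      exact (congrArg Subtype.val h1).symm
    · left
      have := map_mono (f := E.subtype) (h.2 _ (normal_subgroupOf_of_le_normalizer hn) hc)
      rwa [subgroupOf_map_subtype, inf_eq_left.2 hDE] at this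
  have hEr : E ≤ normalizer (res p E : Set X) := le_normalizer_res E
  refine ⟨?_, fun D hDE hn => ?_⟩
  · rcases key ⁅res p E, E⁆ (commutator_le_right_of_le_normalizer
        ((res_le E).trans Subgroup.le_normalizer))
        (le_normalizer_commutator hEr Subgroup.le_normalizer) with h1 | h1
    · exact h1
    · exfalso
      apply h.1
      -- the `p'`-elements centralize every `p`-element
      obtain ⟨P⟩ := (inferInstance : Nonempty (Sylow p ↥E))
      set T := (P : Subgroup ↥E).map E.subtype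
      have hTE : T ≤ E := map_subtype_le _
      have hT : IsPGroup p T := P.2.map _
      have hEres : E ≤ res p E ⊔ T := by
        intro e he
        have h2 : (⟨e, he⟩ : ↥E) ∈ Cfsg.pResidual p ↥E ⊔ (P : Subgroup ↥E) := by
          rw [LocalP.pResidual_sup_eq_top P]; exact mem_top _
        have := mem_map_of_mem E.subtype h2
        rwa [Subgroup.map_sup] at this
      have hcT : res p E ≤ centralizer (T : Set X) := by
        refine res_le_iff.2 fun z hz hzc t ht => ?_
        obtain ⟨k, hk⟩ := LocalP.exists_pow_eq_one_of_mem hT ht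
        set d := ⁅z, t⁆
        have hd : d ∈ ⁅res p E, E⁆ := commutator_mem_commutator (mem_res hz hzc) (hTE ht)
        have hdp : d ^ p ^ k = 1 := by
          have hd1 : Commute d t := (h1 hd t (hTE ht)).symm
          have h3 : (z * t * z⁻¹) ^ p ^ k = d ^ p ^ k * t ^ p ^ k := by
            rw [← hd1.mul_pow]
            congr 1
            simp only [d, commutatorElement_def]; group
          rw [conj_pow, hk, mul_one, mul_inv_cancel, mul_one] at h3
          exact h3.symm
        have hdD : IsPGroup p (zpowers d) := by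
          obtain ⟨j, -, hj⟩ := (Nat.dvd_prime_pow hp.1).1 (orderOf_dvd_of_pow_eq_one hdp)
          exact IsPGroup.of_card (n := j) (by rw [Nat.card_zpowers, hj])
        exact (commute_of_commutator_mem hdD hzc (mem_zpowers d) (h1 hd z hz)).eq.symm
      have hTn : E ≤ normalizer (T : Set X) :=
        hEres.trans (sup_le (hcT.trans (centralizer_le_normalizer' T)) Subgroup.le_normalizer)
      haveI : (P : Subgroup ↥E).Normal := by
        have := normal_subgroupOf_of_le_normalizer hTn
        rwa [show T.subgroupOf E = (P : Subgroup ↥E) from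
          comap_map_eq_self_of_injective E.subtype_injective _] at this
      exact LocalP.isPClosed_of_normal (N := (P : Subgroup ↥E)) P.2 P.not_dvd_index
  · rcases key D hDE hn with h1 | h1
    · exact Or.inl h1
    · refine Or.inr ⟨h1, fun d hd hk => ?_⟩
      have hdp : IsPGroup p (zpowers d) := by
        obtain ⟨k, hk⟩ := hk
        obtain ⟨j, -, hj⟩ := (Nat.dvd_prime_pow hp.1).1 (orderOf_dvd_of_pow_eq_one hk)
        exact IsPGroup.of_card (n := j) (by rw [Nat.card_zpowers, hj])
      have hn2 : E ≤ normalizer ((zpowers d : Subgroup X) : Set X) := by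
        refine le_trans ?_ (centralizer_le_normalizer' _)
        exact mem_centralizer_comm (zpowers_le.2 (h1 hd))
      have := le_pCoreOf (zpowers_le.2 (hDE hd)) hn2 hdp (mem_zpowers d)
      rwa [hcore, mem_bot] at this

/-- A transitive family of strongly `p`-irreducible groups: normal subgroups either contain the
residual or have no `p`-elements; two members have the same residual or commute. -/
theorem family_irreducible {𝒦 : Set (Subgroup X)} (hne : 𝒦.Nonempty)
    (hinv : ∀ h : X, ∀ E ∈ 𝒦, cj h E ∈ 𝒦) (htr : ∀ E ∈ 𝒦, ∀ K ∈ 𝒦, ∃ h : X, K = cj h E)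
    (hres : Cfsg.pResidual p X ≤ sSup 𝒦) (hn : ∀ E ∈ 𝒦, sSup 𝒦 ≤ normalizer (E : Set X))
    (hcore : Cfsg.pCore p X = ⊥) (hirr : ∀ E ∈ 𝒦, Cfsg.IsStronglyPIrreducible p ↥E) :
    (∀ N : Subgroup X, N.Normal →
      Cfsg.pResidual p X ≤ N ∨ ∀ d ∈ N, (∃ k : ℕ, d ^ p ^ k = 1) → d = 1) ∧
    ∀ E ∈ 𝒦, ∀ K ∈ 𝒦, res p E = res p K ∨ ⁅E, K⁆ = ⊥ := by
  classical
  set R := sSup 𝒦
  haveI hRn : R.Normal := family_normal hinv
  have hcoreE : ∀ E ∈ 𝒦, Cfsg.pCoreOf p E = ⊥ := by
    intro E hE
    have hpR : Cfsg.pCoreOf p R = ⊥ := by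
      rw [LocalP.pCoreOf_normal_eq, hcore, inf_bot_eq]
    exact eq_bot_iff.2 (hpR ▸ pCoreOf_le_pCoreOf (le_sSup hE) (hn E hE))
  have hdata := fun E hE => strongly_data (hirr E hE) (hcoreE E hE)
  refine ⟨fun N hN => ?_, fun E hE K hK => ?_⟩
  · by_cases hex : ∃ E ∈ 𝒦, res p E ≤ N
    · left
      obtain ⟨E, hE, hEN⟩ := hex
      obtain ⟨T⟩ := (inferInstance : Nonempty (Sylow p X))
      refine LocalP.pResidual_le_of_sup_eq_top T.2 (top_le_iff.1 ((family_sup_sylow hres T).ge.trans
        (sup_le (sSup_le fun K hK => ?_) le_sup_right)))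
      obtain ⟨g, rfl⟩ := htr E hE K hK
      have hsubK : (cj g E).IsSubnormal := IsSubnormal.step _ R (le_sSup hK) hRn.isSubnormal
        (normal_subgroupOf_of_le_normalizer (hn _ hK))
      refine (le_res_sup T.2.to_inf_left inf_le_right
        (LocalEven.not_dvd_relIndex_sylow_inf_subnormal T hsubK)).trans
        (sup_le (le_trans ?_ le_sup_left) (inf_le_left.trans le_sup_right))
      refine res_le_iff.2 fun z hz hzc => ?_
      obtain ⟨y, hy, rfl⟩ := hz
      refine hN.conj_mem y (hEN (mem_res hy ?_)) g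
      rwa [orderOf_injective _ (MulAut.conj g).injective] at hzc
    · right
      push Not at hex
      have key : ∀ x ∈ N, ∀ E ∈ 𝒦, x ∈ normalizer (E : Set X) → ∀ e ∈ E, x * e = e * x := by
        intro x hx E hE hxE
        obtain ⟨hfix, hcase⟩ := hdata E hE
        obtain ⟨hc, hp'⟩ := (hcase (N ⊓ E) inf_le_right
          (le_normalizer_inf (by rw [normalizer_eq_top]; exact le_top) Subgroup.le_normalizer)).resolve_left
          fun h => hex E hE (h.trans inf_le_left)
        refine centralizes_of_central_mod inf_le_right hc hp' hfix fun e he => ⟨?_, ?_⟩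
        · have h2 : x * (e * x⁻¹ * e⁻¹) ∈ N := N.mul_mem hx (hN.conj_mem _ (N.inv_mem hx) e)
          simpa [commutatorElement_def, mul_assoc] using h2
        · rw [commutatorElement_def]
          exact mul_mem (conj_mem_of_mem_normalizer hxE he) (E.inv_mem he)
      have hcentR : ∀ x ∈ N, (∀ E ∈ 𝒦, x ∈ normalizer (E : Set X)) →
          R ≤ centralizer ({x} : Set X) := fun x hx hxn => sSup_le fun E hE e he =>
        mem_centralizer_singleton_iff.2 (key x hx E hE (hxn E hE) e he).symm
      have hNR : ∀ d ∈ N ⊓ R, (∃ k : ℕ, d ^ p ^ k = 1) → d = 1 := by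
        rintro d hd ⟨k, hk⟩
        have hdp : IsPGroup p (zpowers d) := by
          obtain ⟨j, -, hj⟩ := (Nat.dvd_prime_pow hp.1).1 (orderOf_dvd_of_pow_eq_one hk)
          exact IsPGroup.of_card (n := j) (by rw [Nat.card_zpowers, hj])
        have h1 : R ≤ centralizer ({d} : Set X) := hcentR d hd.1 fun E hE => hn E hE hd.2
        have h2 : R ≤ normalizer ((zpowers d : Subgroup X) : Set X) := by
          refine le_trans ?_ (centralizer_le_normalizer' _)
          rw [zpowers_eq_closure, centralizer_closure]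
          exact h1
        have h3 := le_pCoreOf (zpowers_le.2 hd.2) h2 hdp (mem_zpowers d)
        rw [LocalP.pCoreOf_normal_eq, hcore, inf_bot_eq, mem_bot] at h3
        exact h3
      rintro t ht ⟨k, hk⟩
      have htp : IsPGroup p (zpowers t) := by
        obtain ⟨j, -, hj⟩ := (Nat.dvd_prime_pow hp.1).1 (orderOf_dvd_of_pow_eq_one hk)
        exact IsPGroup.of_card (n := j) (by rw [Nat.card_zpowers, hj])
      obtain ⟨T, hT⟩ := htp.exists_le_sylow
      set W := (T : Subgroup X) ⊓ N
      have htW : t ∈ W := ⟨hT (mem_zpowers t), ht⟩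
      have hRW : R ≤ centralizer (W : Set X) := by
        intro r hr w hw
        refine (mem_centralizer_singleton_iff.1 (hcentR w hw.2 (fun E hE => ?_) hr)).symm
        -- `w` centralizes `T ∩ E`
        have hsubE : E.IsSubnormal := IsSubnormal.step _ R (le_sSup hE) hRn.isSubnormal
          (normal_subgroupOf_of_le_normalizer (hn _ hE))
        have hcomm : ∀ e ∈ (T : Subgroup X) ⊓ E, w * e = e * w := by
          intro e he
          have h1 : ⁅w, e⁆ ∈ N ⊓ R := by
            refine ⟨?_, ?_⟩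
            · have h2 : w * (e * w⁻¹ * e⁻¹) ∈ N := N.mul_mem hw.2 (hN.conj_mem _ (N.inv_mem hw.2) e)
              simpa [commutatorElement_def, mul_assoc] using h2
            · rw [commutatorElement_def]
              exact R.mul_mem (hRn.conj_mem e (le_sSup hE he.2) w) (R.inv_mem (le_sSup hE he.2))
          have h2 : ⁅w, e⁆ ∈ (T : Subgroup X) := by
            rw [commutatorElement_def]
            exact mul_mem (mul_mem (mul_mem hw.1 he.1) (inv_mem hw.1)) (inv_mem he.1)
          exact commutatorElement_eq_one_iff_mul_comm.1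
            (hNR _ h1 (LocalP.exists_pow_eq_one_of_mem T.2 h2))
        have hE' := hinv w E hE
        have hle : (T : Subgroup X) ⊓ E ≤ cj w E := fun e he => by
          rw [Fusion.mem_cj]
          have := hcomm e he
          rw [show w⁻¹ * e * w = w⁻¹ * (e * w) by group, ← this, inv_mul_cancel_left]
          exact he.2
        obtain ⟨hfix, hcase⟩ := hdata E hE
        refine Fusion.cj_eq_iff_mem_normalizer.1 (Eq.symm ?_)
        have hEn : E ≤ normalizer (cj w E : Set X) := (le_sSup hE).trans (hn _ hE')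
        rcases hcase (E ⊓ cj w E) inf_le_left (le_normalizer_inf Subgroup.le_normalizer hEn) with
          hsub | ⟨-, hp'⟩
        · refine eq_of_le_of_card_ge ?_ (le_of_eq (Fusion.card_cj w E))
          exact (le_res_sup T.2.to_inf_left inf_le_right
            (LocalEven.not_dvd_relIndex_sylow_inf_subnormal T hsubE)).trans
            (sup_le (hsub.trans inf_le_right) hle)
        · exfalso
          refine (hirr E hE).1 ?_
          have h0 : (T : Subgroup X) ⊓ E = ⊥ := eq_bot_iff.2 fun e he =>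
            mem_bot.2 (hp' e ⟨he.2, hle he⟩ (LocalP.exists_pow_eq_one_of_mem T.2 he.1))
          have hi := LocalEven.not_dvd_relIndex_sylow_inf_subnormal T hsubE
          rw [h0, relIndex_bot_left] at hi
          refine LocalP.isPClosed_of_normal (N := (⊥ : Subgroup ↥E)) IsPGroup.of_bot ?_
          rwa [index_bot]
      have hWn : N ≤ normalizer (W : Set X) := by
        haveI := hN
        have hidx : ¬ p ∣ W.relIndex N :=
          LocalEven.not_dvd_relIndex_sylow_inf_subnormal T hN.isSubnormal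
        refine (le_res_sup T.2.to_inf_left inf_le_right hidx).trans (sup_le ?_ Subgroup.le_normalizer)
        have h1 : res p N ≤ R := by
          refine res_le_iff.2 fun z hz hzc => hres ?_
          exact subset_closure hzc
        exact (h1.trans hRW).trans (centralizer_le_normalizer' _)
      have h3 := le_pCoreOf inf_le_right hWn T.2.to_inf_left htW
      haveI := hN
      rw [LocalP.pCoreOf_normal_eq] at h3
      rw [hcore, inf_bot_eq, mem_bot] at h3
      exact h3
  · obtain ⟨hfix, hcase⟩ := hdata E hE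
    obtain ⟨hfixK, hcaseK⟩ := hdata K hK
    have hEK : E ≤ normalizer (K : Set X) := (le_sSup hE).trans (hn K hK)
    have hKE : K ≤ normalizer (E : Set X) := (le_sSup hK).trans (hn E hE)
    rcases hcase (E ⊓ K) inf_le_left (le_normalizer_inf Subgroup.le_normalizer hEK) with h1 | ⟨hc, hp'⟩
    · rcases hcaseK (E ⊓ K) inf_le_right (le_normalizer_inf hKE Subgroup.le_normalizer) with
        h2 | ⟨hc, hp'⟩
      · left
        have e1 := res_mono (p := p) (h1.trans inf_le_right)
        have e2 := res_mono (p := p) (h2.trans inf_le_left)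
        rw [res_res] at e1 e2
        exact le_antisymm e1 e2
      · right
        rw [commutator_eq_bot_iff_le_centralizer]
        intro e he k hk
        exact (centralizes_of_central_mod inf_le_right hc hp' hfixK (x := e) (fun k hk =>
          ⟨commutator_le_left_of_le_normalizer hKE (commutator_mem_commutator he hk),
            commutator_le_right_of_le_normalizer hEK (commutator_mem_commutator he hk)⟩) k hk).symm
    · right
      rw [commutator_eq_bot_iff_le_centralizer]
      intro e he k hk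
      exact centralizes_of_central_mod inf_le_left hc hp' hfix (x := k) (fun e he =>
        ⟨commutator_le_right_of_le_normalizer hKE (commutator_mem_commutator hk he),
          commutator_le_left_of_le_normalizer hEK (commutator_mem_commutator hk he)⟩) e he

end Cfsg.Agent.LAE60
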