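import Cfsg.Agent.LAE60.Large

/-!
The residual of the weak closure of a weakly closed subgroup.
-/

set_option autoImplicit false
set_option linter.unusedVariables false

open Subgroup
open scoped commutatorElement

namespace Cfsg.Agent.LAE60

open Cfsg.Agent.Fusion (cj cj_cj cj_eq_of_mem cj_mono)

variable {G : Type*} [Group G] [Finite G] {p : ℕ} [hp : Fact p.Prime]

/-- `X = O^p(X) Q` and `O^p(X) = [O^p(X),Q]` for the weak closure `X` of a weakly closed `Q`. -/
theorem wcs_res_weakClosure {Q L : Subgroup G} (h : Cfsg.IsWeaklyClosedSubgroup p Q) (hQL : Q ≤ L) :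
    ⁅res p (Cfsg.weakClosure Q L), Q⁆ = res p (Cfsg.weakClosure Q L) ∧
      Cfsg.weakClosure Q L ≤ res p (Cfsg.weakClosure Q L) ⊔ Q := by
  set X := Cfsg.weakClosure Q L
  set K := res p X
  have hQX : Q ≤ X := le_weakClosure hQL
  obtain ⟨T, hT1, hT2⟩ := Fusion.exists_sylow_inf_relIndex (wcs_isPGroup h) hQX
  have hKQ : Q ≤ normalizer (K : Set G) := hQX.trans (le_normalizer_res X)
  have hle : X ≤ ⁅K, Q⁆ ⊔ Q := by
    refine weakClosure_le_iff.2 fun g hg => ?_
    obtain ⟨m, hm, hme⟩ := wcs_exists_conj h hQX (cj_le_weakClosure hg)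
    rw [← hme]
    have hm' := le_res_sup T.2.to_inf_left inf_le_right hT2 hm
    rw [← SetLike.mem_coe, Subgroup.coe_mul_of_right_le_normalizer_left _ _
      (inf_le_right.trans (le_normalizer_res X))] at hm'
    obtain ⟨k, hk, t, ht, rfl⟩ := hm'
    show cj (k * t) Q ≤ _
    rw [← cj_cj, cj_eq_of_mem (wcs_le_normalizer h T.2.to_inf_left (le_inf hT1 hQX) ht)]
    exact cj_le_commutator_sup hk
  refine ⟨le_antisymm (commutator_le_left_of_le_normalizer hKQ) ?_,
    hle.trans (sup_le_sup_right (commutator_le_left_of_le_normalizer hKQ) Q)⟩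
  calc K = res p K := (res_res X).symm
    _ ≤ _ := res_le_of_sup (wcs_isPGroup h) ((res_le X).trans hle)
      (right_le_normalizer_commutator K Q)

end Cfsg.Agent.LAE60
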